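import Groth.Agent.Lib.CotT.Homotopy

/-!
# Comparison of presentations
-/

universe u v w t w' t' w'' t'' m

noncomputable section

namespace GrothLib.CotT

open TensorProduct
open _root_.CotT

variable {A : Type u} {B : Type v} [CommRing A] [CommRing B] [Algebra A B]
variable {ι : Type w} {σ : Type t} {ι' : Type w'} {σ' : Type t'} {ι'' : Type w''} {σ'' : Type t''}
variable {P : Algebra.Presentation A B ι σ} {P' : Algebra.Presentation A B ι' σ'}
  {P'' : Algebra.Presentation A B ι'' σ''}

lemma L0map_one_tmul (h : PresHom P P') (r : P.toExtension.Ring) :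
    h.L0map ((1 : B) ⊗ₜ[P.toExtension.Ring] KaehlerDifferential.D A P.toExtension.Ring r) =
      (1 : B) ⊗ₜ[P'.toExtension.Ring] KaehlerDifferential.D A P'.toExtension.Ring (h.ringHom r) := by
  rw [PresHom.L0map_apply, Algebra.Extension.CotangentSpace.map_tmul, map_one]
  rfl

variable (P P') in
lemma exists_presHom : Nonempty (PresHom P P') := by
  let f := Algebra.Generators.defaultHom P.toGenerators P'.toGenerators
  have hf : ∀ s, ∃ g, jmap P' g = f.toExtensionHom.toRingHom (rel P s) := fun s =>
    exists_jmap_eq P' (by rw [f.toExtensionHom.algebraMap_toRingHom, algebraMap_rel, map_zero])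
  choose g hg using hf
  exact ⟨⟨f, g, hg⟩⟩

lemma ringHom_id (r : P.toExtension.Ring) : (PresHom.id P).ringHom r = r :=
  DFunLike.congr_fun (Algebra.Generators.Hom.toAlgHom_id P.toGenerators) r

lemma relModMap_id (f : relMod P) : (PresHom.id P).relModMap f = f := by
  induction f using Finsupp.induction_linear with
  | zero => simp
  | add a b ha hb => rw [map_add, ha, hb]
  | single s r =>
    rw [PresHom.relModMap_single, ringHom_id]
    change r • Finsupp.single s 1 = _
    rw [Finsupp.smul_single, smul_eq_mul, mul_one]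

section

variable (h : PresHom P P') (k : PresHom P' P'')

/-- Composition of morphisms of presentations of one algebra. -/
def compHom : PresHom P P'' where
  hom := k.hom.comp h.hom
  relVal s := k.relModMap (h.relVal s)
  jmap_relVal s := by
    rw [k.jmap_relModMap, h.jmap_relVal]
    exact (Algebra.Generators.Hom.toAlgHom_comp_apply (f := h.hom) (g := k.hom) (x := rel P s)).symm

lemma ringHom_compHom (r : P.toExtension.Ring) : (compHom h k).ringHom r = k.ringHom (h.ringHom r) :=
  Algebra.Generators.Hom.toAlgHom_comp_apply (f := h.hom) (g := k.hom) (x := r)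

lemma relModMap_compHom (f : relMod P) : (compHom h k).relModMap f = k.relModMap (h.relModMap f) := by
  induction f using Finsupp.induction_linear with
  | zero => simp
  | add a b ha hb => rw [map_add, ha, hb, map_add, map_add]
  | single s r =>
    rw [PresHom.relModMap_single, PresHom.relModMap_single, LinearMap.map_smulₛₗ, ringHom_compHom]
    rfl

lemma L0map_compHom_basis (i : ι) :
    (compHom h k).L0map (P.cotangentSpaceBasis i) = k.L0map (h.L0map (P.cotangentSpaceBasis i)) := by
  rw [basis_eq, L0map_one_tmul, L0map_one_tmul, L0map_one_tmul, ringHom_compHom]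

variable (M : Type m) [AddCommGroup M] [Module B M]

lemma T0pull_comp (z : T0 P'' M) : (compHom h k).T0pull M z = h.T0pull M (k.T0pull M z) :=
  Subtype.ext (P.cotangentSpaceBasis.ext fun i => congrArg z.1 (L0map_compHom_basis h k i))

lemma T1pull_comp (z : T1 P'' M) : (compHom h k).T1pull M z = h.T1pull M (k.T1pull M z) := by
  obtain ⟨c, rfl⟩ := Submodule.mkQ_surjective _ z
  refine congrArg (coboundaries1 P M).mkQ (Subtype.ext ((L1basis P).ext fun s => ?_))
  rw [L1basis_apply]
  refine congrArg c.1 ?_
  rw [PresHom.L1map_tmul, relModMap_compHom, PresHom.L1map_tmul, PresHom.L1map_tmul]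
  rfl

lemma T2pull_comp (z : T2 P'' M) : (compHom h k).T2pull M z = h.T2pull M (k.T2pull M z) := by
  obtain ⟨c, rfl⟩ := Submodule.mkQ_surjective _ z
  refine congrArg (LinearMap.range (d2Star P M)).mkQ (LinearMap.ext fun x => ?_)
  obtain ⟨q, rfl⟩ := exists_mk_one_tmul_eq P x
  refine congrArg c ?_
  rw [PresHom.L2map_mk_tmul, PresHom.L2map_mk_tmul, PresHom.L2map_mk_tmul, map_one, map_one]
  exact congrArg (fun q => Submodule.Quotient.mk ((1 : B) ⊗ₜ q)) (Subtype.ext (relModMap_compHom h k q))

lemma T0pull_id (z : T0 P M) : (PresHom.id P).T0pull M z = z := by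
  refine Subtype.ext (P.cotangentSpaceBasis.ext fun i => congrArg z.1 ?_)
  rw [basis_eq, L0map_one_tmul, ringHom_id]

lemma T1pull_id (z : T1 P M) : (PresHom.id P).T1pull M z = z := by
  obtain ⟨c, rfl⟩ := Submodule.mkQ_surjective _ z
  refine congrArg (coboundaries1 P M).mkQ (Subtype.ext ((L1basis P).ext fun s => congrArg c.1 ?_))
  rw [L1basis_apply, PresHom.L1map_tmul, relModMap_id, map_one]

lemma T2pull_id (z : T2 P M) : (PresHom.id P).T2pull M z = z := by
  obtain ⟨c, rfl⟩ := Submodule.mkQ_surjective _ z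
  refine congrArg (LinearMap.range (d2Star P M)).mkQ (LinearMap.ext fun x => ?_)
  obtain ⟨q, rfl⟩ := exists_mk_one_tmul_eq P x
  refine congrArg c ?_
  rw [PresHom.L2map_mk_tmul, map_one]
  exact congrArg (fun q => Submodule.Quotient.mk ((1 : B) ⊗ₜ q)) (Subtype.ext (relModMap_id q.1))

end

variable (h : PresHom P P') (M : Type m) [AddCommGroup M] [Module B M]

theorem T0pull_bijective : Function.Bijective (h.T0pull M) := by
  obtain ⟨k⟩ := exists_presHom P' P
  refine Function.bijective_iff_has_inverse.2 ⟨k.T0pull M, fun z => ?_, fun z => ?_⟩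
  · rw [← T0pull_comp, T0pull_eq (PresHom.id P') (compHom k h), T0pull_id]
  · rw [← T0pull_comp, T0pull_eq (PresHom.id P) (compHom h k), T0pull_id]

theorem T1pull_bijective : Function.Bijective (h.T1pull M) := by
  obtain ⟨k⟩ := exists_presHom P' P
  refine Function.bijective_iff_has_inverse.2 ⟨k.T1pull M, fun z => ?_, fun z => ?_⟩
  · rw [← T1pull_comp, T1pull_eq (PresHom.id P') (compHom k h), T1pull_id]
  · rw [← T1pull_comp, T1pull_eq (PresHom.id P) (compHom h k), T1pull_id]

theorem T2pull_bijective : Function.Bijective (h.T2pull M) := by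
  obtain ⟨k⟩ := exists_presHom P' P
  refine Function.bijective_iff_has_inverse.2 ⟨k.T2pull M, fun z => ?_, fun z => ?_⟩
  · rw [← T2pull_comp, T2pull_eq (PresHom.id P') (compHom k h), T2pull_id]
  · rw [← T2pull_comp, T2pull_eq (PresHom.id P) (compHom h k), T2pull_id]

variable (P P')

theorem nonempty_linearEquiv :
    Nonempty (T0 P M ≃ₗ[B] T0 P' M) ∧ Nonempty (T1 P M ≃ₗ[B] T1 P' M) ∧ Nonempty (T2 P M ≃ₗ[B] T2 P' M) := by
  obtain ⟨k⟩ := exists_presHom P' P
  exact ⟨⟨LinearEquiv.ofBijective _ (T0pull_bijective k M)⟩, ⟨LinearEquiv.ofBijective _ (T1pull_bijective k M)⟩,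
    ⟨LinearEquiv.ofBijective _ (T2pull_bijective k M)⟩⟩

theorem subsingleton_T1_iff : Subsingleton (T1 P M) ↔ Subsingleton (T1 P' M) := by
  obtain ⟨e⟩ := (nonempty_linearEquiv P P' M).2.1
  exact e.toEquiv.subsingleton_congr

theorem subsingleton_T2_iff : Subsingleton (T2 P M) ↔ Subsingleton (T2 P' M) := by
  obtain ⟨e⟩ := (nonempty_linearEquiv P P' M).2.2
  exact e.toEquiv.subsingleton_congr

end GrothLib.CotT
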