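import Groth.Agent.Lib.CotT.SqZeroExtension
import Mathlib.RingTheory.Smooth.Locus
import Mathlib.Algebra.Module.LocalizedModule.Basic

/-!
# Powers of an element killing `T¹`
-/

universe u m

noncomputable section

namespace GrothLib.CotT

open _root_.CotT TensorProduct

variable {A B : Type u} [CommRing A] [CommRing B] [Algebra A B]

theorem subsingleton_T1_of_isLocalization (S : Submonoid B) (B' : Type u) [CommRing B'] [Algebra B B']
    [IsLocalization S B'] (M : Type u) [AddCommGroup M] [Module B' M] :
    Subsingleton (T1 (canon B B') M) := by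
  haveI : Algebra.FormallyEtale B B' := .of_isLocalization S
  exact subsingleton_T1_of_formallySmooth (canon B B') M

/-- A power of `t` uniformly kills `T¹` when the algebra is smooth where `t` is invertible. -/
theorem exists_pow_kills (P : Algebra.Extension.{u} A B) [Module.Finite B P.Cotangent]
    [Module.Finite B P.CotangentSpace] [Module.Projective B P.CotangentSpace]
    (t : B) [Algebra.FormallySmooth A (Localization.Away t)] :
    ∃ (n : ℕ) (w : P.CotangentSpace →ₗ[B] P.Cotangent), w ∘ₗ P.cotangentComplex = t ^ n • LinearMap.id := by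
  let S := Submonoid.powers t
  let Bt := Localization.Away t
  let Ct := LocalizedModule S P.Cotangent
  let ι : P.Cotangent →ₗ[B] Ct := LocalizedModule.mkLinearMap S _
  letI : Module Bt Ct := inferInstanceAs (Module (Localization S) (LocalizedModule S P.Cotangent))
  haveI : IsScalarTower B Bt Ct := inferInstanceAs (IsScalarTower B (Localization S) (LocalizedModule S P.Cotangent))
  haveI : IsLocalization S Bt := inferInstanceAs (IsLocalization.Away t (Localization.Away t))
  obtain ⟨w, hw⟩ := exists_factor_of_subsingleton_T1 P Ct (subsingleton_T1_of_localization S Bt Ct) ι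
  haveI : Module.FinitePresentation B P.CotangentSpace := Module.finitePresentation_of_projective B _
  obtain ⟨w₀, s, hs⟩ := Module.FinitePresentation.exists_lift_of_isLocalizedModule S ι w
  obtain ⟨a, ha⟩ : ∃ a, t ^ a = (s : B) := s.2
  have h1 : ∀ x, ∃ b : ℕ, t ^ b • (w₀ (P.cotangentComplex x) - t ^ a • x) = 0 := fun x => by
    have h0 : ι (w₀ (P.cotangentComplex x) - t ^ a • x) = 0 := by
      rw [map_sub, map_smul, sub_eq_zero, ha]
      exact (LinearMap.congr_fun hs _).trans (congrArg (fun z => (s : B) • z) (LinearMap.congr_fun hw x))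
    obtain ⟨⟨c, b, hb⟩, hc⟩ := (IsLocalizedModule.eq_zero_iff S ι).1 h0
    exact ⟨b, by rw [show t ^ b = c from hb]; exact hc⟩
  obtain ⟨G, hG⟩ := Module.Finite.fg_top (R := B) (M := P.Cotangent)
  choose b hb using h1
  let N := G.sup b
  refine ⟨N + a, t ^ N • w₀, ?_⟩
  refine LinearMap.ext_on (s := (G : Set P.Cotangent)) hG fun x hx => ?_
  change t ^ N • w₀ (P.cotangentComplex x) = t ^ (N + a) • x
  rw [pow_add, mul_smul, ← sub_eq_zero, ← smul_sub]
  obtain ⟨c, hc⟩ := Nat.exists_eq_add_of_le (Finset.le_sup (f := b) (Finset.mem_coe.1 hx) : b x ≤ N)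
  rw [show N = b x + c from hc, pow_add, mul_comm, mul_smul, hb, smul_zero]

theorem smul_T1_eq_zero {ι σ : Type*} (P : Algebra.Presentation A B ι σ) (M : Type m) [AddCommGroup M] [Module B M]
    (r : B) (w : L0 P →ₗ[B] P.toExtension.Cotangent) (hw : w ∘ₗ P.toExtension.cotangentComplex = r • LinearMap.id)
    (z : T1 P M) : r • z = 0 := by
  obtain ⟨φ, rfl⟩ := homToT1_surjective P M z
  rw [← map_smul, ← LinearMap.mem_ker, ker_homToT1]
  refine ⟨φ ∘ₗ w, ?_⟩
  rw [LinearMap.lcomp_apply', LinearMap.comp_assoc, hw, LinearMap.comp_smul, LinearMap.comp_id]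

/-- If a power of `t` kills `T¹(-, I/I²)`, the algebra is smooth away from `t`. -/
theorem formallySmooth_away_of_kills {ι σ : Type*} (P : Algebra.Presentation A B ι σ) (t : B) (n : ℕ)
    (h : ∀ z : T1 P P.toExtension.Cotangent, t ^ n • z = 0) :
    Algebra.FormallySmooth A (Localization.Away t) := by
  have h0 := h (homToT1 P _ LinearMap.id)
  rw [← map_smul, ← LinearMap.mem_ker, ker_homToT1] at h0
  obtain ⟨w, hw⟩ := h0
  rw [LinearMap.lcomp_apply'] at hw
  refine formallySmooth_of_subsingleton_T1 A (Localization.Away t) fun M _ _ => ?_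
  letI : Module B M := Module.compHom M (algebraMap B (Localization.Away t))
  haveI : IsScalarTower B (Localization.Away t) M := ⟨fun x y z => by rw [Algebra.smul_def, mul_smul]; rfl⟩
  obtain ⟨-, -, hex, -⟩ := nineTerm (A := A) (B := B) (C := Localization.Away t) M
  haveI := subsingleton_T1_of_isLocalization (Submonoid.powers t) (Localization.Away t) M
  haveI : Subsingleton (T1 (canon A B) M) := (subsingleton_T1_iff (canon A B) P M).2 <| subsingleton_of_forall_eq 0 fun z => by
    obtain ⟨φ, rfl⟩ := homToT1_surjective P M z
    obtain ⟨v, hv⟩ := (IsLocalization.map_units (Localization.Away t)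
      (⟨t ^ n, n, rfl⟩ : Submonoid.powers t)).exists_left_inv
    let χ : M →ₗ[B] M :=
      { toFun := fun x => v • x
        map_add' := smul_add v
        map_smul' := fun b x => by
          rw [RingHom.id_apply, ← IsScalarTower.algebraMap_smul (Localization.Away t) b x,
            ← IsScalarTower.algebraMap_smul (Localization.Away t) b (v • x), smul_comm] }
    rw [← LinearMap.mem_ker, ker_homToT1]
    refine ⟨χ ∘ₗ φ ∘ₗ w, LinearMap.ext fun c => ?_⟩
    have h1 : w (P.toExtension.cotangentComplex c) = t ^ n • c := LinearMap.congr_fun hw c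
    change v • φ (w (P.toExtension.cotangentComplex c)) = φ c
    rw [h1, map_smul, ← IsScalarTower.algebraMap_smul (Localization.Away t) (t ^ n) (φ c), smul_smul, hv, one_smul]
  refine subsingleton_of_forall_eq 0 fun z => ?_
  obtain ⟨x, rfl⟩ := (hex z).1 (Subsingleton.elim _ _)
  rw [Subsingleton.elim x 0, map_zero]

theorem mem_smoothLocus_away_iff [IsNoetherianRing A] [Algebra.FiniteType A B] (t : B) :
    (∀ q : PrimeSpectrum B, t ∉ q.asIdeal → q ∈ Algebra.smoothLocus A B) ↔
    ∃ n₀ : ℕ, ∀ (M : Type u) [AddCommGroup M] [Module B M] [Module.Finite B M],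
      ∀ x : T1 (canon A B) M, t ^ n₀ • x = 0 := by
  haveI : Algebra.FinitePresentation A B := Algebra.FinitePresentation.of_finiteType.1 inferInstance
  let P := Algebra.Presentation.ofFinitePresentation A B
  haveI : Module.Finite P.toExtension.Ring P.toExtension.ker :=
    Module.Finite.of_fg ((show IsNoetherianRing P.toExtension.Ring from
      (inferInstance : IsNoetherianRing (MvPolynomial _ A))).noetherian _)
  haveI : Module.Finite P.toExtension.Ring P.toExtension.Cotangent :=
    Module.Finite.of_surjective _ Algebra.Extension.Cotangent.mk_surjective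
  haveI : Module.Finite B P.toExtension.Cotangent := Module.Finite.of_restrictScalars_finite P.toExtension.Ring _ _
  haveI : Module.Free B P.toExtension.CotangentSpace := Module.Free.of_basis P.cotangentSpaceBasis
  haveI : Module.Finite B P.toExtension.CotangentSpace := Module.Finite.of_basis P.cotangentSpaceBasis
  constructor
  · intro h
    haveI : Algebra.Smooth A (Localization.Away t) :=
      Algebra.basicOpen_subset_smoothLocus_iff_smooth.1 fun q hq => h q hq
    obtain ⟨n, w, hw⟩ := exists_pow_kills P.toExtension t
    refine ⟨n, fun M _ _ _ x => ?_⟩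
    obtain ⟨e⟩ := (nonempty_linearEquiv (canon A B) P M).2.1
    exact e.injective (by rw [map_smul, smul_T1_eq_zero P M _ w hw, map_zero])
  · rintro ⟨n, hn⟩ q hq
    haveI : Algebra.FormallySmooth A (Localization.Away t) := formallySmooth_away_of_kills P t n fun z => by
      obtain ⟨e⟩ := (nonempty_linearEquiv P (canon A B) P.toExtension.Cotangent).2.1
      exact e.injective (by rw [map_smul, hn, map_zero])
    haveI : Algebra.Smooth A (Localization.Away t) := ⟨inferInstance, inferInstance⟩
    exact Algebra.basicOpen_subset_smoothLocus_iff_smooth.2 inferInstance hq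

end GrothLib.CotT
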