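import Groth.Prelude.Def_CotT2

/-!
# Basic facts on the cotangent complex of a presentation
-/

universe u v w t m

noncomputable section

namespace GrothLib.CotT

open TensorProduct
open _root_.CotT

variable {A : Type u} {B : Type v} {ι : Type w} {σ : Type t}
variable [CommRing A] [CommRing B] [Algebra A B] (P : Algebra.Presentation A B ι σ)

lemma algebraMap_surjective : Function.Surjective (algebraMap P.toExtension.Ring B) :=
  P.toExtension.algebraMap_surjective

lemma exists_jmap_eq {x : P.toExtension.Ring} (hx : algebraMap P.toExtension.Ring B x = 0) :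
    ∃ f, jmap P f = x := by
  have : x ∈ LinearMap.range (jmap P) := (range_jmap P).ge hx
  exact this

lemma exists_one_tmul_eq (z : L1 P) : ∃ f : relMod P, (1 : B) ⊗ₜ f = z := by
  induction z using TensorProduct.induction_on with
  | zero => exact ⟨0, tmul_zero _ _⟩
  | add x y hx hy =>
    obtain ⟨f, rfl⟩ := hx
    obtain ⟨g, rfl⟩ := hy
    exact ⟨f + g, tmul_add _ _ _⟩
  | tmul b f =>
    obtain ⟨r, rfl⟩ := algebraMap_surjective P b
    exact ⟨r • f, by rw [tmul_smul, smul_tmul', Algebra.smul_def, mul_one]⟩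

lemma exists_mk_one_tmul_eq (z : L2 P) : ∃ q : relKer P, Submodule.Quotient.mk ((1 : B) ⊗ₜ q) = z := by
  obtain ⟨z, rfl⟩ := Submodule.Quotient.mk_surjective _ z
  induction z using TensorProduct.induction_on with
  | zero => exact ⟨0, by rw [tmul_zero]⟩
  | add x y hx hy =>
    obtain ⟨f, hf⟩ := hx
    obtain ⟨g, hg⟩ := hy
    exact ⟨f + g, by rw [tmul_add, Submodule.Quotient.mk_add, hf, hg, Submodule.Quotient.mk_add]⟩
  | tmul b f =>
    obtain ⟨r, rfl⟩ := algebraMap_surjective P b
    exact ⟨r • f, by rw [tmul_smul, smul_tmul', Algebra.smul_def, mul_one]⟩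

lemma tmul_smul_eq (r : P.toExtension.Ring) (f : relMod P) :
    (1 : B) ⊗ₜ (r • f) = algebraMap P.toExtension.Ring B r • ((1 : B) ⊗ₜ f : L1 P) := by
  rw [tmul_smul, smul_tmul', Algebra.smul_def, smul_tmul', smul_eq_mul]

/-- A trivial relation dies in `L₂`. -/
lemma mk_one_tmul_eq_zero {q : relKer P} (h : (q : relMod P) ∈ trivRel P) :
    (Submodule.Quotient.mk ((1 : B) ⊗ₜ q) : L2 P) = 0 :=
  (Submodule.Quotient.mk_eq_zero _).2 ⟨(1 : B) ⊗ₜ ⟨q, h⟩, rfl⟩

lemma toCot_surjective : Function.Surjective (toCot P) := fun c => by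
  obtain ⟨⟨x, hx⟩, rfl⟩ := Algebra.Extension.Cotangent.mk_surjective c
  obtain ⟨f, hf⟩ := exists_jmap_eq P hx
  refine ⟨(1 : B) ⊗ₜ f, ?_⟩
  rw [toCot_tmul, one_smul]
  exact congrArg _ (Subtype.ext hf)

lemma ker_toCot : LinearMap.ker (toCot P) = LinearMap.range (d2 P) := by
  refine le_antisymm (fun z hz => ?_) (LinearMap.range_le_ker_iff.2 (toCot_comp_d2 P))
  obtain ⟨f, rfl⟩ := exists_one_tmul_eq P z
  rw [LinearMap.mem_ker, toCot_tmul, one_smul, Algebra.Extension.Cotangent.mk_eq_zero_iff] at hz
  have hg : ∃ g : relMod P, (1 : B) ⊗ₜ g = (0 : L1 P) ∧ jmap P g = jmap P f := by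
    have h2 : jmap P f ∈ P.toExtension.ker * P.toExtension.ker := by rwa [← pow_two]
    generalize jmap P f = x at h2
    refine Submodule.mul_induction_on h2 (fun a ha b hb => ?_) ?_
    · obtain ⟨g, rfl⟩ := exists_jmap_eq P hb
      refine ⟨a • g, ?_, by rw [map_smul, smul_eq_mul]⟩
      rw [tmul_smul_eq, show algebraMap P.toExtension.Ring B a = 0 from ha, zero_smul]
    · rintro a b ⟨g, hg, rfl⟩ ⟨g', hg', rfl⟩
      exact ⟨g + g', by rw [tmul_add, hg, hg', add_zero], map_add _ _ _⟩
  obtain ⟨g, hg0, hg⟩ := hg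
  refine ⟨Submodule.Quotient.mk ((1 : B) ⊗ₜ (⟨f - g, ?_⟩ : relKer P)), ?_⟩
  · change jmap P (f - g) = 0
    rw [map_sub, hg, sub_self]
  · rw [d2_mk_tmul, tmul_sub, hg0, sub_zero]

variable (M : Type m) [AddCommGroup M] [Module B M]

lemma ker_d1Star :
    LinearMap.ker (d1Star P M) = LinearMap.ker (LinearMap.lcomp B M P.toExtension.cotangentComplex) := by
  ext φ
  simp only [LinearMap.mem_ker, d1Star_apply, LinearMap.lcomp_apply', d1, ← LinearMap.comp_assoc]
  exact ⟨fun h => LinearMap.ext fun x => by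
    obtain ⟨y, rfl⟩ := toCot_surjective P x
    exact LinearMap.congr_fun h y, fun h => by rw [h, LinearMap.zero_comp]⟩

/-- Cocycles factor through the conormal module. -/
lemma exists_comp_toCot_eq {c : L1 P →ₗ[B] M} (h : c ∘ₗ d2 P = 0) :
    ∃ φ : P.toExtension.Cotangent →ₗ[B] M, φ ∘ₗ toCot P = c := by
  let e := (toCot P).quotKerEquivOfSurjective (toCot_surjective P)
  have hle : LinearMap.ker (toCot P) ≤ LinearMap.ker c := by
    rw [ker_toCot, LinearMap.range_le_ker_iff]
    exact h
  refine ⟨(Submodule.liftQ _ c hle) ∘ₗ e.symm.toLinearMap, LinearMap.ext fun x => ?_⟩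
  · change Submodule.liftQ _ c hle (e.symm (toCot P x)) = c x
    rw [show toCot P x = e (Submodule.Quotient.mk x) from rfl, e.symm_apply_apply]
    rfl

lemma homToT1_surjective : Function.Surjective (homToT1 P M) := fun z => by
  obtain ⟨⟨c, hc⟩, rfl⟩ := Submodule.mkQ_surjective _ z
  obtain ⟨φ, hφ⟩ := exists_comp_toCot_eq P M (c := c) hc
  exact ⟨φ, congrArg (coboundaries1 P M).mkQ (Subtype.ext hφ)⟩

lemma ker_homToT1 : LinearMap.ker (homToT1 P M) =
    LinearMap.range (LinearMap.lcomp B M P.toExtension.cotangentComplex) := by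
  ext φ
  rw [LinearMap.mem_ker]
  change Submodule.Quotient.mk _ = 0 ↔ _
  rw [Submodule.Quotient.mk_eq_zero]
  constructor
  · rintro ⟨ψ, hψ⟩
    refine ⟨ψ, LinearMap.ext fun x => ?_⟩
    obtain ⟨y, rfl⟩ := toCot_surjective P x
    exact LinearMap.congr_fun hψ y
  · rintro ⟨ψ, rfl⟩
    exact ⟨ψ, rfl⟩

variable [Module A M] [IsScalarTower A B M]

lemma derToT0_bijective : Function.Bijective (derToT0 P M) := by
  constructor
  · intro D D' h
    refine Derivation.ext fun b => ?_
    obtain ⟨r, rfl⟩ := algebraMap_surjective P b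
    have h1 := LinearMap.congr_fun (congrArg Subtype.val h)
      ((1 : B) ⊗ₜ KaehlerDifferential.D A P.toExtension.Ring r)
    simpa using h1
  · rintro ⟨ψ, hψ⟩
    rw [ker_d1Star, LinearMap.mem_ker] at hψ
    let g : P.toExtension.Ring → M := fun r => ψ ((1 : B) ⊗ₜ KaehlerDifferential.D A P.toExtension.Ring r)
    have hg0 : ∀ r, algebraMap P.toExtension.Ring B r = 0 → g r = 0 := fun r hr => by
      have h1 := LinearMap.congr_fun hψ (Algebra.Extension.Cotangent.mk ⟨r, hr⟩)
      simpa [g, Algebra.Extension.cotangentComplex_mk] using h1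
    have hga : ∀ r r', g (r + r') = g r + g r' := fun r r' => by
      simp only [g, map_add, tmul_add]
    have hgd : ∀ r r', algebraMap P.toExtension.Ring B r = algebraMap P.toExtension.Ring B r' → g r = g r' :=
      fun r r' h => by
        have h1 := hga (r - r') r'
        rw [sub_add_cancel, hg0 (r - r') (by rw [map_sub, h, sub_self]), zero_add] at h1
        exact h1
    let s := Function.surjInv (algebraMap_surjective P)
    have hs : ∀ b, algebraMap P.toExtension.Ring B (s b) = b := Function.surjInv_eq _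
    have hmul : ∀ r r', g (r * r') = algebraMap P.toExtension.Ring B r • g r' +
        algebraMap P.toExtension.Ring B r' • g r := fun r r' => by
      simp only [g, Derivation.leibniz, tmul_add, tmul_smul, map_add, ← map_smul, smul_tmul',
        Algebra.smul_def, Algebra.algebraMap_self, RingHom.id_apply, mul_one, smul_eq_mul]
    have halg : ∀ a : A, g (algebraMap A P.toExtension.Ring a) = 0 := fun a => by
      simp only [g, Derivation.map_algebraMap, tmul_zero, map_zero]
    let L : B →ₗ[A] M :=
      { toFun := fun b => g (s b)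
        map_add' := fun b b' => by rw [← hga]; exact hgd _ _ (by rw [map_add, hs, hs, hs])
        map_smul' := fun a b => by
          rw [RingHom.id_apply, hgd (s (a • b)) (algebraMap A P.toExtension.Ring a * s b)
            (by rw [map_mul, hs, hs, ← IsScalarTower.algebraMap_apply, Algebra.smul_def]), hmul, halg,
            smul_zero, add_zero, ← IsScalarTower.algebraMap_apply, algebraMap_smul] }
    refine ⟨Derivation.mk' L fun b b' => ?_, Subtype.ext (P.cotangentSpaceBasis.ext fun i => ?_)⟩
    · change g (s (b * b')) = b • g (s b') + b' • g (s b)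
      rw [hgd (s (b * b')) (s b * s b') (by rw [map_mul, hs, hs, hs]), hmul, hs, hs]
    · rw [derToT0_apply, derLift_basis, Algebra.Generators.cotangentSpaceBasis_apply]
      exact hgd _ (MvPolynomial.X i) (by rw [hs, algebraMap_toExtension, MvPolynomial.aeval_X])

end GrothLib.CotT
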