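import Groth.Agent.Lib.CotT.Basic
import Mathlib.Algebra.Module.Projective

/-!
# The long exact sequence in the coefficients
-/

universe u v w t m

noncomputable section

namespace GrothLib.CotT

open TensorProduct
open _root_.CotT

variable {A : Type u} {B : Type v} {ι : Type w} {σ : Type t}
variable [CommRing A] [CommRing B] [Algebra A B] (P : Algebra.Presentation A B ι σ)

/-- Maps out of a basis lift along surjections. -/
lemma exists_lift_of_basis {κ : Type*} {L M N : Type*} [AddCommGroup L] [Module B L] [AddCommGroup M]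
    [Module B M] [AddCommGroup N] [Module B N] (b : Module.Basis κ B L) (g : M →ₗ[B] N)
    (hg : Function.Surjective g) (φ : L →ₗ[B] N) : ∃ ψ : L →ₗ[B] M, g ∘ₗ ψ = φ :=
  ⟨b.constr B fun i => Function.surjInv hg (φ (b i)), b.ext fun i => by
    rw [LinearMap.comp_apply, Module.Basis.constr_basis, Function.surjInv_eq hg]⟩

/-- Maps killed by `g` factor through `f`. -/
lemma exists_factor {L M' M M'' : Type*} [AddCommGroup L] [Module B L] [AddCommGroup M'] [Module B M']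
    [AddCommGroup M] [Module B M] [AddCommGroup M''] [Module B M''] {f : M' →ₗ[B] M} {g : M →ₗ[B] M''}
    (hf : Function.Injective f) (hfg : Function.Exact f g) (φ : L →ₗ[B] M) (h : g ∘ₗ φ = 0) :
    ∃ ψ : L →ₗ[B] M', f ∘ₗ ψ = φ := by
  let e := LinearEquiv.ofInjective f hf
  let φ' : L →ₗ[B] LinearMap.range f := φ.codRestrict _ fun x =>
    (hfg (φ x)).1 (LinearMap.congr_fun h x)
  refine ⟨e.symm.toLinearMap ∘ₗ φ', LinearMap.ext fun x => ?_⟩
  exact congrArg Subtype.val (e.apply_symm_apply (φ' x))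

/-- Connecting maps. -/
lemma exists_delta {U U'' V' V : Type*} [AddCommGroup U] [Module B U] [AddCommGroup U''] [Module B U'']
    [AddCommGroup V'] [Module B V'] [AddCommGroup V] [Module B V] {G : U →ₗ[B] U''} (hG : ∀ k, ∃ u, G u = k)
    {F : V' →ₗ[B] V} (hF : Function.Injective F) {d : U →ₗ[B] V} (K : Submodule B U'')
    (hK : ∀ u, G u ∈ K → ∃ v, F v = d u) {Q : Type*} [AddCommGroup Q] [Module B Q] (π : V' →ₗ[B] Q)
    (hker : ∀ u v, G u = 0 → F v = d u → π v = 0) :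
    ∃ δ : K →ₗ[B] Q, ∀ (k : K) u v, G u = k.1 → F v = d u → δ k = π v := by
  choose s hs using hG
  choose t ht using hK
  have key : ∀ (k : K) u v, G u = k.1 → F v = d u → π (t (s k.1) ((hs k.1).symm ▸ k.2)) = π v := by
    intro k u v hu hv
    rw [← sub_eq_zero, ← map_sub]
    exact hker (s k.1 - u) _ (by rw [map_sub, hs, hu, sub_self]) (by rw [map_sub, map_sub, ht, hv])
  refine ⟨{ toFun := fun k => π (t (s k.1) ((hs k.1).symm ▸ k.2))
            map_add' := fun a b => ?_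
            map_smul' := fun c a => ?_ }, key⟩
  · rw [key (a + b) (s a.1 + s b.1) (t _ ((hs a.1).symm ▸ a.2) + t _ ((hs b.1).symm ▸ b.2))
      (by rw [map_add, hs, hs]; rfl) (by rw [map_add, map_add, ht, ht]), map_add]
  · rw [key (c • a) (c • s a.1) (c • t _ ((hs a.1).symm ▸ a.2))
      (by rw [map_smul, hs]; rfl) (by rw [map_smul, map_smul, ht]), map_smul, RingHom.id_apply]

section

variable {M' M M'' : Type m} [AddCommGroup M'] [Module B M'] [AddCommGroup M] [Module B M]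
  [AddCommGroup M''] [Module B M''] {f : M' →ₗ[B] M} {g : M →ₗ[B] M''}

lemma cancel_left {L : Type*} [AddCommGroup L] [Module B L] (hf : Function.Injective f)
    {x y : L →ₗ[B] M'} (h : f ∘ₗ x = f ∘ₗ y) : x = y :=
  LinearMap.ext fun z => hf (LinearMap.congr_fun h z)

lemma comp_eq_zero (hfg : Function.Exact f g) {L : Type*} [AddCommGroup L] [Module B L] (x : L →ₗ[B] M') :
    g ∘ₗ f ∘ₗ x = 0 := LinearMap.ext fun z => hfg.apply_apply_eq_zero (x z)

theorem longExact (hf : Function.Injective f) (hg : Function.Surjective g) (hfg : Function.Exact f g) :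
    Function.Injective (T0map P f) ∧ Function.Exact (T0map P f) (T0map P g) ∧
      Function.Exact (T1map P f) (T1map P g) ∧ Function.Exact (T2map P f) (T2map P g) ∧
      ∃ (δ₀ : T0 P M'' →ₗ[B] T1 P M') (δ₁ : T1 P M'' →ₗ[B] T2 P M'),
        Function.Exact (T0map P g) δ₀ ∧ Function.Exact δ₀ (T1map P f) ∧
        Function.Exact (T1map P g) δ₁ ∧ Function.Exact δ₁ (T2map P f) := by
  let b0 := P.cotangentSpaceBasis
  let b1 := L1basis P
  refine ⟨fun x y h => Subtype.ext (cancel_left hf (congrArg Subtype.val h)), fun x => ⟨fun h => ?_, ?_⟩,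
    fun x => ⟨?_, ?_⟩, fun x => ⟨?_, ?_⟩, ?_⟩
  · obtain ⟨ψ, hψ⟩ := exists_factor hf hfg (x : L0 P →ₗ[B] M) (congrArg Subtype.val h)
    refine ⟨⟨ψ, cancel_left hf ?_⟩, Subtype.ext hψ⟩
    rw [d1Star_apply, ← LinearMap.comp_assoc, hψ, LinearMap.comp_zero]
    exact x.2
  · rintro ⟨y, rfl⟩
    exact Subtype.ext (comp_eq_zero hfg _)
  · obtain ⟨⟨c, hc⟩, rfl⟩ := Submodule.mkQ_surjective _ x
    intro h
    obtain ⟨p, hp⟩ := (Submodule.Quotient.mk_eq_zero _).1 h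
    obtain ⟨q, hq⟩ := exists_lift_of_basis b0 g hg p
    have hp' : p ∘ₗ d1 P = g ∘ₗ c := hp
    obtain ⟨ψ, hψ⟩ := exists_factor hf hfg (c - q ∘ₗ d1 P) (by
      rw [LinearMap.comp_sub, ← LinearMap.comp_assoc, hq, hp', sub_self])
    refine ⟨Submodule.Quotient.mk ⟨ψ, cancel_left hf ?_⟩, ?_⟩
    · rw [d2Star_apply, ← LinearMap.comp_assoc, hψ, LinearMap.sub_comp, LinearMap.comp_assoc, d1_comp_d2,
        LinearMap.comp_zero, sub_zero, LinearMap.comp_zero]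
      exact hc
    · refine (Submodule.Quotient.eq _).2 ⟨-q, ?_⟩
      change (-q) ∘ₗ d1 P = f ∘ₗ ψ - c
      rw [hψ, LinearMap.neg_comp]; abel
  · rintro ⟨y, rfl⟩
    obtain ⟨y, rfl⟩ := Submodule.mkQ_surjective _ y
    refine (Submodule.Quotient.mk_eq_zero _).2 ⟨0, ?_⟩
    rw [map_zero]
    exact (comp_eq_zero hfg _).symm
  · obtain ⟨c, rfl⟩ := Submodule.mkQ_surjective _ x
    intro h
    obtain ⟨p, hp⟩ := (Submodule.Quotient.mk_eq_zero _).1 h
    obtain ⟨q, hq⟩ := exists_lift_of_basis b1 g hg p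
    have hp' : p ∘ₗ d2 P = g ∘ₗ c := hp
    obtain ⟨ψ, hψ⟩ := exists_factor hf hfg (c - q ∘ₗ d2 P) (by
      rw [LinearMap.comp_sub, ← LinearMap.comp_assoc, hq, hp', sub_self])
    refine ⟨Submodule.Quotient.mk ψ, (Submodule.Quotient.eq _).2 ⟨-q, ?_⟩⟩
    change (-q) ∘ₗ d2 P = f ∘ₗ ψ - c
    rw [hψ, LinearMap.neg_comp]; abel
  · rintro ⟨y, rfl⟩
    obtain ⟨y, rfl⟩ := Submodule.mkQ_surjective _ y
    refine (Submodule.Quotient.mk_eq_zero _).2 ⟨0, ?_⟩
    rw [map_zero]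
    exact (comp_eq_zero hfg _).symm
  obtain ⟨ρ, hρ⟩ := exists_delta (U := L0 P →ₗ[B] M) (V' := L1 P →ₗ[B] M') (V := L1 P →ₗ[B] M)
    (G := LinearMap.llcomp B (L0 P) M M'' g) (fun φ => exists_lift_of_basis b0 g hg φ)
    (F := LinearMap.llcomp B (L1 P) M' M f) (fun _ _ => cancel_left hf) (d := d1Star P M)
    (LinearMap.ker (d1Star P M'')) (fun u hu => exists_factor hf hfg _ (by rw [d1Star_apply, ← LinearMap.comp_assoc]; exact hu))
    ((LinearMap.range (d1Star P M')).mkQ) (fun u v hu hv => by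
      obtain ⟨ψ, hψ⟩ := exists_factor hf hfg u hu
      refine (Submodule.Quotient.mk_eq_zero _).2 ⟨ψ, cancel_left hf ?_⟩
      rw [d1Star_apply, ← LinearMap.comp_assoc, hψ]
      exact hv.symm)
  obtain ⟨δ₀', hδ₀'⟩ : ∃ δ : T0 P M'' →ₗ[B] T1 P M', ∀ (k : T0 P M'') (u : L0 P →ₗ[B] M) (v : cocycles1 P M'),
      g ∘ₗ u = k.1 → f ∘ₗ v.1 = u ∘ₗ d1 P → δ k = Submodule.Quotient.mk v := by
    let j : T1 P M' →ₗ[B] (L1 P →ₗ[B] M') ⧸ LinearMap.range (d1Star P M') :=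
      Submodule.mapQ _ _ (cocycles1 P M').subtype le_rfl
    have hj : Function.Injective j := by
      rw [injective_iff_map_eq_zero]
      intro z hz
      obtain ⟨v, rfl⟩ := Submodule.mkQ_surjective _ z
      exact (Submodule.Quotient.mk_eq_zero _).2
        ((Submodule.Quotient.mk_eq_zero _).1 hz : (v : L1 P →ₗ[B] M') ∈ LinearMap.range (d1Star P M'))
    have hrange : ∀ k, ρ k ∈ LinearMap.range j := fun k => by
      obtain ⟨u, hu⟩ := exists_lift_of_basis b0 g hg (k : L0 P →ₗ[B] M'')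
      obtain ⟨v, hv⟩ := exists_factor hf hfg (u ∘ₗ d1 P) (by rw [← LinearMap.comp_assoc, hu]; exact k.2)
      refine ⟨Submodule.Quotient.mk ⟨v, cancel_left hf ?_⟩, (hρ k u v hu hv).symm⟩
      rw [d2Star_apply, ← LinearMap.comp_assoc, hv, LinearMap.comp_assoc, d1_comp_d2, LinearMap.comp_zero,
        LinearMap.comp_zero]
    refine ⟨(LinearEquiv.ofInjective j hj).symm.toLinearMap ∘ₗ ρ.codRestrict _ hrange, fun k u v hu hv => hj ?_⟩
    exact (congrArg Subtype.val ((LinearEquiv.ofInjective j hj).apply_symm_apply ⟨ρ k, hrange k⟩)).trans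
      (hρ k u v hu hv)
  obtain ⟨ρ₁, hρ₁⟩ := exists_delta (U := L1 P →ₗ[B] M) (V' := L2 P →ₗ[B] M') (V := L2 P →ₗ[B] M)
    (G := LinearMap.llcomp B (L1 P) M M'' g) (fun φ => exists_lift_of_basis b1 g hg φ)
    (F := LinearMap.llcomp B (L2 P) M' M f) (fun _ _ => cancel_left hf) (d := d2Star P M)
    (LinearMap.ker (d2Star P M'')) (fun u hu => exists_factor hf hfg _ (by rw [d2Star_apply, ← LinearMap.comp_assoc]; exact hu))
    (toT2 P M') (fun u v hu hv => by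
      obtain ⟨ψ, hψ⟩ := exists_factor hf hfg u hu
      refine (Submodule.Quotient.mk_eq_zero _).2 ⟨ψ, cancel_left hf ?_⟩
      rw [d2Star_apply, ← LinearMap.comp_assoc, hψ]
      exact hv.symm)
  have hle : coboundaries1 P M'' ≤ LinearMap.ker ρ₁ := by
    rintro ⟨c, hc⟩ ⟨p, hp⟩
    have hp' : p ∘ₗ d1 P = c := hp
    obtain ⟨q, hq⟩ := exists_lift_of_basis b0 g hg p
    rw [LinearMap.mem_ker, hρ₁ ⟨c, hc⟩ (q ∘ₗ d1 P) 0 (by
      change g ∘ₗ q ∘ₗ d1 P = c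
      rw [← LinearMap.comp_assoc, hq, hp']) (by
      change f ∘ₗ 0 = (q ∘ₗ d1 P) ∘ₗ d2 P
      rw [LinearMap.comp_assoc, d1_comp_d2, LinearMap.comp_zero, LinearMap.comp_zero]), map_zero]
  refine ⟨δ₀', Submodule.liftQ _ ρ₁ hle, fun k => ⟨fun h => ?_, ?_⟩, fun z => ⟨?_, ?_⟩,
    fun z => ⟨?_, ?_⟩, fun z => ⟨?_, ?_⟩⟩
  · obtain ⟨u, hu⟩ := exists_lift_of_basis b0 g hg (k : L0 P →ₗ[B] M'')
    obtain ⟨v, hv⟩ := exists_factor hf hfg (u ∘ₗ d1 P) (by rw [← LinearMap.comp_assoc, hu]; exact k.2)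
    have hvc : v ∈ cocycles1 P M' := cancel_left hf (by
      rw [d2Star_apply, ← LinearMap.comp_assoc, hv, LinearMap.comp_assoc, d1_comp_d2, LinearMap.comp_zero,
        LinearMap.comp_zero])
    rw [hδ₀' k u ⟨v, hvc⟩ hu hv] at h
    obtain ⟨ψ, hψ⟩ := (Submodule.Quotient.mk_eq_zero _).1 h
    refine ⟨⟨u - f ∘ₗ ψ, ?_⟩, Subtype.ext ?_⟩
    · rw [LinearMap.mem_ker, d1Star_apply, LinearMap.sub_comp, LinearMap.comp_assoc,
        show ψ ∘ₗ d1 P = v from hψ, hv, sub_self]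
    · change g ∘ₗ (u - f ∘ₗ ψ) = k.1
      rw [LinearMap.comp_sub, comp_eq_zero hfg, sub_zero, hu]
  · rintro ⟨y, rfl⟩
    rw [hδ₀' _ y.1 0 rfl (by rw [ZeroMemClass.coe_zero, LinearMap.comp_zero]; exact y.2.symm)]
    rfl
  · obtain ⟨⟨v, hvc⟩, rfl⟩ := Submodule.mkQ_surjective _ z
    intro h
    obtain ⟨u, hu⟩ := (Submodule.Quotient.mk_eq_zero _).1 h
    have hu' : u ∘ₗ d1 P = f ∘ₗ v := hu
    refine ⟨⟨g ∘ₗ u, ?_⟩, hδ₀' _ u ⟨v, hvc⟩ rfl hu'.symm⟩
    rw [LinearMap.mem_ker, d1Star_apply, LinearMap.comp_assoc, hu', comp_eq_zero hfg]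
  · rintro ⟨k, rfl⟩
    obtain ⟨u, hu⟩ := exists_lift_of_basis b0 g hg (k : L0 P →ₗ[B] M'')
    obtain ⟨v, hv⟩ := exists_factor hf hfg (u ∘ₗ d1 P) (by rw [← LinearMap.comp_assoc, hu]; exact k.2)
    have hvc : v ∈ cocycles1 P M' := cancel_left hf (by
      rw [d2Star_apply, ← LinearMap.comp_assoc, hv, LinearMap.comp_assoc, d1_comp_d2, LinearMap.comp_zero,
        LinearMap.comp_zero])
    rw [hδ₀' k u ⟨v, hvc⟩ hu hv]
    exact (Submodule.Quotient.mk_eq_zero _).2 ⟨u, hv.symm⟩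
  · obtain ⟨⟨c, hc⟩, rfl⟩ := Submodule.mkQ_surjective _ z
    obtain ⟨u, hu⟩ := exists_lift_of_basis b1 g hg c
    obtain ⟨v, hv⟩ := exists_factor hf hfg (u ∘ₗ d2 P) (by rw [← LinearMap.comp_assoc, hu]; exact hc)
    intro h
    have h' : toT2 P M' v = 0 := (hρ₁ ⟨c, hc⟩ u v hu hv).symm.trans h
    obtain ⟨ψ, hψ⟩ := (Submodule.Quotient.mk_eq_zero _).1 h'
    refine ⟨Submodule.Quotient.mk ⟨u - f ∘ₗ ψ, ?_⟩, congrArg (coboundaries1 P M'').mkQ (Subtype.ext ?_)⟩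
    · rw [LinearMap.mem_ker, d2Star_apply, LinearMap.sub_comp, LinearMap.comp_assoc,
        show ψ ∘ₗ d2 P = v from hψ, hv, sub_self]
    · change g ∘ₗ (u - f ∘ₗ ψ) = c
      rw [LinearMap.comp_sub, comp_eq_zero hfg, sub_zero, hu]
  · rintro ⟨y, rfl⟩
    obtain ⟨⟨y, hy⟩, rfl⟩ := Submodule.mkQ_surjective _ y
    exact (hρ₁ _ y 0 rfl ((LinearMap.comp_zero _).trans (LinearMap.mem_ker.1 hy).symm)).trans (map_zero _)
  · obtain ⟨v, rfl⟩ := Submodule.mkQ_surjective _ z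
    intro h
    obtain ⟨u, hu⟩ := (Submodule.Quotient.mk_eq_zero _).1 h
    have hu' : u ∘ₗ d2 P = f ∘ₗ v := hu
    have hc : g ∘ₗ u ∈ cocycles1 P M'' := by
      rw [LinearMap.mem_ker, d2Star_apply, LinearMap.comp_assoc, hu', comp_eq_zero hfg]
    exact ⟨Submodule.Quotient.mk ⟨g ∘ₗ u, hc⟩, hρ₁ ⟨_, hc⟩ u v rfl hu'.symm⟩
  · rintro ⟨k, rfl⟩
    obtain ⟨⟨c, hc⟩, rfl⟩ := Submodule.mkQ_surjective _ k
    obtain ⟨u, hu⟩ := exists_lift_of_basis b1 g hg c
    obtain ⟨v, hv⟩ := exists_factor hf hfg (u ∘ₗ d2 P) (by rw [← LinearMap.comp_assoc, hu]; exact hc)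
    exact (congrArg (T2map P f) (hρ₁ ⟨c, hc⟩ u v hu hv)).trans
      ((Submodule.Quotient.mk_eq_zero _).2 ⟨u, hv.symm⟩)

end

end GrothLib.CotT
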