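import Groth.Agent.Lib.CotT.Comp
import Groth.Agent.Lib.CotT.Les

/-!
# The nine-term sequence
-/

universe u w m

noncomputable section

namespace GrothLib.CotT

open TensorProduct MvPolynomial
open _root_.CotT

section CompSquares

variable {A A' A'' B B' B'' : Type u} {ι σ ι' σ' ι'' σ'' : Type w}
  [CommRing A] [CommRing B] [Algebra A B] [CommRing A'] [CommRing B'] [Algebra A' B']
  [CommRing A''] [CommRing B''] [Algebra A'' B'']
  [Algebra A A'] [Algebra B B'] [Algebra A B'] [IsScalarTower A A' B'] [IsScalarTower A B B']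
  [Algebra A' A''] [Algebra B' B''] [Algebra A' B''] [IsScalarTower A' A'' B''] [IsScalarTower A' B' B'']
  [Algebra A A''] [Algebra B B''] [Algebra A B''] [IsScalarTower A A'' B''] [IsScalarTower A B B'']
  [IsScalarTower A A' A''] [IsScalarTower B B' B'']
  {P : Algebra.Presentation A B ι σ} {P' : Algebra.Presentation A' B' ι' σ'}
  {P'' : Algebra.Presentation A'' B'' ι'' σ''}

/-- Composition over a composite square. -/
def compSq (h : PresHom P P') (k : PresHom P' P'') : PresHom P P'' where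
  hom := k.hom.comp h.hom
  relVal s := k.relModMap (h.relVal s)
  jmap_relVal s := by
    rw [k.jmap_relModMap, h.jmap_relVal]
    exact (Algebra.Generators.Hom.toAlgHom_comp_apply (f := h.hom) (g := k.hom) (x := rel P s)).symm

variable (h : PresHom P P') (k : PresHom P' P'')

lemma ringHom_compSq (r : P.toExtension.Ring) : (compSq h k).ringHom r = k.ringHom (h.ringHom r) :=
  Algebra.Generators.Hom.toAlgHom_comp_apply (f := h.hom) (g := k.hom) (x := r)

lemma relModMap_compSq (f : relMod P) : (compSq h k).relModMap f = k.relModMap (h.relModMap f) := by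
  induction f using Finsupp.induction_linear with
  | zero => simp
  | add a b ha hb => rw [map_add, ha, hb, map_add, map_add]
  | single s r =>
    rw [PresHom.relModMap_single, PresHom.relModMap_single, LinearMap.map_smulₛₗ, ringHom_compSq]
    rfl

variable (M : Type m) [AddCommGroup M] [Module B'' M] [Module B' M] [IsScalarTower B' B'' M]
  [Module B M] [IsScalarTower B B'' M] [IsScalarTower B B' M]

lemma T0pull_compSq (z : T0 P'' M) : (compSq h k).T0pull M z = h.T0pull M (k.T0pull M z) := by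
  refine Subtype.ext (P.cotangentSpaceBasis.ext fun i => congrArg z.1 ?_)
  rw [basis_eq, L0map_D, L0map_D, L0map_D, ringHom_compSq]

lemma T1pull_compSq (z : T1 P'' M) : (compSq h k).T1pull M z = h.T1pull M (k.T1pull M z) := by
  obtain ⟨c, rfl⟩ := Submodule.mkQ_surjective _ z
  refine congrArg (coboundaries1 P M).mkQ (Subtype.ext ((L1basis P).ext fun s => congrArg c.1 ?_))
  rw [L1basis_apply, PresHom.L1map_tmul, relModMap_compSq, PresHom.L1map_tmul, PresHom.L1map_tmul,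
    map_one, map_one, map_one]

lemma T2pull_compSq (z : T2 P'' M) : (compSq h k).T2pull M z = h.T2pull M (k.T2pull M z) := by
  obtain ⟨c, rfl⟩ := Submodule.mkQ_surjective _ z
  refine congrArg (LinearMap.range (d2Star P M)).mkQ (LinearMap.ext fun x => ?_)
  obtain ⟨q, rfl⟩ := exists_mk_one_tmul_eq P x
  refine congrArg c ?_
  rw [PresHom.L2map_mk_tmul, PresHom.L2map_mk_tmul, PresHom.L2map_mk_tmul, map_one, map_one, map_one]
  exact congrArg (fun q => Submodule.Quotient.mk ((1 : B'') ⊗ₜ q)) (Subtype.ext (relModMap_compSq h k q))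

end CompSquares

variable {A B C : Type u} [CommRing A] [CommRing B] [CommRing C] [Algebra A B] [Algebra B C] [Algebra A C]
  [IsScalarTower A B C] {ι σ ι' σ' : Type w}
variable (Q : Algebra.Presentation B C ι' σ') (P : Algebra.Presentation A B ι σ)
variable {M : Type m} [AddCommGroup M] [Module C M] [Module B M] [IsScalarTower B C M]

local notation "π" => ofCompHom Q P
local notation "ι₀" => toCompHom Q P

lemma L0map_ofComp_inl (j : ι') :
    (π).L0map ((Q.comp P).cotangentSpaceBasis (Sum.inl j)) = Q.cotangentSpaceBasis j := by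
  rw [basis_eq, L0map_D, basis_eq]
  exact congrArg _ (congrArg _ ((π).hom.toAlgHom_X (Sum.inl j)))

lemma L0map_ofComp_inr (i : ι) : (π).L0map ((Q.comp P).cotangentSpaceBasis (Sum.inr i)) = 0 := by
  rw [basis_eq, L0map_D]
  have e : KaehlerDifferential.D B Q.toExtension.Ring ((π).ringHom (Xv (Q.comp P) (Sum.inr i))) = 0 :=
    (congrArg _ ((π).hom.toAlgHom_X (Sum.inr i))).trans
      ((KaehlerDifferential.D B Q.toExtension.Ring).map_algebraMap (P.val i))
  rw [e, tmul_zero]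

lemma L0map_toComp (i : ι) :
    (ι₀).L0map (P.cotangentSpaceBasis i) = (Q.comp P).cotangentSpaceBasis (Sum.inr i) := by
  rw [basis_eq, L0map_D, basis_eq]
  exact congrArg _ (congrArg _ ((ι₀).hom.toAlgHom_X i))

lemma L1map_ofComp_inl (s : σ') : (π).L1map (L1basis (Q.comp P) (Sum.inl s)) = L1basis Q s := by
  rw [L1map_basis, L1basis_apply]; rfl

lemma L1map_ofComp_inr (t : σ) : (π).L1map (L1basis (Q.comp P) (Sum.inr t)) = 0 := by
  rw [L1map_basis]; exact tmul_zero _ _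

lemma L1map_toComp (t : σ) : (ι₀).L1map (L1basis P t) = L1basis (Q.comp P) (Sum.inr t) := by
  rw [L1map_basis, L1basis_apply]; rfl

lemma pull2_ofComp_injective : Function.Injective ((π).pull2 M) := fun a b h => LinearMap.ext fun z => by
  obtain ⟨y, rfl⟩ := L2map_ofComp_surjective Q P z
  exact LinearMap.congr_fun h y

lemma pull1_ofComp_injective : Function.Injective ((π).pull1 M) := fun a b h => (L1basis Q).ext fun s => by
  rw [← L1map_ofComp_inl Q P]
  exact LinearMap.congr_fun h _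

lemma pull0_ofComp_injective : Function.Injective ((π).pull0 M) := fun a b h =>
  Q.cotangentSpaceBasis.ext fun j => by
    rw [← L0map_ofComp_inl Q P]
    exact LinearMap.congr_fun h _

lemma pull0_comp_eq_zero (u : L0 Q →ₗ[C] M) : (ι₀).pull0 M ((π).pull0 M u) = 0 :=
  P.cotangentSpaceBasis.ext fun i => by
    rw [PresHom.pull0_apply, L0map_toComp, PresHom.pull0_apply, L0map_ofComp_inr, map_zero,
      LinearMap.zero_apply]

lemma pull1_comp_eq_zero (u : L1 Q →ₗ[C] M) : (ι₀).pull1 M ((π).pull1 M u) = 0 :=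
  (L1basis P).ext fun t => by
    rw [PresHom.pull1_apply, L1map_toComp, PresHom.pull1_apply, L1map_ofComp_inr, map_zero,
      LinearMap.zero_apply]

lemma toComp_relModMap_inl (f : relMod P) (s : σ') : (ι₀).relModMap f (Sum.inl s) = 0 := by
  induction f using Finsupp.induction_linear with
  | zero => simp
  | add a b ha hb => rw [map_add, Finsupp.add_apply, ha, hb, add_zero]
  | single t r =>
    rw [PresHom.relModMap_single]
    change ((ι₀).ringHom r • Finsupp.single (Sum.inr t) (1 : (Q.comp P).toExtension.Ring)) (Sum.inl s) = 0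
    simp

lemma pull2_comp_eq_zero (u : L2 Q →ₗ[C] M) : (ι₀).pull2 M ((π).pull2 M u) = 0 := by
  refine LinearMap.ext fun z => ?_
  obtain ⟨g, rfl⟩ := exists_mk_one_tmul_eq P z
  have h0 : (π).relKerMap ((ι₀).relKerMap g) = 0 := Subtype.ext (Finsupp.ext fun s => by
    rw [PresHom.relKerMap_coe, ofComp_relModMap_apply, PresHom.relKerMap_coe, toComp_relModMap_inl, map_zero]
    rfl)
  have e : (π).L2map ((ι₀).L2map (Submodule.Quotient.mk ((1 : B) ⊗ₜ g))) = 0 := by
    rw [PresHom.L2map_mk_tmul, PresHom.L2map_mk_tmul, h0, tmul_zero, Submodule.Quotient.mk_zero]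
  exact (congrArg u e).trans (map_zero u)

lemma exists_pull0_ofComp {u : L0 (Q.comp P) →ₗ[C] M} (h : (ι₀).pull0 M u = 0) : ∃ v, (π).pull0 M v = u := by
  refine ⟨Q.cotangentSpaceBasis.constr C fun j => u ((Q.comp P).cotangentSpaceBasis (Sum.inl j)),
    (Q.comp P).cotangentSpaceBasis.ext fun x => ?_⟩
  rcases x with j | i
  · rw [PresHom.pull0_apply, L0map_ofComp_inl, Module.Basis.constr_basis]
  · have h' := LinearMap.congr_fun h (P.cotangentSpaceBasis i)
    rw [PresHom.pull0_apply, L0map_toComp, LinearMap.zero_apply] at h'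
    rw [PresHom.pull0_apply, L0map_ofComp_inr, map_zero, h']

lemma exists_pull1_ofComp {u : L1 (Q.comp P) →ₗ[C] M} (h : (ι₀).pull1 M u = 0) : ∃ v, (π).pull1 M v = u := by
  refine ⟨(L1basis Q).constr C fun j => u (L1basis (Q.comp P) (Sum.inl j)),
    (L1basis (Q.comp P)).ext fun x => ?_⟩
  rcases x with j | i
  · rw [PresHom.pull1_apply, L1map_ofComp_inl, Module.Basis.constr_basis]
  · have h' := LinearMap.congr_fun h (L1basis P i)
    rw [PresHom.pull1_apply, L1map_toComp, LinearMap.zero_apply] at h'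
    rw [PresHom.pull1_apply, L1map_ofComp_inr, map_zero, h']

lemma pull0_toComp_surjective (k : L0 P →ₗ[B] M) : ∃ u, (ι₀).pull0 M u = k :=
  ⟨(Q.comp P).cotangentSpaceBasis.constr C (Sum.elim 0 fun i => k (P.cotangentSpaceBasis i)),
    P.cotangentSpaceBasis.ext fun i => by
      rw [PresHom.pull0_apply, L0map_toComp, Module.Basis.constr_basis]; rfl⟩

lemma pull1_toComp_surjective (k : L1 P →ₗ[B] M) : ∃ u, (ι₀).pull1 M u = k :=
  ⟨(L1basis (Q.comp P)).constr C (Sum.elim 0 fun i => k (L1basis P i)),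
    (L1basis P).ext fun i => by
      rw [PresHom.pull1_apply, L1map_toComp, Module.Basis.constr_basis]; rfl⟩

omit [Module B M] [IsScalarTower B C M] in
lemma d2Star_d1Star (X : Algebra.Presentation B C ι' σ') (u : L0 X →ₗ[C] M) : d2Star X M (d1Star X M u) = 0 :=
  LinearMap.congr_fun (d2Star_comp_d1Star X M) u

variable (M)

lemma ddT (u : L0 (Q.comp P) →ₗ[C] M) : d2Star (Q.comp P) M (d1Star (Q.comp P) M u) = 0 :=
  LinearMap.congr_fun (d2Star_comp_d1Star (Q.comp P) M) u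

theorem T0pull_ofComp_injective : Function.Injective ((π).T0pull M) := fun _ _ h =>
  Subtype.ext (pull0_ofComp_injective Q P (congrArg Subtype.val h))

theorem exact_T0 : Function.Exact ((π).T0pull M) ((ι₀).T0pull M) := fun x => by
  refine ⟨fun h => ?_, ?_⟩
  · obtain ⟨v, hv⟩ := exists_pull0_ofComp Q P (congrArg Subtype.val h)
    refine ⟨⟨v, pull1_ofComp_injective Q P ?_⟩, Subtype.ext hv⟩
    rw [PresHom.pull1_d1Star, hv, map_zero]
    exact x.2
  · rintro ⟨y, rfl⟩
    exact Subtype.ext (pull0_comp_eq_zero Q P _)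

theorem exact_T1 : Function.Exact ((π).T1pull M) ((ι₀).T1pull M) := fun x => by
  refine ⟨?_, ?_⟩
  · obtain ⟨⟨c, hc⟩, rfl⟩ := Submodule.mkQ_surjective _ x
    intro h
    obtain ⟨p, hp⟩ := (Submodule.Quotient.mk_eq_zero _).1 h
    obtain ⟨q, rfl⟩ := pull0_toComp_surjective Q P p
    have hp' : d1Star P M ((ι₀).pull0 M q) = (ι₀).pull1 M c := hp
    obtain ⟨v, hv⟩ := exists_pull1_ofComp Q P (u := c - d1Star (Q.comp P) M q) (by
      rw [map_sub, PresHom.pull1_d1Star, hp', sub_self])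
    refine ⟨Submodule.Quotient.mk ⟨v, pull2_ofComp_injective Q P ?_⟩, (Submodule.Quotient.eq _).2 ⟨-q, ?_⟩⟩
    · rw [PresHom.pull2_d2Star, hv, map_sub, show d2Star (Q.comp P) M c = 0 from hc, ddT, sub_zero, map_zero]
    · change d1Star (Q.comp P) M (-q) = (π).pull1 M v - c
      rw [hv, map_neg]; abel
  · rintro ⟨y, rfl⟩
    obtain ⟨y, rfl⟩ := Submodule.mkQ_surjective _ y
    refine (Submodule.Quotient.mk_eq_zero _).2 ⟨0, ?_⟩
    rw [map_zero]
    exact (pull1_comp_eq_zero Q P _).symm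

theorem exact_T2 : Function.Exact ((π).T2pull M) ((ι₀).T2pull M) := fun x => by
  refine ⟨?_, ?_⟩
  · obtain ⟨c, rfl⟩ := Submodule.mkQ_surjective _ x
    intro h
    obtain ⟨p, hp⟩ := (Submodule.Quotient.mk_eq_zero _).1 h
    obtain ⟨q, rfl⟩ := pull1_toComp_surjective Q P p
    have hp' : d2Star P M ((ι₀).pull1 M q) = (ι₀).pull2 M c := hp
    obtain ⟨v, hv⟩ := exists_pull2_eq_of_pull2_eq_zero Q P (c - d2Star (Q.comp P) M q) (by
      rw [map_sub, PresHom.pull2_d2Star, hp', sub_self])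
    refine ⟨Submodule.Quotient.mk v, (Submodule.Quotient.eq _).2 ⟨-q, ?_⟩⟩
    change d2Star (Q.comp P) M (-q) = (π).pull2 M v - c
    rw [hv, map_neg]; abel
  · rintro ⟨y, rfl⟩
    obtain ⟨y, rfl⟩ := Submodule.mkQ_surjective _ y
    refine (Submodule.Quotient.mk_eq_zero _).2 ⟨0, ?_⟩
    rw [map_zero]
    exact (pull2_comp_eq_zero Q P _).symm

theorem exists_delta0 : ∃ δ₀ : T0 P M →+ T1 Q M,
    Function.Exact ((ι₀).T0pull M) δ₀ ∧ Function.Exact δ₀ ((π).T1pull M) := by
  obtain ⟨δ₀, hδ₀⟩ := exists_delta (B := B) (U := L0 (Q.comp P) →ₗ[C] M) (V' := cocycles1 Q M)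
    (V := L1 (Q.comp P) →ₗ[C] M)
    (G := (ι₀).pull0 M) (fun k => pull0_toComp_surjective Q P k)
    (F := (π).pull1 M ∘ₗ (cocycles1 Q M).subtype.restrictScalars B)
    (fun a b h => Subtype.ext (pull1_ofComp_injective Q P h)) (d := (d1Star (Q.comp P) M).restrictScalars B)
    (LinearMap.ker (d1Star P M))
    (fun u hu => by
      obtain ⟨v, hv⟩ := exists_pull1_ofComp Q P (u := d1Star (Q.comp P) M u) (by
        rw [PresHom.pull1_d1Star]; exact hu)
      refine ⟨⟨v, pull2_ofComp_injective Q P ?_⟩, hv⟩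
      rw [PresHom.pull2_d2Star, hv, ddT, map_zero])
    ((coboundaries1 Q M).mkQ.restrictScalars B)
    (fun u v hu hv => by
      obtain ⟨w, rfl⟩ := exists_pull0_ofComp Q P hu
      refine (Submodule.Quotient.mk_eq_zero _).2 ⟨w, pull1_ofComp_injective Q P ?_⟩
      rw [PresHom.pull1_d1Star]
      exact hv.symm)
  refine ⟨δ₀.toAddMonoidHom, fun k => ⟨fun h => ?_, ?_⟩, fun z => ⟨?_, ?_⟩⟩
  · obtain ⟨u, hu⟩ := pull0_toComp_surjective Q P (k : L0 P →ₗ[B] M)
    obtain ⟨v, hv⟩ := exists_pull1_ofComp Q P (u := d1Star (Q.comp P) M u) (by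
      rw [PresHom.pull1_d1Star, hu]; exact k.2)
    have hvc : v ∈ cocycles1 Q M := pull2_ofComp_injective Q P (by rw [PresHom.pull2_d2Star, hv, ddT, map_zero])
    have h' : (coboundaries1 Q M).mkQ ⟨v, hvc⟩ = 0 := (hδ₀ k u ⟨v, hvc⟩ hu hv).symm.trans h
    obtain ⟨ψ, hψ⟩ := (Submodule.Quotient.mk_eq_zero _).1 h'
    have hψ' : d1Star Q M ψ = v := hψ
    refine ⟨⟨u - (π).pull0 M ψ, ?_⟩, Subtype.ext ?_⟩
    · rw [LinearMap.mem_ker, map_sub, ← PresHom.pull1_d1Star, hψ', hv, sub_self]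
    · change (ι₀).pull0 M (u - (π).pull0 M ψ) = k.1
      rw [map_sub, pull0_comp_eq_zero, sub_zero, hu]
  · rintro ⟨y, rfl⟩
    exact (hδ₀ _ y.1 0 rfl ((map_zero _).trans (LinearMap.mem_ker.1 y.2).symm)).trans (map_zero _)
  · obtain ⟨⟨v, hvc⟩, rfl⟩ := Submodule.mkQ_surjective _ z
    intro h
    obtain ⟨u, hu⟩ := (Submodule.Quotient.mk_eq_zero _).1 h
    have hu' : d1Star (Q.comp P) M u = (π).pull1 M v := hu
    refine ⟨⟨(ι₀).pull0 M u, ?_⟩, hδ₀ _ u ⟨v, hvc⟩ rfl hu'.symm⟩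
    rw [LinearMap.mem_ker, ← PresHom.pull1_d1Star, hu', pull1_comp_eq_zero]
  · rintro ⟨k, rfl⟩
    obtain ⟨u, hu⟩ := pull0_toComp_surjective Q P (k : L0 P →ₗ[B] M)
    obtain ⟨v, hv⟩ := exists_pull1_ofComp Q P (u := d1Star (Q.comp P) M u) (by
      rw [PresHom.pull1_d1Star, hu]; exact k.2)
    have hvc : v ∈ cocycles1 Q M := pull2_ofComp_injective Q P (by rw [PresHom.pull2_d2Star, hv, ddT, map_zero])
    exact (congrArg ((π).T1pull M) (hδ₀ k u ⟨v, hvc⟩ hu hv)).trans
      ((Submodule.Quotient.mk_eq_zero _).2 ⟨u, hv.symm⟩)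

theorem exists_delta1 : ∃ δ₁ : T1 P M →ₗ[B] T2 Q M,
    Function.Exact ((ι₀).T1pull M) δ₁ ∧ Function.Exact δ₁ ((π).T2pull M) := by
  obtain ⟨ρ₁, hρ₁⟩ := exists_delta (B := B) (U := L1 (Q.comp P) →ₗ[C] M) (V' := L2 Q →ₗ[C] M)
    (V := L2 (Q.comp P) →ₗ[C] M)
    (G := (ι₀).pull1 M) (fun k => pull1_toComp_surjective Q P k)
    (F := (π).pull2 M) (pull2_ofComp_injective Q P) (d := (d2Star (Q.comp P) M).restrictScalars B)
    (LinearMap.ker (d2Star P M))
    (fun u hu => exists_pull2_eq_of_pull2_eq_zero Q P (d2Star (Q.comp P) M u) (by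
      rw [PresHom.pull2_d2Star]; exact hu))
    ((toT2 Q M).restrictScalars B)
    (fun u v hu hv => by
      obtain ⟨w, rfl⟩ := exists_pull1_ofComp Q P hu
      refine (Submodule.Quotient.mk_eq_zero _).2 ⟨w, pull2_ofComp_injective Q P ?_⟩
      rw [PresHom.pull2_d2Star]
      exact hv.symm)
  have hle : coboundaries1 P M ≤ LinearMap.ker ρ₁ := by
    rintro ⟨c, hc⟩ ⟨p, hp⟩
    obtain ⟨q, rfl⟩ := pull0_toComp_surjective Q P p
    rw [LinearMap.mem_ker]
    refine (hρ₁ ⟨c, hc⟩ (d1Star (Q.comp P) M q) 0 ?_ ?_).trans (map_zero _)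
    · rw [PresHom.pull1_d1Star]; exact hp
    · rw [map_zero]; exact (ddT Q P M q).symm
  refine ⟨Submodule.liftQ _ ρ₁ hle, fun z => ⟨?_, ?_⟩, fun z => ⟨?_, ?_⟩⟩
  · obtain ⟨⟨c, hc⟩, rfl⟩ := Submodule.mkQ_surjective _ z
    obtain ⟨u, rfl⟩ := pull1_toComp_surjective Q P c
    obtain ⟨v, hv⟩ := exists_pull2_eq_of_pull2_eq_zero Q P (d2Star (Q.comp P) M u) (by
      rw [PresHom.pull2_d2Star]; exact hc)
    intro h
    have h' : toT2 Q M v = 0 := (hρ₁ ⟨_, hc⟩ u v rfl hv).symm.trans h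
    obtain ⟨ψ, hψ⟩ := (Submodule.Quotient.mk_eq_zero _).1 h'
    refine ⟨Submodule.Quotient.mk ⟨u - (π).pull1 M ψ, ?_⟩, congrArg (coboundaries1 P M).mkQ (Subtype.ext ?_)⟩
    · rw [LinearMap.mem_ker, map_sub, ← PresHom.pull2_d2Star, hψ, hv, sub_self]
    · change (ι₀).pull1 M (u - (π).pull1 M ψ) = (ι₀).pull1 M u
      rw [map_sub, pull1_comp_eq_zero, sub_zero]
  · rintro ⟨y, rfl⟩
    obtain ⟨⟨y, hy⟩, rfl⟩ := Submodule.mkQ_surjective _ y
    exact (hρ₁ _ y 0 rfl ((map_zero _).trans (LinearMap.mem_ker.1 hy).symm)).trans (map_zero _)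
  · obtain ⟨v, rfl⟩ := Submodule.mkQ_surjective _ z
    intro h
    obtain ⟨u, hu⟩ := (Submodule.Quotient.mk_eq_zero _).1 h
    have hu' : d2Star (Q.comp P) M u = (π).pull2 M v := hu
    have hc : (ι₀).pull1 M u ∈ cocycles1 P M := by
      rw [LinearMap.mem_ker, ← PresHom.pull2_d2Star, hu', pull2_comp_eq_zero]
    exact ⟨Submodule.Quotient.mk ⟨_, hc⟩, hρ₁ ⟨_, hc⟩ u v rfl hu'.symm⟩
  · rintro ⟨k, rfl⟩
    obtain ⟨⟨c, hc⟩, rfl⟩ := Submodule.mkQ_surjective _ k
    obtain ⟨u, rfl⟩ := pull1_toComp_surjective Q P c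
    obtain ⟨v, hv⟩ := exists_pull2_eq_of_pull2_eq_zero Q P (d2Star (Q.comp P) M u) (by
      rw [PresHom.pull2_d2Star]; exact hc)
    exact (congrArg ((π).T2pull M) (hρ₁ ⟨_, hc⟩ u v rfl hv)).trans
      ((Submodule.Quotient.mk_eq_zero _).2 ⟨u, hv.symm⟩)

end GrothLib.CotT

namespace GrothLib.CotT

open TensorProduct
open _root_.CotT

variable {A B C : Type u} [CommRing A] [CommRing B] [CommRing C] [Algebra A B] [Algebra B C] [Algebra A C]
  [IsScalarTower A B C] (M : Type m) [AddCommGroup M] [Module C M] [Module B M] [IsScalarTower B C M]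

/-- The nine-term sequence for the choice-free presentations. -/
theorem nineTerm :
    Function.Injective ((canonHom A C B C).T0pull M) ∧
    Function.Exact ((canonHom A C B C).T0pull M) ((canonHom A B A C).T0pull M) ∧
    Function.Exact ((canonHom A C B C).T1pull M) ((canonHom A B A C).T1pull M) ∧
    Function.Exact ((canonHom A C B C).T2pull M) ((canonHom A B A C).T2pull M) ∧
    ∃ (δ₀ : T0 (canon A B) M →+ T1 (canon B C) M) (δ₁ : T1 (canon A B) M →+ T2 (canon B C) M),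
      Function.Exact ((canonHom A B A C).T0pull M) δ₀ ∧ Function.Exact δ₀ ((canonHom A C B C).T1pull M) ∧
      Function.Exact ((canonHom A B A C).T1pull M) δ₁ ∧ Function.Exact δ₁ ((canonHom A C B C).T2pull M) := by
  let Q := canon B C
  let P := canon A B
  obtain ⟨a⟩ := exists_presHom (Q.comp P) (canon A C)
  have b0 := T0pull_bijective a M
  have b1 := T1pull_bijective a M
  have b2 := T2pull_bijective a M
  have p0 : ∀ x, (ofCompHom Q P).T0pull M x = a.T0pull M ((canonHom A C B C).T0pull M x) := fun x => by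
    rw [← T0pull_compSq a (canonHom A C B C), T0pull_eq (compSq a (canonHom A C B C)) (ofCompHom Q P)]
  have p1 : ∀ x, (ofCompHom Q P).T1pull M x = a.T1pull M ((canonHom A C B C).T1pull M x) := fun x => by
    rw [← T1pull_compSq a (canonHom A C B C), T1pull_eq (compSq a (canonHom A C B C)) (ofCompHom Q P)]
  have p2 : ∀ x, (ofCompHom Q P).T2pull M x = a.T2pull M ((canonHom A C B C).T2pull M x) := fun x => by
    rw [← T2pull_compSq a (canonHom A C B C), T2pull_eq (compSq a (canonHom A C B C)) (ofCompHom Q P)]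
  have i0 : ∀ x, (canonHom A B A C).T0pull M x = (toCompHom Q P).T0pull M (a.T0pull M x) := fun x => by
    rw [← T0pull_compSq (toCompHom Q P) a, T0pull_eq (canonHom A B A C) (compSq (toCompHom Q P) a)]
  have i1 : ∀ x, (canonHom A B A C).T1pull M x = (toCompHom Q P).T1pull M (a.T1pull M x) := fun x => by
    rw [← T1pull_compSq (toCompHom Q P) a, T1pull_eq (canonHom A B A C) (compSq (toCompHom Q P) a)]
  have i2 : ∀ x, (canonHom A B A C).T2pull M x = (toCompHom Q P).T2pull M (a.T2pull M x) := fun x => by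
    rw [← T2pull_compSq (toCompHom Q P) a, T2pull_eq (canonHom A B A C) (compSq (toCompHom Q P) a)]
  obtain ⟨δ₀, e0, e0'⟩ := exists_delta0 Q P M
  obtain ⟨δ, e1, e1'⟩ := exists_delta1 Q P M
  let δ₁ := δ.toAddMonoidHom
  replace e1 : Function.Exact ((toCompHom Q P).T1pull M) δ₁ := e1
  replace e1' : Function.Exact δ₁ ((ofCompHom Q P).T2pull M) := e1'
  refine ⟨fun x y h => T0pull_ofComp_injective Q P M (by rw [p0, p0, h]), fun y => ?_, fun y => ?_, fun y => ?_,
    δ₀, δ₁, fun y => ?_, fun y => ?_, fun y => ?_, fun y => ?_⟩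
  · rw [i0, exact_T0 Q P M _]
    exact ⟨fun ⟨x, hx⟩ => ⟨x, b0.1 (by rw [← p0]; exact hx)⟩, fun ⟨x, hx⟩ => ⟨x, by rw [p0, hx]⟩⟩
  · rw [i1, exact_T1 Q P M _]
    exact ⟨fun ⟨x, hx⟩ => ⟨x, b1.1 (by rw [← p1]; exact hx)⟩, fun ⟨x, hx⟩ => ⟨x, by rw [p1, hx]⟩⟩
  · rw [i2, exact_T2 Q P M _]
    exact ⟨fun ⟨x, hx⟩ => ⟨x, b2.1 (by rw [← p2]; exact hx)⟩, fun ⟨x, hx⟩ => ⟨x, by rw [p2, hx]⟩⟩
  · rw [e0 y]
    exact ⟨fun ⟨x, hx⟩ => by
      obtain ⟨x, rfl⟩ := b0.2 x
      exact ⟨x, (i0 x).trans hx⟩, fun ⟨x, hx⟩ => ⟨a.T0pull M x, (i0 x).symm.trans hx⟩⟩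
  · rw [← e0' y, p1]
    exact ⟨fun h => by rw [h, map_zero], fun h => b1.1 (by rw [h, map_zero])⟩
  · rw [e1 y]
    exact ⟨fun ⟨x, hx⟩ => by
      obtain ⟨x, rfl⟩ := b1.2 x
      exact ⟨x, (i1 x).trans hx⟩, fun ⟨x, hx⟩ => ⟨a.T1pull M x, (i1 x).symm.trans hx⟩⟩
  · rw [← e1' y, p2]
    exact ⟨fun h => by rw [h, map_zero], fun h => b2.1 (by rw [h, map_zero])⟩

end GrothLib.CotT
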