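import Groth.Agent.Lib.CotT.Koszul
import Groth.Agent.Lib.CotT.NineTerm
import Groth.Agent.Lib.RegLoc.Basic
import Mathlib.RingTheory.Regular.RegularSequence

/-!
# Second cotangent module of a quotient
-/

universe u

noncomputable section

namespace GrothLib.CotT

open TensorProduct
open _root_.CotT
open IsLocalRing

variable {A B : Type u} [CommRing A] [CommRing B] [Algebra A B] (hs : Function.Surjective (algebraMap A B))
  {n : ℕ} (f : Fin n → A) (hf : Ideal.span (Set.range f) = RingHom.ker (algebraMap A B))

/-- The presentation of a quotient by generators of the kernel. -/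
def quotPres : Algebra.Presentation A B PEmpty.{u + 1} (Fin n) where
  __ := Algebra.Generators.ofSurjectiveAlgebraMap hs
  relation i := MvPolynomial.C (f i)
  span_range_relation_eq_ker := by
    rw [Algebra.Generators.ker_eq_ker_aeval_val, Set.range_comp' MvPolynomial.C f, ← Ideal.map_span, hf]
    refine le_antisymm (Ideal.map_le_iff_le_comap.2 fun a ha => ?_) fun p hp => ?_
    · change MvPolynomial.aeval _ (MvPolynomial.C a) = 0
      rw [MvPolynomial.aeval_C]
      exact ha
    · obtain ⟨a, rfl⟩ := MvPolynomial.C_surjective _ p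
      refine Ideal.mem_map_of_mem _ ?_
      exact (MvPolynomial.aeval_C _ a).symm.trans hp

lemma algebraMap_quotPres_C (a : A) :
    algebraMap (quotPres hs f hf).toExtension.Ring B (MvPolynomial.C a) = algebraMap A B a :=
  (algebraMap_toExtension (quotPres hs f hf) _).trans (MvPolynomial.aeval_C _ a)

/-- Trivial relations in the presentation give trivial relations of the family. -/
theorem trivSpan_of_relations_trivial
    (h : ∀ q : relMod (quotPres hs f hf), jmap (quotPres hs f hf) q = 0 → q ∈ trivRel (quotPres hs f hf))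
    (q : Fin n →₀ A) (hq : Finsupp.linearCombination A f q = 0) : q ∈ trivSpan f := by
  let P := quotPres hs f hf
  let e : P.toExtension.Ring →+* A :=
    (MvPolynomial.aeval (R := A) (fun i : PEmpty.{u + 1} => i.elim) : MvPolynomial PEmpty.{u + 1} A →ₐ[A] A).toRingHom
  let c : A →+* P.toExtension.Ring := (MvPolynomial.C : A →+* MvPolynomial PEmpty.{u + 1} A)
  have hec : ∀ a, e (c a) = a := fun a => MvPolynomial.aeval_C _ a
  have hce : ∀ r, c (e r) = r := fun r => by
    obtain ⟨a, ha⟩ := MvPolynomial.C_surjective PEmpty.{u + 1} r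
    rw [show r = c a from ha.symm, hec]
  have hj : ∀ a : relMod P, e (jmap P a) = Finsupp.linearCombination A f (Finsupp.mapRange e (map_zero e) a) := by
    intro a
    induction a using Finsupp.induction_linear with
    | zero => simp
    | add x y hx hy => rw [map_add, map_add, hx, hy, Finsupp.mapRange_add (map_add e), map_add]
    | single i r =>
      rw [jmap_single, map_mul, Finsupp.mapRange_single, Finsupp.linearCombination_single, smul_eq_mul]
      exact congrArg _ (hec (f i))
  have key : ∀ y ∈ trivRel P, Finsupp.mapRange e (map_zero e) y ∈ trivSpan f := by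
    intro y hy
    induction hy using Submodule.span_induction with
    | mem y hy =>
      obtain ⟨a, b, rfl⟩ := hy
      refine Submodule.subset_span ⟨Finsupp.mapRange e (map_zero e) a, Finsupp.mapRange e (map_zero e) b, ?_⟩
      rw [← hj, ← hj]
      ext i
      simp [map_sub]
    | zero => simp
    | add x y _ _ hx hy => rw [Finsupp.mapRange_add (map_add e)]; exact add_mem hx hy
    | smul r x _ hx =>
      have : Finsupp.mapRange e (map_zero e) (r • x) = e r • Finsupp.mapRange e (map_zero e) x := by
        ext i; simp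
      rw [this]
      exact Submodule.smul_mem _ _ hx
  have hback : Finsupp.mapRange e (map_zero e) (Finsupp.mapRange c (map_zero c) q : relMod P) = q := by
    ext i; simp [hec]
  rw [← hback]
  refine key _ (h _ ?_)
  have := hj (Finsupp.mapRange c (map_zero c) q)
  rw [hback, hq] at this
  rw [← hce (jmap P _), this, map_zero]

/-- Vanishing of `T²` forces the relations of minimal generators to be trivial. -/
theorem relations_trivial_of_T2 [IsLocalRing A] [IsNoetherianRing A] [IsLocalRing B]
    (hmin : ∀ (q : Fin n → A), ∑ i, q i * f i = 0 → ∀ i, q i ∈ maximalIdeal A)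
    (hT : ∀ (M : Type u) [AddCommGroup M] [Module B M], Subsingleton (T2 (quotPres hs f hf) M))
    (q : relMod (quotPres hs f hf)) (hq : jmap (quotPres hs f hf) q = 0) : q ∈ trivRel (quotPres hs f hf) := by
  let P := quotPres hs f hf
  haveI : IsNoetherianRing P.toExtension.Ring := (inferInstance : IsNoetherianRing (MvPolynomial PEmpty.{u + 1} A))
  haveI : IsNoetherianRing B := isNoetherianRing_of_surjective A B (algebraMap A B) hs
  haveI : Module.Finite P.toExtension.Ring (relKer P) := Module.Finite.of_fg (IsNoetherian.noetherian _)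
  obtain ⟨ψ, hψ⟩ := (Submodule.Quotient.mk_eq_zero _).1 ((hT (L2 P)).elim (toT2 P (L2 P) LinearMap.id) 0)
  have hmap : ∀ a ∈ maximalIdeal A, algebraMap A B a ∈ maximalIdeal B := fun a ha => by
    refine le_maximalIdeal (fun h => ?_) (Ideal.mem_map_of_mem _ ha)
    obtain ⟨b, hb, hb1⟩ := (Ideal.mem_map_iff_of_surjective _ hs).1 ((Ideal.eq_top_iff_one _).1 h)
    refine (maximalIdeal.isMaximal A).ne_top ((Ideal.eq_top_iff_one _).2 ?_)
    have : (1 - b : A) ∈ RingHom.ker (algebraMap A B) := by
      rw [RingHom.mem_ker, map_sub, map_one, hb1, sub_self]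
    have hker : RingHom.ker (algebraMap A B) ≤ maximalIdeal A := le_maximalIdeal (RingHom.ker_ne_top _)
    simpa using (maximalIdeal A).add_mem (hker this) hb
  have htop : (⊤ : Submodule B (L2 P)) ≤ maximalIdeal B • ⊤ := fun z _ => by
    obtain ⟨g, rfl⟩ := exists_mk_one_tmul_eq P z
    have e := LinearMap.congr_fun hψ (Submodule.Quotient.mk ((1 : B) ⊗ₜ g))
    rw [d2Star_apply, LinearMap.comp_apply, d2_mk_tmul, LinearMap.id_apply] at e
    rw [← e]
    have hcoef : ∀ i, algebraMap P.toExtension.Ring B (g.1 i) ∈ maximalIdeal B := by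
      intro i
      choose a ha using fun i => MvPolynomial.C_surjective PEmpty.{u + 1} (g.1 i)
      have h0 : jmap P g.1 = 0 := g.2
      have hsum : jmap P g.1 = MvPolynomial.C (∑ j, a j * f j) := by
        rw [map_sum]
        change Finsupp.linearCombination _ (rel P) g.1 = _
        rw [Finsupp.linearCombination_apply, Finsupp.sum_fintype _ _ (by simp)]
        refine Finset.sum_congr rfl fun j _ => ?_
        rw [map_mul, ha]
        rfl
      have hz : ∑ j, a j * f j = 0 := MvPolynomial.C_injective PEmpty.{u + 1} A (by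
        rw [map_zero]; exact hsum.symm.trans h0)
      rw [← ha i]
      exact (algebraMap_quotPres_C hs f hf (a i)).symm ▸ hmap _ (hmin a hz i)
    have hmem : (1 : B) ⊗ₜ (g : relMod P) ∈ (maximalIdeal B • ⊤ : Submodule B (L1 P)) := by
      rw [← Finsupp.univ_sum_single (g : relMod P), tmul_sum]
      refine Submodule.sum_mem _ fun i _ => ?_
      have e' : (1 : B) ⊗ₜ Finsupp.single i (g.1 i) = algebraMap P.toExtension.Ring B (g.1 i) • L1basis P i := by
        rw [L1basis_apply, ← tmul_smul_eq, Finsupp.smul_single, smul_eq_mul, mul_one]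
      rw [e']
      exact Submodule.smul_mem_smul (hcoef i) trivial
    have := Submodule.mem_map_of_mem (f := ψ) hmem
    rw [Submodule.map_smul''] at this
    exact Submodule.smul_mono le_rfl le_top this
  have hbot := Submodule.eq_bot_of_le_smul_of_le_jacobson_bot _ _ (Module.Finite.fg_top (R := B) (M := L2 P)) htop
    (maximalIdeal_le_jacobson _)
  haveI : Subsingleton (L2 P) := subsingleton_of_forall_eq 0 fun z => by
    have hz : z ∈ (⊤ : Submodule B (L2 P)) := trivial
    rwa [hbot, Submodule.mem_bot] at hz
  exact (subsingleton_L2_iff P).1 inferInstance q hq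

/-- A quotient with vanishing `T²` is cut out by a regular sequence. -/
theorem exists_isRegular_of_T2 [IsLocalRing A] [IsNoetherianRing A] (I : Ideal A) (hI : I ≠ ⊤)
    (hT : ∀ (M : Type u) [AddCommGroup M] [Module (A ⧸ I) M], Subsingleton (T2 (canon A (A ⧸ I)) M)) :
    ∃ rs : List A, Ideal.ofList rs = I ∧ RingTheory.Sequence.IsRegular A rs := by
  classical
  obtain ⟨f, hfI⟩ := GrothLib.RegLoc.exists_generators_fin I
  have hIm : I ≤ maximalIdeal A := le_maximalIdeal hI
  haveI : Nontrivial (A ⧸ I) := Ideal.Quotient.nontrivial_iff.2 hI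
  haveI : IsLocalRing (A ⧸ I) := .of_surjective' _ Ideal.Quotient.mk_surjective
  have hf : Ideal.span (Set.range f) = RingHom.ker (algebraMap A (A ⧸ I)) := by
    rw [hfI]; exact (Ideal.mk_ker).symm
  have hmin : ∀ q : Fin _ → A, ∑ i, q i * f i = 0 → ∀ i, q i ∈ maximalIdeal A := by
    intro q hq i
    by_contra hi
    have hu : IsUnit (q i) := by simpa [mem_maximalIdeal, mem_nonunits_iff] using hi
    let T : Finset A := (Finset.univ.erase i).image f
    have hfi : f i ∈ Ideal.span (T : Set A) := by
      rw [← Finset.add_sum_erase _ _ (Finset.mem_univ i), add_eq_zero_iff_eq_neg] at hq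
      rw [← Ideal.unit_mul_mem_iff_mem _ hu, hq]
      exact neg_mem (Ideal.sum_mem _ fun j hj => Ideal.mul_mem_left _ _
        (Ideal.subset_span (Finset.mem_image_of_mem f hj)))
    have hspan : Ideal.span (T : Set A) = I := by
      refine le_antisymm (Ideal.span_le.2 fun y hy => ?_) ?_
      · obtain ⟨j, -, rfl⟩ := Finset.mem_image.1 hy
        exact hfI ▸ Ideal.subset_span ⟨j, rfl⟩
      · rw [← hfI, Ideal.span_le]
        rintro _ ⟨j, rfl⟩
        rcases eq_or_ne j i with rfl | hj
        · exact hfi
        · exact Ideal.subset_span (Finset.mem_image_of_mem f (Finset.mem_erase.2 ⟨hj, Finset.mem_univ j⟩))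
    have h1 : Submodule.spanFinrank (Ideal.span (T : Set A)) ≤ T.card :=
      (Submodule.spanFinrank_span_le_ncard_of_finite T.finite_toSet).trans (Set.ncard_coe_finset T).le
    have h2 : T.card ≤ (Finset.univ.erase i).card := Finset.card_image_le
    rw [hspan] at h1
    rw [Finset.card_erase_of_mem (Finset.mem_univ i), Finset.card_univ, Fintype.card_fin] at h2
    have := i.2
    omega
  let hs : Function.Surjective (algebraMap A (A ⧸ I)) := Ideal.Quotient.mk_surjective
  have htriv : ∀ q, Finsupp.linearCombination A f q = 0 → q ∈ trivSpan f := fun q hq =>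
    trivSpan_of_relations_trivial hs f hf (fun q' hq' => relations_trivial_of_T2 hs f hf hmin
      (fun M _ _ => (subsingleton_T2_iff (canon A (A ⧸ I)) (quotPres hs f hf) M).1 (hT M)) q' hq') q hq
  have hreg := regular_of_trivial _ f (fun i => by
    rw [← Ideal.jacobson_bot]; exact maximalIdeal_le_jacobson _ (hIm (hfI ▸ Ideal.subset_span ⟨i, rfl⟩))) htriv
  refine ⟨List.ofFn f, ?_, ⟨⟨fun i hi => ?_⟩, ?_⟩⟩
  · exact (congrArg Ideal.span (Set.ext fun y => List.mem_ofFn)).trans hfI
  · have hi' : i < Submodule.spanFinrank I := by simpa using hi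
    have e : (Ideal.ofList ((List.ofFn f).take i) • ⊤ : Submodule A A) = Ideal.span (f '' {j | j < ⟨i, hi'⟩}) := by
      rw [smul_eq_mul, Ideal.mul_top, Ideal.ofList]
      congr 1
      ext y
      constructor
      · intro hy
        obtain ⟨j, hj, rfl⟩ := List.mem_take_iff_getElem.1 hy
        exact ⟨⟨j, (lt_min_iff.1 hj).1.trans hi'⟩, (lt_min_iff.1 hj).1, by simp⟩
      · rintro ⟨j, hj, rfl⟩
        exact List.mem_take_iff_getElem.2 ⟨j, lt_min hj (by simp), by simp⟩
    rw [isSMulRegular_iff_right_eq_zero_of_smul]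
    intro z hz
    obtain ⟨z, rfl⟩ := Submodule.Quotient.mk_surjective _ z
    rw [← Submodule.Quotient.mk_smul, Submodule.Quotient.mk_eq_zero, e, List.getElem_ofFn, smul_eq_mul, mul_comm] at hz
    rw [Submodule.Quotient.mk_eq_zero, e]
    exact hreg ⟨i, hi'⟩ z hz
  · intro h
    rw [smul_eq_mul, Ideal.mul_top] at h
    refine (maximalIdeal.isMaximal A).ne_top (top_le_iff.1 (h.le.trans (Ideal.span_le.2 fun y hy => ?_)))
    obtain ⟨i, rfl⟩ := List.mem_ofFn.1 hy
    exact hIm (hfI ▸ Ideal.subset_span ⟨i, rfl⟩)

/-- If `T¹` and `T²` of `A/k` vanish, `T²` of a quotient can be computed over `A`. -/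
theorem subsingleton_T2_base_iff {k A C : Type u} [CommRing k] [CommRing A] [CommRing C] [Algebra k A]
    [Algebra A C] [Algebra k C] [IsScalarTower k A C] (M : Type u) [AddCommGroup M] [Module C M]
    [Module A M] [IsScalarTower A C M]
    (h1 : Subsingleton (T1 (canon k A) M)) (h2 : Subsingleton (T2 (canon k A) M)) :
    Subsingleton (T2 (canon k C) M) ↔ Subsingleton (T2 (canon A C) M) := by
  obtain ⟨-, -, -, he, δ₀, δ₁, -, -, -, hd⟩ := nineTerm (A := k) (B := A) (C := C) M
  constructor
  · intro h
    refine subsingleton_of_forall_eq 0 fun y => ?_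
    obtain ⟨x, rfl⟩ := (hd y).1 (Subsingleton.elim _ _)
    rw [Subsingleton.elim x 0, map_zero]
  · intro h
    refine subsingleton_of_forall_eq 0 fun y => ?_
    obtain ⟨x, rfl⟩ := (he y).1 (Subsingleton.elim _ _)
    rw [Subsingleton.elim x 0, map_zero]

end GrothLib.CotT
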