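import Groth.Agent.Lib.CotT.Rel

/-!
# The presentation of a composition
-/

universe u w m

noncomputable section

namespace GrothLib.CotT

open TensorProduct MvPolynomial
open _root_.CotT

section Square

variable {A A' B B' : Type u} {ι σ ι' σ' : Type w} [CommRing A] [CommRing B] [Algebra A B] [CommRing A'] [CommRing B']
  [Algebra A' B'] [Algebra A A'] [Algebra B B'] [Algebra A B'] [IsScalarTower A A' B'] [IsScalarTower A B B']
  {P : Algebra.Presentation A B ι σ} {P' : Algebra.Presentation A' B' ι' σ'}

lemma L0map_D (h : PresHom P P') (r : P.toExtension.Ring) :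
    h.L0map ((1 : B) ⊗ₜ[P.toExtension.Ring] KaehlerDifferential.D A P.toExtension.Ring r) =
      (1 : B') ⊗ₜ[P'.toExtension.Ring] KaehlerDifferential.D A' P'.toExtension.Ring (h.ringHom r) := by
  rw [PresHom.L0map_apply, Algebra.Extension.CotangentSpace.map_tmul, map_one]
  rfl

lemma L1map_basis (h : PresHom P P') (s : σ) : h.L1map (L1basis P s) = (1 : B') ⊗ₜ h.relVal s := by
  rw [L1basis_apply, PresHom.L1map_tmul, map_one, PresHom.relModMap_single, map_one, one_smul]

end Square

variable {A B C : Type u} [CommRing A] [CommRing B] [CommRing C] [Algebra A B] [Algebra B C] [Algebra A C]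
  [IsScalarTower A B C] {ι σ ι' σ' : Type w}
variable (Q : Algebra.Presentation B C ι' σ') (P : Algebra.Presentation A B ι σ)

/-- `R[y] → B[y]` as a morphism of presentations. -/
def ofCompHom : PresHom (Q.comp P) Q where
  hom := Q.toGenerators.ofComp P.toGenerators
  relVal := Sum.elim (fun s => Finsupp.single s 1) 0
  jmap_relVal := by
    rintro (s | t)
    · rw [Sum.elim_inl, jmap_single, one_mul]
      exact (Q.comp_aeval_relation_inl P s).symm
    · rw [Sum.elim_inr, Pi.zero_apply, map_zero]
      refine (Eq.trans (Algebra.Generators.toAlgHom_ofComp_rename Q.toGenerators P.toGenerators (rel P t)) ?_).symm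
      exact (congrArg MvPolynomial.C (algebraMap_rel P t)).trans (map_zero _)

/-- `A[x] → A[y, x]` as a morphism of presentations. -/
def toCompHom : PresHom P (Q.comp P) where
  hom := Q.toGenerators.toComp P.toGenerators
  relVal t := Finsupp.single (Sum.inr t) 1
  jmap_relVal t := by
    rw [jmap_single, one_mul]
    exact (DFunLike.congr_fun (Algebra.Generators.toComp_toAlgHom Q.toGenerators P.toGenerators) (rel P t)).symm

local notation "π" => ofCompHom Q P
local notation "ι₀" => toCompHom Q P

lemma ofComp_surjective : Function.Surjective (π).ringHom :=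
  Algebra.Generators.toAlgHom_ofComp_surjective Q.toGenerators P.toGenerators

lemma ofComp_relModMap_apply (f : relMod (Q.comp P)) (s : σ') :
    (π).relModMap f s = (π).ringHom (f (Sum.inl s)) := by
  classical
  induction f using Finsupp.induction_linear with
  | zero => simp
  | add a b ha hb => rw [map_add, Finsupp.add_apply, ha, hb, Finsupp.add_apply, map_add]
  | single t r =>
    rw [PresHom.relModMap_single]
    rcases t with t | t
    · change ((π).ringHom r • Finsupp.single t (1 : Q.toExtension.Ring)) s = _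
      rw [Finsupp.smul_single, smul_eq_mul, mul_one]
      rcases eq_or_ne t s with rfl | hne
      · simp
      · simp [Finsupp.single_eq_of_ne, hne, hne.symm]
    · change ((π).ringHom r • (0 : relMod Q)) s = _
      simp

/-- The kernel of `R[y] → B[y]` comes from the relations of `B`. -/
lemma exists_inr_of_ker {x : (Q.comp P).toExtension.Ring} (hx : (π).ringHom x = 0) :
    ∃ f : relMod (Q.comp P), (∀ s, f (Sum.inl s) = 0) ∧ jmap (Q.comp P) f = x := by
  classical
  have hker : x ∈ P.toGenerators.ker.map (Q.toGenerators.toComp P.toGenerators).toAlgHom :=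
    (Algebra.Generators.map_toComp_ker Q.toGenerators P.toGenerators).ge hx
  rw [← P.span_range_relation_eq_ker, Ideal.map_span] at hker
  clear hx
  induction hker using Submodule.span_induction with
  | mem x hx =>
    obtain ⟨_, ⟨t, rfl⟩, rfl⟩ := hx
    refine ⟨Finsupp.single (Sum.inr t) 1, fun s => Finsupp.single_eq_of_ne (by simp), ?_⟩
    rw [jmap_single, one_mul]
    exact (DFunLike.congr_fun (Algebra.Generators.toComp_toAlgHom Q.toGenerators P.toGenerators) (rel P t)).symm
  | zero => exact ⟨0, fun _ => rfl, map_zero _⟩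
  | add x y _ _ hx hy =>
    obtain ⟨f, hf, rfl⟩ := hx
    obtain ⟨g, hg, rfl⟩ := hy
    exact ⟨f + g, fun s => by rw [Finsupp.add_apply, hf, hg, add_zero], map_add _ _ _⟩
  | smul r x _ hx =>
    obtain ⟨f, hf, rfl⟩ := hx
    exact ⟨HSMul.hSMul (α := (Q.comp P).toExtension.Ring) (γ := relMod (Q.comp P)) r f,
      fun s => by rw [Finsupp.smul_apply, hf, smul_zero], map_smul _ _ _⟩

lemma L2map_ofComp_surjective : Function.Surjective (π).L2map := by
  classical
  intro z
  obtain ⟨q, rfl⟩ := exists_mk_one_tmul_eq Q z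
  choose l hl using ofComp_surjective Q P
  let f : relMod (Q.comp P) := Finsupp.mapDomain Sum.inl (Finsupp.mapRange (fun r => if r = 0 then 0 else l r) (if_pos rfl) q.1)
  have hf : (π).relModMap f = q.1 := Finsupp.ext fun s => by
    rw [ofComp_relModMap_apply, Finsupp.mapDomain_apply Sum.inl_injective, Finsupp.mapRange_apply]
    split_ifs with h
    · rw [h, map_zero]
    · exact hl _
  obtain ⟨g, hg, hgj⟩ := exists_inr_of_ker Q P (x := jmap _ f) (by
    rw [← PresHom.jmap_relModMap, hf]; exact q.2)
  refine ⟨Submodule.Quotient.mk ((1 : C) ⊗ₜ ⟨f - g, ?_⟩), ?_⟩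
  · change jmap _ (f - g) = 0
    rw [map_sub, hgj, sub_self]
  · rw [PresHom.L2map_mk_tmul, map_one]
    refine congrArg (fun q => Submodule.Quotient.mk ((1 : C) ⊗ₜ q)) (Subtype.ext ?_)
    rw [PresHom.relKerMap_coe, map_sub, hf, show (π).relModMap g = 0 from
      Finsupp.ext fun s => by rw [ofComp_relModMap_apply, hg, map_zero]; rfl, sub_zero]

lemma exists_trivRel_lift {y : relMod Q} (hy : y ∈ trivRel Q) :
    ∃ w ∈ trivRel (Q.comp P), (π).relModMap w = y := by
  classical
  choose l hl using ofComp_surjective Q P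
  have hlift : ∀ a : relMod Q, ∃ f, (π).relModMap f = a := fun a =>
    ⟨Finsupp.mapDomain Sum.inl (Finsupp.mapRange (fun r => if r = 0 then 0 else l r) (if_pos rfl) a),
      Finsupp.ext fun s => by
        rw [ofComp_relModMap_apply, Finsupp.mapDomain_apply Sum.inl_injective, Finsupp.mapRange_apply]
        split_ifs with h
        · rw [h, map_zero]
        · exact hl _⟩
  induction hy using Submodule.span_induction with
  | mem y hy =>
    obtain ⟨a, b, rfl⟩ := hy
    obtain ⟨a, rfl⟩ := hlift a
    obtain ⟨b, rfl⟩ := hlift b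
    refine ⟨_, Submodule.subset_span ⟨a, b, rfl⟩, ?_⟩
    rw [map_sub, LinearMap.map_smulₛₗ, LinearMap.map_smulₛₗ, PresHom.jmap_relModMap, PresHom.jmap_relModMap]
  | zero => exact ⟨0, zero_mem _, map_zero _⟩
  | add x y _ _ hx hy =>
    obtain ⟨a, ha, rfl⟩ := hx
    obtain ⟨b, hb, rfl⟩ := hy
    exact ⟨a + b, add_mem ha hb, map_add _ _ _⟩
  | smul r x _ hx =>
    obtain ⟨a, ha, rfl⟩ := hx
    obtain ⟨r, rfl⟩ := ofComp_surjective Q P r
    exact ⟨r • a, Submodule.smul_mem _ r ha, LinearMap.map_smulₛₗ _ _ _⟩

/-- Relations among the relations of `B` only, over `R[y]`, come from those over `R`. -/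
lemma inr_relation_mem_span (q : relMod (Q.comp P)) (hq : ∀ s, q (Sum.inl s) = 0)
    (hj : jmap (Q.comp P) q = 0) :
    q ∈ Submodule.span (Q.comp P).toExtension.Ring
      (Set.range fun g : relKer P => (ι₀).relModMap g.1) := by
  classical
  let e := MvPolynomial.sumAlgEquiv A ι' ι
  let co : (ι' →₀ ℕ) → (Q.comp P).toExtension.Ring →+ P.toExtension.Ring := fun m =>
    (MvPolynomial.lcoeff (MvPolynomial ι A) m).toAddMonoidHom.comp
      (e.toAlgHom : MvPolynomial (ι' ⊕ ι) A →ₐ[A] MvPolynomial ι' (MvPolynomial ι A)).toRingHom.toAddMonoidHom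
  let ren : P.toExtension.Ring →+* (Q.comp P).toExtension.Ring :=
    (MvPolynomial.rename (R := A) (Sum.inr : ι → ι' ⊕ ι)).toRingHom
  have hren : ∀ r : MvPolynomial ι A, e (MvPolynomial.rename Sum.inr r) = MvPolynomial.C r := fun r =>
    DFunLike.congr_fun (MvPolynomial.sumAlgEquiv_comp_rename_inr A ι' ι) r
  have hco' : ∀ m (x : MvPolynomial (ι' ⊕ ι) A) (r : MvPolynomial ι A),
      coeff m (e (x * MvPolynomial.rename Sum.inr r)) = coeff m (e x) * r := by
    intro m x r
    rw [map_mul, hren, mul_comm, coeff_C_mul, mul_comm]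
  have hco : ∀ m x (r : P.toExtension.Ring), co m (x * ren r) = co m x * r := fun m x r => hco' m x r
  have hrel : ∀ t, rel (Q.comp P) (Sum.inr t) = ren (rel P t) := fun t => rfl
  let g : (ι' →₀ ℕ) → relMod P := fun m => (q.comapDomain Sum.inr Sum.inr_injective.injOn).mapRange (co m) (map_zero _)
  have hg : ∀ m, jmap P (g m) = 0 := by
    intro m
    have key : ∀ f : relMod (Q.comp P), (∀ s, f (Sum.inl s) = 0) →
        jmap P ((f.comapDomain Sum.inr Sum.inr_injective.injOn).mapRange (co m) (map_zero _)) =
          co m (jmap (Q.comp P) f) := by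
      intro f hf
      have hfe : f = (f.comapDomain Sum.inr Sum.inr_injective.injOn).mapDomain Sum.inr := by
        refine Finsupp.ext fun t => ?_
        rcases t with t | t
        · rw [hf, Finsupp.mapDomain_of_notMem_range _ _ (by simp)]
        · rw [Finsupp.mapDomain_apply Sum.inr_injective, Finsupp.comapDomain_apply]
      generalize f.comapDomain Sum.inr Sum.inr_injective.injOn = h at hfe ⊢
      subst hfe
      clear hf
      induction h using Finsupp.induction_linear with
      | zero => simp
      | add a b ha hb =>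
        rw [Finsupp.mapRange_add (map_add _), map_add, ha, hb, Finsupp.mapDomain_add, map_add, map_add]
      | single t r =>
        rw [Finsupp.mapRange_single, Finsupp.mapDomain_single, jmap_single, jmap_single, hrel]
        exact (hco m r (rel P t)).symm
    rw [key q hq, hj, map_zero]
  let S := (q.comapDomain Sum.inr Sum.inr_injective.injOn).support.biUnion fun t => (e (q (Sum.inr t))).support
  let mon : (ι' →₀ ℕ) → (Q.comp P).toExtension.Ring := fun m => e.symm (monomial m 1)
  have hdec : q = ∑ m ∈ S, mon m • (ι₀).relModMap (g m) := by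
    have hι : ∀ h : relMod P, (ι₀).relModMap h =
        (h.mapRange ren (map_zero _)).mapDomain Sum.inr := by
      intro h
      induction h using Finsupp.induction_linear with
      | zero => simp
      | add a b ha hb =>
        rw [map_add, ha, hb, Finsupp.mapRange_add (map_add _), Finsupp.mapDomain_add]
      | single t r =>
        rw [PresHom.relModMap_single, Finsupp.mapRange_single, Finsupp.mapDomain_single]
        change (ι₀).ringHom r • Finsupp.single (Sum.inr t) (1 : (Q.comp P).toExtension.Ring) = _
        rw [Finsupp.smul_single, smul_eq_mul, mul_one]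
        exact congrArg _ (DFunLike.congr_fun (Algebra.Generators.toComp_toAlgHom Q.toGenerators P.toGenerators) r)
    refine Finsupp.ext fun t => ?_
    rw [Finsupp.finset_sum_apply]
    simp only [Finsupp.smul_apply, smul_eq_mul, hι]
    rcases t with t | t
    · rw [hq]
      refine (Finset.sum_eq_zero fun m _ => ?_).symm
      rw [Finsupp.mapDomain_of_notMem_range _ _ (by simp), mul_zero]
    · simp only [Finsupp.mapDomain_apply Sum.inr_injective, Finsupp.mapRange_apply, g, Finsupp.comapDomain_apply]
      have key : ∀ x : MvPolynomial (ι' ⊕ ι) A, (∀ m ∈ (e x).support, m ∈ S) →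
          x = ∑ m ∈ S, e.symm (monomial m 1) * MvPolynomial.rename Sum.inr (coeff m (e x)) := by
        intro x hx
        apply e.injective
        rw [map_sum]
        have hsum : ∀ m, e (e.symm (monomial m 1) * MvPolynomial.rename Sum.inr (coeff m (e x))) =
            monomial m (coeff m (e x)) := fun m => by
          rw [map_mul, AlgEquiv.apply_symm_apply, hren, mul_comm, C_mul_monomial, mul_one]
        rw [Finset.sum_congr rfl fun m _ => hsum m]
        refine (MvPolynomial.as_sum _).trans (Finset.sum_subset hx fun m _ hm => ?_)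
        rw [MvPolynomial.notMem_support_iff.1 hm, map_zero]
      refine key (q (Sum.inr t)) fun m hm => Finset.mem_biUnion.2 ⟨t, Finsupp.mem_support_iff.2 ?_, hm⟩
      rw [Finsupp.comapDomain_apply]
      intro h0
      rw [h0] at hm
      have : e (0 : MvPolynomial (ι' ⊕ ι) A) = 0 := map_zero e
      exact absurd hm (by erw [this]; simp)
  rw [hdec]
  exact Submodule.sum_mem _ fun m _ => Submodule.smul_mem _ _ (Submodule.subset_span ⟨⟨g m, hg m⟩, rfl⟩)

variable {M : Type m} [AddCommGroup M] [Module C M] [Module B M] [IsScalarTower B C M]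

/-- Exactness in the middle in degree 2. -/
lemma exists_pull2_eq_of_pull2_eq_zero (θ : L2 (Q.comp P) →ₗ[C] M) (hθ : (ι₀).pull2 M θ = 0) :
    ∃ η, (π).pull2 M η = θ := by
  classical
  let p : L2 (Q.comp P) →ₗ[C] L2 Q :=
    { toFun := (π).L2map, map_add' := map_add _, map_smul' := fun c z => (π).L2map.map_smulₛₗ c z }
  have hp : Function.Surjective p := L2map_ofComp_surjective Q P
  have hker : LinearMap.ker p ≤ LinearMap.ker θ := by
    intro z hz
    obtain ⟨q, rfl⟩ := exists_mk_one_tmul_eq (Q.comp P) z
    have hz' : (π).L2map (Submodule.Quotient.mk ((1 : C) ⊗ₜ q)) = 0 := hz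
    rw [PresHom.L2map_mk_tmul, map_one, mk_one_tmul_eq_zero_iff] at hz'
    obtain ⟨w, hw, hwq⟩ := exists_trivRel_lift Q P hz'
    let q' : relMod (Q.comp P) := q.1 - w
    have hq' : ∀ s, (π).ringHom (q' (Sum.inl s)) = 0 := fun s => by
      rw [← ofComp_relModMap_apply, map_sub, hwq, PresHom.relKerMap_coe, sub_self]; rfl
    choose h hh hhj using fun s : σ' => exists_inr_of_ker Q P (x := q' (Sum.inl s)) (hq' s)
    let S := (q'.comapDomain Sum.inl Sum.inl_injective.injOn).support
    let w₂ : relMod (Q.comp P) := ∑ s ∈ S,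
      ((jmap (Q.comp P) (h s)) • (Finsupp.single (Sum.inl s) 1 : relMod (Q.comp P)) -
        jmap (Q.comp P) (Finsupp.single (Sum.inl s) 1) • h s)
    have hw₂ : w₂ ∈ trivRel (Q.comp P) := Submodule.sum_mem _ fun s _ => Submodule.subset_span ⟨h s, _, rfl⟩
    have hinl : ∀ s, (q' - w₂) (Sum.inl s) = 0 := fun s => by
      rw [Finsupp.sub_apply, Finsupp.finset_sum_apply]
      simp only [Finsupp.sub_apply, Finsupp.smul_apply, hh, smul_zero, sub_zero, smul_eq_mul, hhj]
      rw [Finset.sum_eq_single s]
      · simp
      · intro b _ hb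
        rw [Finsupp.single_eq_of_ne (by simpa using Ne.symm hb)]
        simp
      · intro hs
        rw [Finsupp.single_eq_same, mul_one]
        simpa [S] using hs
    have hmem := inr_relation_mem_span Q P (q' - w₂) hinl (by
      rw [map_sub, map_sub, show jmap _ q.1 = 0 from q.2, show jmap _ w = 0 from trivRel_le_relKer _ hw,
        show jmap _ w₂ = 0 from trivRel_le_relKer _ hw₂, sub_zero, sub_zero])
    have key : ∀ y ∈ Submodule.span (Q.comp P).toExtension.Ring
        (Set.range fun g : relKer P => (ι₀).relModMap g.1),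
        ∃ k : relKer (Q.comp P), k.1 = y ∧ θ (Submodule.Quotient.mk ((1 : C) ⊗ₜ k)) = 0 := by
      intro y hy
      induction hy using Submodule.span_induction with
      | mem y hy =>
        obtain ⟨g, rfl⟩ := hy
        refine ⟨(ι₀).relKerMap g, rfl, ?_⟩
        have h1 := LinearMap.congr_fun hθ (Submodule.Quotient.mk ((1 : B) ⊗ₜ g))
        rwa [PresHom.pull2_apply, PresHom.L2map_mk_tmul, map_one] at h1
      | zero => exact ⟨0, rfl, by rw [tmul_zero, Submodule.Quotient.mk_zero, map_zero]⟩
      | add x y _ _ hx hy =>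
        obtain ⟨a, rfl, ha⟩ := hx
        obtain ⟨b, rfl, hb⟩ := hy
        exact ⟨a + b, rfl, by rw [tmul_add, Submodule.Quotient.mk_add, map_add, ha, hb, add_zero]⟩
      | smul r x _ hx =>
        obtain ⟨a, rfl, ha⟩ := hx
        refine ⟨r • a, rfl, ?_⟩
        rw [tmul_smul, smul_tmul', Algebra.smul_def, mul_one,
          show (algebraMap (Q.comp P).toExtension.Ring C r) ⊗ₜ[(Q.comp P).toExtension.Ring] a =
            algebraMap (Q.comp P).toExtension.Ring C r • ((1 : C) ⊗ₜ a) by rw [smul_tmul', smul_eq_mul, mul_one],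
          Submodule.Quotient.mk_smul, map_smul, ha, smul_zero]
    obtain ⟨k, hk, hk0⟩ := key _ hmem
    rw [LinearMap.mem_ker]
    have hqk : (Submodule.Quotient.mk ((1 : C) ⊗ₜ q) : L2 (Q.comp P)) = Submodule.Quotient.mk ((1 : C) ⊗ₜ k) := by
      have e : ((q - k : relKer (Q.comp P)) : relMod (Q.comp P)) ∈ trivRel (Q.comp P) := by
        rw [Submodule.coe_sub, hk]
        have : q.1 - (q' - w₂) = w + w₂ := by simp only [q']; abel
        rw [this]
        exact add_mem hw hw₂
      rw [← sub_eq_zero, ← Submodule.Quotient.mk_sub]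
      exact (congrArg Submodule.Quotient.mk
        (map_sub (TensorProduct.mk _ C (relKer (Q.comp P)) 1) q k).symm).trans (mk_one_tmul_eq_zero _ e)
    rw [hqk, hk0]
  refine ⟨(Submodule.liftQ _ θ hker) ∘ₗ (p.quotKerEquivOfSurjective hp).symm.toLinearMap, LinearMap.ext fun z => ?_⟩
  change Submodule.liftQ _ θ hker ((p.quotKerEquivOfSurjective hp).symm (p z)) = θ z
  rw [show p z = p.quotKerEquivOfSurjective hp (Submodule.Quotient.mk z) from rfl, LinearEquiv.symm_apply_apply]
  rfl

end GrothLib.CotT
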