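import Groth.Agent.Lib.CotT.LocalExt
import Groth.Agent.Lib.AdicExtra.Completion
import Groth.Agent.Lib.AdicFS.Complete

/-!
# Extensions of a local ring and of its completion
-/

universe u

noncomputable section

namespace GrothLib.CotT

open _root_.CotT IsLocalRing

section Compose

variable {Λ R R' R'' L : Type u} [CommRing Λ] [CommRing R] [CommRing R'] [CommRing R''] [Algebra Λ R] [Algebra Λ R']
  [Algebra Λ R''] [Algebra R R'] [Algebra R' R''] [Algebra R R''] [IsScalarTower Λ R R'] [IsScalarTower Λ R' R'']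
  [IsScalarTower Λ R R''] [IsScalarTower R R' R''] [AddCommGroup L] [Module R L] [Module R' L] [Module R'' L]
  [IsScalarTower R R' L] [IsScalarTower R' R'' L] [IsScalarTower R R'' L]

lemma extToT1_pullback_pullback (Z : Exal.Ext Λ R'' L) :
    extToT1 (canon Λ R) ((Z.pullback R').pullback R) = extToT1 (canon Λ R) (Z.pullback R) := by
  rw [extToT1_pullback (canonHom Λ R Λ R'), extToT1_pullback (canonHom Λ R' Λ R''),
    extToT1_pullback (canonHom Λ R Λ R''), ← T1pull_compSq (canonHom Λ R Λ R') (canonHom Λ R' Λ R''),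
    T1pull_eq (compSq (canonHom Λ R Λ R') (canonHom Λ R' Λ R'')) (canonHom Λ R Λ R'')]

end Compose

variable {Λ R : Type u} [CommRing Λ] [CommRing R] [Algebra Λ R] [IsLocalRing R] [IsNoetherianRing R]
variable {L : Type u} [AddCommGroup L] [Module (AdicCompletion (maximalIdeal R) R) L] [Module R L]
  [IsScalarTower R (AdicCompletion (maximalIdeal R) R) L] [IsSimpleModule R L]

omit [IsNoetherianRing R] in
lemma isSimpleModule_completion : IsSimpleModule (AdicCompletion (maximalIdeal R) R) L := by
  haveI : Nontrivial L := IsSimpleModule.nontrivial R L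
  rw [isSimpleModule_iff_toSpanSingleton_surjective]
  refine ⟨inferInstance, fun z hz w => ?_⟩
  obtain ⟨r, hr⟩ := IsSimpleModule.toSpanSingleton_surjective R hz w
  exact ⟨algebraMap R _ r, by simpa [IsScalarTower.algebraMap_smul] using hr⟩

theorem exists_completion_ext (Y : Exal.Ext Λ R L) :
    ∃ X : Exal.Ext Λ (AdicCompletion (maximalIdeal R) R) L, Nonempty ((X.pullback R).Equiv Y) := by
  haveI := isLocalRing_ext Y
  obtain ⟨c, hc⟩ := exists_pow_meets_trivially Y
  letI := fun n => quotModule (R := R) (L := L) n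
  haveI : ∀ n, IsScalarTower R (R ⧸ maximalIdeal R ^ (n + 1)) L := fun n =>
    Module.IsTorsionBySet.isScalarTower (isTorsionBySet_pow (R := R) (L := L) n)
  obtain ⟨Z, ⟨e⟩⟩ := exists_equiv_pullback (R' := R ⧸ maximalIdeal R ^ (c + 1)) Ideal.Quotient.mk_surjective Y
    (maximalIdeal Y.E ^ (c + 1)) hc ((map_pow_maximalIdeal Y (c + 1)).trans Ideal.mk_ker.symm)
  letI : Algebra (AdicCompletion (maximalIdeal R) R) (R ⧸ maximalIdeal R ^ (c + 1)) :=
    (AdicCompletion.evalₐ (maximalIdeal R) (c + 1)).toRingHom.toAlgebra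
  haveI : IsScalarTower R (AdicCompletion (maximalIdeal R) R) (R ⧸ maximalIdeal R ^ (c + 1)) :=
    IsScalarTower.of_algebraMap_eq fun r => ((AdicCompletion.evalₐ (maximalIdeal R) (c + 1)).commutes r).symm
  haveI : IsScalarTower Λ (AdicCompletion (maximalIdeal R) R) (R ⧸ maximalIdeal R ^ (c + 1)) :=
    IsScalarTower.of_algebraMap_eq fun a => by
      rw [IsScalarTower.algebraMap_apply Λ R (AdicCompletion (maximalIdeal R) R),
        ← IsScalarTower.algebraMap_apply R (AdicCompletion (maximalIdeal R) R),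
        ← IsScalarTower.algebraMap_apply Λ R]
  haveI := isSimpleModule_completion (R := R) (L := L)
  haveI : IsScalarTower (AdicCompletion (maximalIdeal R) R) (R ⧸ maximalIdeal R ^ (c + 1)) L := by
    refine IsScalarTower.of_algebraMap_smul fun x l => ?_
    obtain ⟨r, hr⟩ := Ideal.Quotient.mk_surjective (AdicCompletion.evalₐ (maximalIdeal R) (c + 1) x)
    have hk : x - algebraMap R _ r ∈ maximalIdeal (AdicCompletion (maximalIdeal R) R) := by
      have h1 : x - algebraMap R _ r ∈ RingHom.ker (AdicCompletion.evalₐ (maximalIdeal R) (c + 1)) := by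
        rw [RingHom.mem_ker, map_sub, ← hr, AlgHom.commutes]
        exact sub_self _
      rw [GrothLib.AdicFS.ker_evalₐ (IsNoetherian.noetherian _), ← AdicCompletion.maximalIdeal_eq_map] at h1
      exact Ideal.pow_le_self (Nat.succ_ne_zero c) h1
    have h2 := smul_eq_zero_of_mem hk l
    rw [sub_smul, sub_eq_zero, IsScalarTower.algebraMap_smul] at h2
    rw [h2]
    change AdicCompletion.evalₐ (maximalIdeal R) (c + 1) x • l = r • l
    rw [← hr]
    rfl
  refine ⟨Z.pullback (AdicCompletion (maximalIdeal R) R), Quotient.exact (exalToT1_injective (canon Λ R) ?_)⟩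
  change extToT1 _ _ = extToT1 _ _
  rw [extToT1_pullback_pullback, extToT1_congr _ e]

theorem completion_ext_injective (X X' : Exal.Ext Λ (AdicCompletion (maximalIdeal R) R) L)
    (h : Nonempty ((X.pullback R).Equiv (X'.pullback R))) : Nonempty (X.Equiv X') := by
  haveI := isSimpleModule_completion (R := R) (L := L)
  haveI : IsNoetherianRing (AdicCompletion (maximalIdeal R) R) :=
    GrothLib.AdicExtra.isNoetherianRing_adicCompletion _
  let C := AdicCompletion (maximalIdeal R) R
  have key : ∀ z : T1 (canon Λ C) L, (canonHom Λ R Λ C).T1pull L z = 0 → z = 0 := by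
    intro z hz
    obtain ⟨⟨W⟩, rfl⟩ := exalToT1_surjective (canon Λ C) z
    change extToT1 (canon Λ C) W = 0
    haveI := isLocalRing_ext W
    obtain ⟨c, hc⟩ := exists_pow_meets_trivially W
    letI := quotModule (R := C) (L := L) c
    haveI : IsScalarTower C (C ⧸ maximalIdeal C ^ (c + 1)) L :=
      Module.IsTorsionBySet.isScalarTower (isTorsionBySet_pow (R := C) (L := L) c)
    haveI : IsScalarTower R (C ⧸ maximalIdeal C ^ (c + 1)) L := IsScalarTower.of_algebraMap_smul fun r l => by
      rw [IsScalarTower.algebraMap_apply R C, IsScalarTower.algebraMap_smul (C ⧸ maximalIdeal C ^ (c + 1)),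
        IsScalarTower.algebraMap_smul]
    obtain ⟨Z, ⟨e⟩⟩ := exists_equiv_pullback (R' := C ⧸ maximalIdeal C ^ (c + 1)) Ideal.Quotient.mk_surjective W
      (maximalIdeal W.E ^ (c + 1)) hc ((map_pow_maximalIdeal W (c + 1)).trans Ideal.mk_ker.symm)
    rw [← extToT1_congr (canon Λ C) e]
    change (canonHom Λ R Λ C).T1pull L (extToT1 (canon Λ C) W) = 0 at hz
    rw [← extToT1_congr (canon Λ C) e, ← extToT1_pullback (canonHom Λ R Λ C), extToT1_pullback_pullback] at hz
    obtain ⟨s, hs⟩ := isTrivial_of_extToT1_eq_zero _ hz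
    let s' : R →ₐ[Λ] Z.E := (AlgHom.fst Λ Z.E R).comp ((Z.fiberProd R).val.comp s)
    have hs' : ∀ r, Z.proj (s' r) = Ideal.Quotient.mk _ (algebraMap R C r) := fun r => by
      have h1 : Z.proj (s' r) = algebraMap R (C ⧸ maximalIdeal C ^ (c + 1))
          (Subtype.val (s r : Z.fiberProd R)).2 := (s r).2
      rw [h1, show (Subtype.val (s r : Z.fiberProd R)).2 = r from hs r]
      rfl
    let N : Ideal Z.E := Ideal.comap Z.proj ((maximalIdeal C).map (Ideal.Quotient.mk _))
    have hN : N ^ (c + 2) = ⊥ := by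
      rw [eq_bot_iff, show N ^ (c + 2) = N ^ (c + 1) * N from pow_succ N (c + 1)]
      refine Ideal.mul_le.2 fun x hx y hy => Ideal.mem_bot.2 ?_
      have hx0 : Z.proj x = 0 := by
        have h1 : Z.proj x ∈ ((maximalIdeal C).map (Ideal.Quotient.mk (maximalIdeal C ^ (c + 1)))) ^ (c + 1) :=
          Ideal.le_comap_pow _ (c + 1) hx
        rwa [← Ideal.map_pow, Ideal.map_quotient_self, Ideal.mem_bot] at h1
      obtain ⟨l, rfl⟩ := (Z.isExtension.exact x).1 hx0
      obtain ⟨v, hv, hvy⟩ := (Ideal.mem_map_iff_of_surjective _ Ideal.Quotient.mk_surjective).1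
        (show Z.proj y ∈ (maximalIdeal C).map (Ideal.Quotient.mk _) from hy)
      rw [mul_comm, mul_incl', ← hvy, ← Ideal.Quotient.algebraMap_eq, IsScalarTower.algebraMap_smul,
        smul_eq_zero_of_mem hv, map_zero]
    have hkill : ∀ r ∈ maximalIdeal R ^ (c + 2), s' r = 0 := fun r hr => by
      have hle : (maximalIdeal R).map s' ≤ N := Ideal.map_le_iff_le_comap.2 fun x hx => by
        rw [Ideal.mem_comap, Ideal.mem_comap, hs']
        refine Ideal.mem_map_of_mem _ ?_
        rw [show maximalIdeal C = _ from AdicCompletion.maximalIdeal_eq_map]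
        exact Ideal.mem_map_of_mem _ hx
      have h1 : s' r ∈ ((maximalIdeal R).map s') ^ (c + 2) := by
        rw [← Ideal.map_pow]
        exact Ideal.mem_map_of_mem _ hr
      have h2 := Ideal.pow_right_mono hle (c + 2) h1
      rwa [hN, Ideal.mem_bot] at h2
    let σ : C →ₐ[Λ] Z.E := (Ideal.Quotient.liftₐ (maximalIdeal R ^ (c + 2)) s' hkill).comp
      ((AdicCompletion.evalₐ (maximalIdeal R) (c + 2)).restrictScalars Λ)
    have hσ : ∀ x : C, Z.proj (σ x) = algebraMap C (C ⧸ maximalIdeal C ^ (c + 1)) x := fun x => by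
      obtain ⟨r, hr⟩ := Ideal.Quotient.mk_surjective (AdicCompletion.evalₐ (maximalIdeal R) (c + 2) x)
      have hσx : σ x = s' r := by
        change Ideal.Quotient.liftₐ _ s' hkill (AdicCompletion.evalₐ (maximalIdeal R) (c + 2) x) = _
        rw [← hr]
        rfl
      have hk : x - algebraMap R C r ∈ maximalIdeal C ^ (c + 2) := by
        have h1 : x - algebraMap R C r ∈ RingHom.ker (AdicCompletion.evalₐ (maximalIdeal R) (c + 2)) := by
          rw [RingHom.mem_ker, map_sub, ← hr, AlgHom.commutes]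
          exact sub_self _
        rwa [GrothLib.AdicFS.ker_evalₐ (IsNoetherian.noetherian _), ← AdicCompletion.maximalIdeal_eq_map] at h1
      rw [hσx, hs', Ideal.Quotient.algebraMap_eq, eq_comm, Ideal.Quotient.eq]
      exact Ideal.pow_le_pow_right (Nat.le_succ _) hk
    refine extToT1_eq_zero_of_isTrivial _ ⟨(σ.prod (AlgHom.id Λ C)).codRestrict (Z.fiberProd C) hσ, fun x => rfl⟩
  refine Quotient.exact (exalToT1_injective (canon Λ C) (sub_eq_zero.1 (key _ ?_)))
  change (canonHom Λ R Λ C).T1pull L (extToT1 (canon Λ C) X - extToT1 (canon Λ C) X') = 0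
  rw [map_sub, ← extToT1_pullback (canonHom Λ R Λ C), ← extToT1_pullback (canonHom Λ R Λ C),
    extToT1_congr _ h.some, sub_self]

end GrothLib.CotT
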