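import Groth.Agent.Lib.CotT.Smooth
import Groth.Prelude.Def_Exal

/-!
# Extensions and `T¹`
-/

universe u

noncomputable section

namespace GrothLib.CotT

open _root_.CotT TensorProduct

attribute [local instance] Exal.opModule Exal.isCentralScalar_opModule

section ExtCalc

variable {A B M : Type u} [CommRing A] [CommRing B] [Algebra A B] [AddCommGroup M] [Module B M]
  (X : Exal.Ext A B M)

lemma proj_incl (m : M) : X.proj (X.incl m) = 0 := (X.isExtension.exact _).2 ⟨m, rfl⟩

lemma incl_mul_incl (m n : M) : X.incl m * X.incl n = 0 := by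
  rw [X.isExtension.mul_incl, proj_incl, zero_smul, map_zero]

lemma mul_eq_zero_of_proj {x y : X.E} (hx : X.proj x = 0) (hy : X.proj y = 0) : x * y = 0 := by
  obtain ⟨m, rfl⟩ := (X.isExtension.exact x).1 hx
  obtain ⟨n, rfl⟩ := (X.isExtension.exact y).1 hy
  exact incl_mul_incl X m n

lemma mul_incl' (x : X.E) (m : M) : x * X.incl m = X.incl (X.proj x • m) := X.isExtension.mul_incl x m

end ExtCalc

variable {A B M : Type u} [CommRing A] [CommRing B] [Algebra A B] [AddCommGroup M] [Module B M]
variable {ι σ : Type u} (P : Algebra.Presentation A B ι σ)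

/-- Lifts of `R → B` to an extension. -/
abbrev Lifts (X : Exal.Ext A B M) : Type u :=
  {g : P.toExtension.Ring →ₐ[A] X.E // ∀ r, X.proj (g r) = algebraMap P.toExtension.Ring B r}

lemma exists_lift_hom (X : Exal.Ext A B M) : Nonempty (Lifts P X) := by
  let s := Function.surjInv X.isExtension.proj_surjective
  let g : P.toExtension.Ring →ₐ[A] X.E := MvPolynomial.aeval fun i => s (P.val i)
  refine ⟨⟨g, fun r => ?_⟩⟩
  rw [algebraMap_toExtension]
  refine DFunLike.congr_fun (?_ : X.proj.comp g = (MvPolynomial.aeval P.val : MvPolynomial ι A →ₐ[A] B)) r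
  refine MvPolynomial.algHom_ext fun i => ?_
  change X.proj (g (MvPolynomial.X i)) = MvPolynomial.aeval P.val (MvPolynomial.X i : MvPolynomial ι A)
  rw [MvPolynomial.aeval_X]
  exact (congrArg X.proj (MvPolynomial.aeval_X _ i)).trans (Function.surjInv_eq X.isExtension.proj_surjective _)

/-- The cocycle of a lift. -/
lemma exists_cocycle {X : Exal.Ext A B M} (g : Lifts P X) :
    ∃ φ : P.toExtension.Cotangent →ₗ[B] M,
      ∀ i : P.toExtension.ker, X.incl (φ (Algebra.Extension.Cotangent.mk i)) = g.1 (i : P.toExtension.Ring) := by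
  have hI : ∀ i : P.toExtension.ker, X.proj (g.1 (i : P.toExtension.Ring)) = 0 := fun i => (g.2 _).trans i.2
  have hwd : ∀ i j : P.toExtension.ker, Algebra.Extension.Cotangent.mk i = Algebra.Extension.Cotangent.mk j →
      g.1 (i : P.toExtension.Ring) = g.1 (j : P.toExtension.Ring) := by
    intro i j h
    rw [← sub_eq_zero, ← map_sub]
    have h2 : ((i - j : P.toExtension.ker) : P.toExtension.Ring) ∈ P.toExtension.ker ^ 2 := by
      rw [← sub_eq_zero, ← map_sub, Algebra.Extension.Cotangent.mk_eq_zero_iff] at h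
      exact h
    rw [pow_two] at h2
    change g.1 ((i - j : P.toExtension.ker) : P.toExtension.Ring) = 0
    refine Submodule.mul_induction_on h2 (fun a ha b hb => ?_) fun a b ha hb => by rw [map_add, ha, hb, add_zero]
    rw [map_mul]
    exact mul_eq_zero_of_proj X (hI ⟨a, ha⟩) (hI ⟨b, hb⟩)
  let s := Function.surjInv (Algebra.Extension.Cotangent.mk_surjective (P := P.toExtension))
  have hs : ∀ c, Algebra.Extension.Cotangent.mk (s c) = c :=
    Function.surjInv_eq (Algebra.Extension.Cotangent.mk_surjective (P := P.toExtension))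
  let F : P.toExtension.Cotangent → M := fun c => X.kerLift _ (hI (s c))
  have hF : ∀ i, X.incl (F (Algebra.Extension.Cotangent.mk i)) = g.1 (i : P.toExtension.Ring) := fun i =>
    (X.incl_kerLift _ _).trans (hwd _ _ (hs _))
  refine ⟨{ toFun := F, map_add' := fun c d => ?_, map_smul' := fun b c => ?_ }, hF⟩
  · obtain ⟨i, rfl⟩ := Algebra.Extension.Cotangent.mk_surjective c
    obtain ⟨j, rfl⟩ := Algebra.Extension.Cotangent.mk_surjective d
    apply X.isExtension.incl_injective
    rw [← map_add, hF, map_add, hF, hF, Submodule.coe_add, map_add]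
  · obtain ⟨i, rfl⟩ := Algebra.Extension.Cotangent.mk_surjective c
    obtain ⟨r, rfl⟩ := algebraMap_surjective P b
    apply X.isExtension.incl_injective
    rw [RingHom.id_apply, algebraMap_smul, ← LinearMap.map_smul Algebra.Extension.Cotangent.mk r i, hF, ← g.2,
      ← mul_incl', hF, SetLike.val_smul, smul_eq_mul, map_mul]

/-- The cocycle of a lift. -/
def cocycle {X : Exal.Ext A B M} (g : Lifts P X) : P.toExtension.Cotangent →ₗ[B] M := (exists_cocycle P g).choose

lemma incl_cocycle {X : Exal.Ext A B M} (g : Lifts P X) (i : P.toExtension.ker) :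
    X.incl (cocycle P g (Algebra.Extension.Cotangent.mk i)) = g.1 (i : P.toExtension.Ring) :=
  (exists_cocycle P g).choose_spec i

/-- Translating a lift by a derivation. -/
lemma exists_translate {X : Exal.Ext A B M} (g : Lifts P X) (w : L0 P →ₗ[B] M) :
    ∃ g' : Lifts P X, ∀ r, g'.1 r = g.1 r + X.incl (w ((1 : B) ⊗ₜ KaehlerDifferential.D A P.toExtension.Ring r)) := by
  let D := KaehlerDifferential.D A P.toExtension.Ring
  refine ⟨⟨{
      toFun := fun r => g.1 r + X.incl (w ((1 : B) ⊗ₜ D r))
      map_one' := by simp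
      map_mul' := fun r s => ?_
      map_zero' := by simp
      map_add' := fun r s => by simp [map_add, tmul_add]; abel
      commutes' := fun a => ?_ }, fun r => ?_⟩, fun r => rfl⟩
  · have e : ∀ (a : P.toExtension.Ring) x, (1 : B) ⊗ₜ[P.toExtension.Ring] (a • x : Ω[P.toExtension.Ring⁄A]) =
        algebraMap P.toExtension.Ring B a • ((1 : B) ⊗ₜ x) := fun a x => by
      rw [tmul_smul, algebraMap_smul]
    change g.1 (r * s) + X.incl (w ((1 : B) ⊗ₜ D (r * s))) = _ * _
    rw [D.leibniz, tmul_add, e, e, map_add, map_add, LinearMap.map_smul, LinearMap.map_smul, ← g.2, ← g.2,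
      ← mul_incl', ← mul_incl', map_mul, add_mul, mul_add, mul_add, incl_mul_incl, add_zero, mul_comm (g.1 s)]
    abel
  · change g.1 (algebraMap A _ a) + X.incl (w ((1 : B) ⊗ₜ D (algebraMap A _ a))) = _
    rw [D.map_algebraMap, tmul_zero, map_zero, map_zero, add_zero, AlgHom.commutes]
  · change X.proj (g.1 r + X.incl (w ((1 : B) ⊗ₜ D r))) = _
    rw [map_add, proj_incl, add_zero, g.2]

/-- Two lifts differ by a derivation. -/
lemma exists_difference {X : Exal.Ext A B M} (g g' : Lifts P X) :
    ∃ w : L0 P →ₗ[B] M, ∀ r, g'.1 r = g.1 r + X.incl (w ((1 : B) ⊗ₜ KaehlerDifferential.D A P.toExtension.Ring r)) := by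
  have h0 : ∀ i, X.proj (g'.1 (MvPolynomial.X i) - g.1 (MvPolynomial.X i)) = 0 := fun i => by
    rw [map_sub, g'.2, g.2, sub_self]
  let w : L0 P →ₗ[B] M := P.cotangentSpaceBasis.constr B fun i => X.kerLift _ (h0 i)
  obtain ⟨g'', hg''⟩ := exists_translate P g w
  refine ⟨w, fun r => ?_⟩
  rw [← hg'']
  refine DFunLike.congr_fun (MvPolynomial.algHom_ext fun i => ?_ : g'.1 = g''.1) r
  refine ((hg'' (MvPolynomial.X i)).trans ?_).symm
  rw [show ((1 : B) ⊗ₜ KaehlerDifferential.D A P.toExtension.Ring (MvPolynomial.X i) : L0 P) = P.cotangentSpaceBasis i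
    from (Algebra.Generators.cotangentSpaceBasis_apply P.toGenerators i).symm]
  simp only [w]
  rw [Module.Basis.constr_basis, X.incl_kerLift, add_sub_cancel]
  rfl

lemma cocycle_eq_add {X : Exal.Ext A B M} (g g' : Lifts P X) (w : L0 P →ₗ[B] M)
    (h : ∀ r, g'.1 r = g.1 r + X.incl (w ((1 : B) ⊗ₜ KaehlerDifferential.D A P.toExtension.Ring r))) :
    cocycle P g' = cocycle P g + w ∘ₗ P.toExtension.cotangentComplex := by
  refine LinearMap.ext fun c => ?_
  obtain ⟨i, rfl⟩ := Algebra.Extension.Cotangent.mk_surjective c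
  apply X.isExtension.incl_injective
  rw [LinearMap.add_apply, map_add, incl_cocycle, incl_cocycle, h, LinearMap.comp_apply,
    Algebra.Extension.cotangentComplex_mk]

lemma homToT1_cocycle_eq {X : Exal.Ext A B M} (g g' : Lifts P X) :
    homToT1 P M (cocycle P g') = homToT1 P M (cocycle P g) := by
  obtain ⟨w, hw⟩ := exists_difference P g g'
  rw [cocycle_eq_add P g g' w hw, map_add, add_eq_left, ← LinearMap.mem_ker, ker_homToT1]
  exact ⟨w, rfl⟩

/-- The class of an extension. -/
def extToT1 (X : Exal.Ext A B M) : T1 P M := homToT1 P M (cocycle P (exists_lift_hom P X).some)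

lemma extToT1_eq {X : Exal.Ext A B M} (g : Lifts P X) : extToT1 P X = homToT1 P M (cocycle P g) :=
  homToT1_cocycle_eq P _ _

lemma extToT1_congr {X Y : Exal.Ext A B M} (e : Exal.Ext.Equiv X Y) : extToT1 P X = extToT1 P Y := by
  obtain ⟨g⟩ := exists_lift_hom P X
  let g' : Lifts P Y := ⟨e.toAlgEquiv.toAlgHom.comp g.1, fun r => (e.proj_apply _).trans (g.2 r)⟩
  rw [extToT1_eq P g, extToT1_eq P g']
  refine congrArg _ (LinearMap.ext fun c => ?_)
  obtain ⟨i, rfl⟩ := Algebra.Extension.Cotangent.mk_surjective c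
  apply Y.isExtension.incl_injective
  rw [incl_cocycle, ← e.apply_incl, incl_cocycle]
  rfl

/-- The map from extension classes to `T¹`. -/
def exalToT1 : Exal.Exalcom A B M → T1 P M :=
  Quotient.lift (extToT1 P) fun _ _ h => extToT1_congr P h.some

lemma extToT1_trivial : extToT1 P (Exal.Ext.trivial A B M) = 0 := by
  let s : B →ₐ[A] (Exal.Ext.trivial A B M).E :=
    { toFun := fun b => (TrivSqZeroExt.inl b : TrivSqZeroExt B M)
      map_one' := TrivSqZeroExt.inl_one M
      map_mul' := TrivSqZeroExt.inl_mul M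
      map_zero' := TrivSqZeroExt.inl_zero M
      map_add' := TrivSqZeroExt.inl_add M
      commutes' := fun _ => rfl }
  let g : Lifts P (Exal.Ext.trivial A B M) :=
    ⟨s.comp (IsScalarTower.toAlgHom A P.toExtension.Ring B), fun _ => rfl⟩
  rw [extToT1_eq P g, ← map_zero (homToT1 P M)]
  refine congrArg _ (LinearMap.ext fun c => ?_)
  obtain ⟨i, rfl⟩ := Algebra.Extension.Cotangent.mk_surjective c
  apply (Exal.Ext.trivial A B M).isExtension.incl_injective
  rw [incl_cocycle, LinearMap.zero_apply, map_zero]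
  change s (algebraMap P.toExtension.Ring B i) = 0
  rw [show algebraMap P.toExtension.Ring B i = 0 from i.2, map_zero]

/-- Extensions with lifts having the same cocycle are equivalent. -/
lemma nonempty_equiv_of_cocycle {X Y : Exal.Ext A B M} (g : Lifts P X) (h : Lifts P Y)
    (hc : cocycle P g = cocycle P h) : Nonempty (Exal.Ext.Equiv X Y) := by
  let s := Function.surjInv (algebraMap_surjective P)
  have hs : ∀ b, algebraMap P.toExtension.Ring B (s b) = b := Function.surjInv_eq _
  have h0 : ∀ {Z : Exal.Ext A B M} (k : Lifts P Z) (x : Z.E), Z.proj (x - k.1 (s (Z.proj x))) = 0 :=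
    fun k x => by rw [map_sub, k.2, hs, sub_self]
  have key : ∀ {Z W : Exal.Ext A B M} (k : Lifts P Z) (l : Lifts P W), cocycle P k = cocycle P l →
      ∀ (r : P.toExtension.Ring) (m : M) (x : Z.E), x = k.1 r + Z.incl m →
        l.1 (s (Z.proj x)) + W.incl (Z.kerLift _ (h0 k x)) = l.1 r + W.incl m := by
    intro Z W k l hkl r m x hx
    let i : P.toExtension.ker := ⟨r - s (Z.proj x), by
      change algebraMap P.toExtension.Ring B (r - s (Z.proj x)) = 0
      rw [map_sub, hs, hx, map_add, k.2, proj_incl, add_zero, sub_self]⟩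
    have hi : Z.kerLift _ (h0 k x) = cocycle P k (Algebra.Extension.Cotangent.mk i) + m := by
      apply Z.isExtension.incl_injective
      rw [Z.incl_kerLift, map_add, incl_cocycle]
      change x - k.1 (s (Z.proj x)) = k.1 (r - s (Z.proj x)) + Z.incl m
      rw [map_sub, hx]
      abel
    rw [hi, hkl, map_add, incl_cocycle]
    change l.1 (s (Z.proj x)) + (l.1 (r - s (Z.proj x)) + W.incl m) = _
    rw [map_sub]
    abel
  have dec : ∀ {Z : Exal.Ext A B M} (k : Lifts P Z) (x : Z.E), ∃ r m, x = k.1 r + Z.incl m := fun k x =>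
    ⟨_, _, eq_add_of_sub_eq' (Exal.Ext.incl_kerLift _ _ (h0 k x)).symm⟩
  let f : X.E → Y.E := fun x => h.1 (s (X.proj x)) + Y.incl (X.kerLift _ (h0 g x))
  let f' : Y.E → X.E := fun y => g.1 (s (Y.proj y)) + X.incl (Y.kerLift _ (h0 h y))
  have hf : ∀ r m, f (g.1 r + X.incl m) = h.1 r + Y.incl m := fun r m => key g h hc r m _ rfl
  have hf' : ∀ r m, f' (h.1 r + Y.incl m) = g.1 r + X.incl m := fun r m => key h g hc.symm r m _ rfl
  refine ⟨⟨{
      toFun := f
      invFun := f'
      left_inv := fun x => by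
        obtain ⟨r, m, rfl⟩ := dec g x
        rw [hf, hf']
      right_inv := fun y => by
        obtain ⟨r, m, rfl⟩ := dec h y
        rw [hf', hf]
      map_mul' := fun x y => ?_
      map_add' := fun x y => by
        obtain ⟨r, m, rfl⟩ := dec g x
        obtain ⟨r', m', rfl⟩ := dec g y
        rw [hf, hf, add_add_add_comm, ← map_add, ← map_add, hf, map_add, map_add]
        abel
      commutes' := fun a => by
        have := hf (algebraMap A _ a) 0
        rwa [AlgHom.commutes, AlgHom.commutes, map_zero, map_zero, add_zero, add_zero] at this },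
    fun x => ?_, fun m => ?_⟩⟩
  · obtain ⟨r, m, rfl⟩ := dec g x
    obtain ⟨r', m', rfl⟩ := dec g y
    have e : ∀ {Z : Exal.Ext A B M} (k : Lifts P Z), (k.1 r + Z.incl m) * (k.1 r' + Z.incl m') =
        k.1 (r * r') + Z.incl (algebraMap P.toExtension.Ring B r • m' + algebraMap P.toExtension.Ring B r' • m) :=
      fun {Z} k => by
        rw [map_add, ← k.2, ← k.2, ← mul_incl', ← mul_incl', map_mul, add_mul, mul_add, mul_add, incl_mul_incl,
          add_zero, mul_comm (k.1 r') _]
        abel
    rw [e g, hf, hf, hf, e h]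
  · obtain ⟨r, m, rfl⟩ := dec g x
    change Y.proj (f _) = _
    rw [hf, map_add, map_add, proj_incl, proj_incl, g.2, h.2]
  · change f _ = _
    have := hf 0 m
    rwa [map_zero, map_zero, zero_add, zero_add] at this

lemma exalToT1_injective : Function.Injective (exalToT1 (M := M) P) := by
  rintro ⟨X⟩ ⟨Y⟩ he
  refine Quotient.sound ?_
  change extToT1 P X = extToT1 P Y at he
  obtain ⟨g⟩ := exists_lift_hom P X
  obtain ⟨h⟩ := exists_lift_hom P Y
  rw [extToT1_eq P g, extToT1_eq P h, ← sub_eq_zero, ← map_sub, ← LinearMap.mem_ker, ker_homToT1] at he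
  obtain ⟨w, hw⟩ := he
  rw [LinearMap.lcomp_apply'] at hw
  obtain ⟨h', hh'⟩ := exists_translate P h w
  exact nonempty_equiv_of_cocycle P g h' (by rw [cocycle_eq_add P h h' w hh', hw, add_sub_cancel])

section Construct

variable (φ : P.toExtension.Cotangent →ₗ[B] M) [Module P.toExtension.Ring M] [IsScalarTower P.toExtension.Ring B M]

/-- `i ↦ (i, -φ i)` in `R ⊕ M`. -/
def graphMap : P.toExtension.ker →+ Exal.Ext.TrivCarrier A P.toExtension.Ring M where
  toFun i := (TrivSqZeroExt.inl (i : P.toExtension.Ring) : TrivSqZeroExt P.toExtension.Ring M) -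
    TrivSqZeroExt.inr (φ (Algebra.Extension.Cotangent.mk i))
  map_zero' := by
    change (_ - _ : TrivSqZeroExt P.toExtension.Ring M) = 0
    simp
  map_add' i j := by
    change _ = (_ + _ : TrivSqZeroExt P.toExtension.Ring M)
    rw [Submodule.coe_add, TrivSqZeroExt.inl_add, map_add, map_add, TrivSqZeroExt.inr_add]
    abel

/-- The kernel of `R ⊕ M → E_φ`. -/
def graphIdeal : Ideal (Exal.Ext.TrivCarrier A P.toExtension.Ring M) where
  carrier := Set.range (graphMap P φ)
  zero_mem' := ⟨0, map_zero _⟩
  add_mem' := by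
    rintro _ _ ⟨i, rfl⟩ ⟨j, rfl⟩
    exact ⟨i + j, map_add _ _ _⟩
  smul_mem' := by
    rintro (x : TrivSqZeroExt P.toExtension.Ring M) _ ⟨i, rfl⟩
    refine ⟨x.fst • i, ?_⟩
    change ((TrivSqZeroExt.inl _ - TrivSqZeroExt.inr _ : TrivSqZeroExt P.toExtension.Ring M)) =
      x * (TrivSqZeroExt.inl _ - TrivSqZeroExt.inr _)
    have hi : ((i : P.toExtension.Ring)) • x.snd = 0 := by
      rw [← algebraMap_smul B, show algebraMap P.toExtension.Ring B i = 0 from i.2, zero_smul]
    refine TrivSqZeroExt.ext ?_ ?_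
    · simp
    · simp [hi, LinearMap.map_smul_of_tower]

lemma exists_ext_cocycle : ∃ (X : Exal.Ext A B M) (g : Lifts P X), cocycle P g = φ := by
  let E₀ := Exal.Ext.TrivCarrier A P.toExtension.Ring M
  let J := graphIdeal P φ
  let fstHom : E₀ →ₐ[A] B :=
    (IsScalarTower.toAlgHom A P.toExtension.Ring B).comp (Exal.Ext.trivial A P.toExtension.Ring M).proj
  have hJ : ∀ x ∈ J, fstHom x = 0 := by
    rintro _ ⟨i, rfl⟩
    change algebraMap P.toExtension.Ring B (TrivSqZeroExt.fst (TrivSqZeroExt.inl (i : P.toExtension.Ring) -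
      TrivSqZeroExt.inr (φ (Algebra.Extension.Cotangent.mk i)) : TrivSqZeroExt P.toExtension.Ring M)) = 0
    rw [TrivSqZeroExt.fst_sub, TrivSqZeroExt.fst_inl, TrivSqZeroExt.fst_inr, sub_zero]
    exact i.2
  have hJ' : ∀ (x : TrivSqZeroExt P.toExtension.Ring M), (x : E₀) ∈ J →
      ∀ (hx : x.fst ∈ P.toExtension.ker), x.snd = - φ (Algebra.Extension.Cotangent.mk ⟨x.fst, hx⟩) := by
    rintro x ⟨i, hi⟩ hx
    change (TrivSqZeroExt.inl (i : P.toExtension.Ring) -
      TrivSqZeroExt.inr (φ (Algebra.Extension.Cotangent.mk i)) : TrivSqZeroExt P.toExtension.Ring M) = x at hi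
    subst hi
    simp
  let q := Ideal.Quotient.mkₐ A J
  let proj : (E₀ ⧸ J) →ₐ[A] B := Ideal.Quotient.liftₐ J fstHom hJ
  let incl : M →+ E₀ ⧸ J := q.toRingHom.toAddMonoidHom.comp (Exal.Ext.trivial A P.toExtension.Ring M).incl
  have hsurj : Function.Surjective proj := fun b => by
    obtain ⟨r, rfl⟩ := algebraMap_surjective P b
    exact ⟨q (TrivSqZeroExt.inl r : TrivSqZeroExt P.toExtension.Ring M), rfl⟩
  let X : Exal.Ext A B M :=
    { E := E₀ ⧸ J
      proj := proj
      incl := incl
      isExtension :=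
        { proj_surjective := hsurj
          incl_injective := fun m n h => by
            have hm : (TrivSqZeroExt.inr (m - n) : TrivSqZeroExt P.toExtension.Ring M) ∈ (J : Set E₀) := by
              rw [TrivSqZeroExt.inr_sub]
              exact Ideal.Quotient.eq.1 h
            have := hJ' _ hm (by simp [Algebra.Extension.ker])
            have e0 : ∀ y : P.toExtension.ker, (y : P.toExtension.Ring) = 0 → φ (Algebra.Extension.Cotangent.mk y) = 0 :=
              fun y hy => by rw [show y = 0 from Subtype.ext hy, map_zero, map_zero]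
            rw [e0 _ (TrivSqZeroExt.fst_inr P.toExtension.Ring (m - n)), neg_zero, TrivSqZeroExt.snd_inr, sub_eq_zero] at this
            exact this
          exact := fun x => by
            obtain ⟨x, rfl⟩ := Ideal.Quotient.mk_surjective x
            let x' : TrivSqZeroExt P.toExtension.Ring M := x
            constructor
            · intro hx
              refine ⟨x'.snd + φ (Algebra.Extension.Cotangent.mk ⟨x'.fst, hx⟩), Ideal.Quotient.eq.2 ⟨-⟨x'.fst, hx⟩, ?_⟩⟩
              change (TrivSqZeroExt.inl _ - TrivSqZeroExt.inr _ : TrivSqZeroExt P.toExtension.Ring M) =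
                TrivSqZeroExt.inr _ - x'
              refine TrivSqZeroExt.ext (by simp) (by simp)
            · rintro ⟨m, hm⟩
              change proj (Ideal.Quotient.mk J x) = 0
              rw [← hm]
              exact map_zero (algebraMap P.toExtension.Ring B)
          mul_incl := fun x m => by
            obtain ⟨x, rfl⟩ := Ideal.Quotient.mk_surjective x
            let x' : TrivSqZeroExt P.toExtension.Ring M := x
            refine ((map_mul (Ideal.Quotient.mk J) _ _).symm.trans (congrArg _ ?_))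
            refine ((Exal.Ext.trivial A P.toExtension.Ring M).isExtension.mul_incl x m).trans (congrArg _ ?_)
            exact (algebraMap_smul B x'.fst m).symm } }
  let inlHom : P.toExtension.Ring →ₐ[A] E₀ :=
    { toRingHom := (TrivSqZeroExt.inlHom P.toExtension.Ring M)
      commutes' := fun _ => rfl }
  let g : Lifts P X := ⟨q.comp inlHom, fun _ => rfl⟩
  refine ⟨X, g, LinearMap.ext fun c => ?_⟩
  obtain ⟨i, rfl⟩ := Algebra.Extension.Cotangent.mk_surjective c
  apply X.isExtension.incl_injective
  rw [incl_cocycle]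
  exact Ideal.Quotient.eq.2 ⟨i, rfl⟩

end Construct

lemma exalToT1_surjective : Function.Surjective (exalToT1 (M := M) P) := fun z => by
  obtain ⟨φ, rfl⟩ := homToT1_surjective P M z
  letI : Module P.toExtension.Ring M := Module.compHom M (algebraMap P.toExtension.Ring B)
  haveI : IsScalarTower P.toExtension.Ring B M := ⟨fun x y z => by
    rw [Algebra.smul_def, mul_smul]
    rfl⟩
  obtain ⟨X, g, hg⟩ := exists_ext_cocycle P φ
  exact ⟨X.cl, (extToT1_eq P g).trans (by rw [hg])⟩

/-- Classes of extensions are `T¹`. -/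
def exalEquivT1 : Exal.Exalcom A B M ≃ T1 P M :=
  Equiv.ofBijective _ ⟨exalToT1_injective P, exalToT1_surjective P⟩

lemma exalEquivT1_zero : exalEquivT1 P (0 : Exal.Exalcom A B M) = 0 := extToT1_trivial P

end GrothLib.CotT
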