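import Groth.Agent.Lib.CotT.ExalTriv
import Groth.Agent.Lib.CotT.NineTerm
import Groth.Prelude.Def_Exal2

/-!
# Pullback of extensions and the six-term sequence
-/

universe u

noncomputable section

namespace GrothLib.CotT

open _root_.CotT TensorProduct

attribute [local instance] Exal.opModule Exal.isCentralScalar_opModule

section Pull

variable {A B B' M : Type u} [CommRing A] [CommRing B] [CommRing B'] [Algebra A B] [Algebra A B'] [Algebra B B']
  [IsScalarTower A B B'] [AddCommGroup M] [Module B' M] [Module B M] [IsScalarTower B B' M]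
variable {ι σ ι' σ' : Type u} {P : Algebra.Presentation A B ι σ} {P' : Algebra.Presentation A B' ι' σ'}

lemma T1pull_homToT1 (h : PresHom P P') (φ : P'.toExtension.Cotangent →ₗ[B'] M) :
    h.T1pull M (homToT1 P' M φ) = homToT1 P M (PresHom.linOfSemilinear M (φ.comp h.cotMap)) := by
  change Submodule.Quotient.mk _ = Submodule.Quotient.mk _
  congr 1
  refine Subtype.ext (LinearMap.ext fun x => ?_)
  change φ (toCot P' (h.L1map x)) = φ (h.cotMap (toCot P x))
  rw [PresHom.toCot_L1map]

/-- The class of a pulled back extension. -/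
theorem extToT1_pullback (h : PresHom P P') (Y : Exal.Ext A B' M) :
    extToT1 P (Y.pullback B) = h.T1pull M (extToT1 P' Y) := by
  obtain ⟨g⟩ := exists_lift_hom P' Y
  let τ : P.toExtension.Ring →ₐ[A] P'.toExtension.Ring :=
    { toRingHom := h.ringHom
      commutes' := fun a => by
        change h.hom.toExtensionHom.toRingHom (algebraMap A P.toExtension.Ring a) = _
        rw [Algebra.Extension.Hom.toRingHom_algebraMap, Algebra.algebraMap_self, RingHom.id_apply] }
  have hc : ∀ r, algebraMap P'.toExtension.Ring B' (τ r) = algebraMap B B' (algebraMap P.toExtension.Ring B r) :=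
    fun r => h.hom.toExtensionHom.algebraMap_toRingHom r
  let f : P.toExtension.Ring →ₐ[A] (Y.pullback B).E :=
    ((g.1.comp τ).prod (IsScalarTower.toAlgHom A P.toExtension.Ring B)).codRestrict (Y.fiberProd B) fun r => by
      change Y.proj (g.1 (τ r)) = algebraMap B B' (algebraMap P.toExtension.Ring B r)
      rw [g.2, hc]
  let g' : Lifts P (Y.pullback B) := ⟨f, fun r => rfl⟩
  rw [extToT1_eq P g', extToT1_eq P' g, T1pull_homToT1]
  refine congrArg _ (LinearMap.ext fun c => ?_)
  obtain ⟨i, rfl⟩ := Algebra.Extension.Cotangent.mk_surjective c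
  apply (Y.pullback B).isExtension.incl_injective
  rw [incl_cocycle]
  apply Subtype.ext
  refine Prod.ext ?_ ?_
  · change g.1 (τ (i : P.toExtension.Ring)) = Y.incl (cocycle P' g (h.cotMap (Algebra.Extension.Cotangent.mk i)))
    rw [PresHom.cotMap_apply, Algebra.Extension.Cotangent.map_mk, incl_cocycle]
    rfl
  · change algebraMap P.toExtension.Ring B i = 0
    exact i.2

end Pull

section Tower

variable (k Λ R M : Type u) [CommRing k] [CommRing Λ] [CommRing R] [Algebra k Λ] [Algebra Λ R] [Algebra k R]
  [IsScalarTower k Λ R] [AddCommGroup M] [Module R M] [Module Λ M] [IsScalarTower Λ R M]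
  [Module k M] [IsScalarTower k R M] [IsScalarTower k Λ M]

theorem exists_derivation_extend (h : ∀ X : Exal.Ext Λ R M, X.IsTrivial) (D : Derivation k Λ M) :
    ∃ D' : Derivation k R M, ∀ a : Λ, D' (algebraMap Λ R a) = D a := by
  obtain ⟨s, hs⟩ := h (Exal.Ext.ofDerivation (C := R) D)
  let σ : R → TrivSqZeroExt R M := fun r => s r
  have h1 : ∀ r, (σ r).fst = r := hs
  have hmul : ∀ r r', σ (r * r') = σ r * σ r' := fun r r' => map_mul s r r'
  have hadd : ∀ r r', σ (r + r') = σ r + σ r' := fun r r' => map_add s r r'
  have halg : ∀ a : Λ, σ (algebraMap Λ R a) =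
      TrivSqZeroExt.inl (algebraMap Λ R a) + TrivSqZeroExt.inr (D a) := fun a => s.commutes a
  have hk : ∀ (c : k), (σ (algebraMap k R c)).snd = 0 := fun c => by
    rw [IsScalarTower.algebraMap_apply k Λ R, halg, Derivation.map_algebraMap]
    simp
  refine ⟨
    { toFun := fun r => (σ r).snd
      map_add' := fun r r' => by rw [hadd, TrivSqZeroExt.snd_add]
      map_smul' := fun c r => by
        rw [RingHom.id_apply, Algebra.smul_def, hmul, TrivSqZeroExt.snd_mul, hk, h1, h1, smul_zero, add_zero]
        exact (algebraMap_smul R c _)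
      map_one_eq_zero' := by
        have := hk 1
        rwa [map_one] at this
      leibniz' := fun r r' => by
        change (σ (r * r')).snd = r • (σ r').snd + r' • (σ r).snd
        rw [hmul, TrivSqZeroExt.snd_mul, h1, h1, op_smul_eq_smul] }, fun a => ?_⟩
  change (σ (algebraMap Λ R a)).snd = D a
  rw [halg]
  simp

theorem pullback_injective (h : ∀ X : Exal.Ext Λ R M, X.IsTrivial) (Y Y' : Exal.Ext k R M)
    (he : Nonempty ((Y.pullback Λ).Equiv (Y'.pullback Λ))) : Nonempty (Y.Equiv Y') := by
  haveI := (forall_isTrivial_iff_subsingleton_T1 (canon Λ R)).1 h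
  obtain ⟨-, -, hex, -⟩ := nineTerm (A := k) (B := Λ) (C := R) M
  have h1 := extToT1_congr (canon k Λ) he.some
  rw [extToT1_pullback (canonHom k Λ k R), extToT1_pullback (canonHom k Λ k R), ← sub_eq_zero, ← map_sub] at h1
  obtain ⟨x, hx⟩ := (hex _).1 h1
  rw [Subsingleton.elim x 0, map_zero] at hx
  exact Quotient.exact (exalToT1_injective (canon k R) (sub_eq_zero.1 hx.symm : _ = _))

theorem isTrivial_of_derivations (hD : ∀ D : Derivation k Λ M, ∃ D' : Derivation k R M, ∀ a : Λ, D' (algebraMap Λ R a) = D a)
    (hY : ∀ Y Y' : Exal.Ext k R M, Nonempty ((Y.pullback Λ).Equiv (Y'.pullback Λ)) → Nonempty (Y.Equiv Y'))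
    (X : Exal.Ext Λ R M) : X.IsTrivial := by
  let Y := X.restrictBase k
  let t : Λ → (Y.pullback Λ).E := fun a => ⟨((algebraMap Λ X.E a : X.E), a), X.proj.commutes a⟩
  have ht : (Y.pullback Λ).IsTrivial := ⟨
    { toFun := t
      map_one' := Subtype.ext (Prod.ext (map_one (algebraMap Λ X.E)) rfl)
      map_mul' := fun a b => Subtype.ext (Prod.ext (map_mul (algebraMap Λ X.E) a b) rfl)
      map_zero' := Subtype.ext (Prod.ext (map_zero (algebraMap Λ X.E)) rfl)
      map_add' := fun a b => Subtype.ext (Prod.ext (map_add (algebraMap Λ X.E) a b) rfl)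
      commutes' := fun c => Subtype.ext (Prod.ext rfl rfl) }, fun a => rfl⟩
  have htriv : ((Exal.Ext.trivial k R M).pullback Λ).IsTrivial := by
    refine isTrivial_of_extToT1_eq_zero (canon k Λ) ?_
    rw [extToT1_pullback (canonHom k Λ k R) (Exal.Ext.trivial k R M), extToT1_trivial, map_zero]
  obtain ⟨e⟩ := hY Y (Exal.Ext.trivial k R M) (Quotient.exact (exalToT1_injective (canon k Λ)
    ((extToT1_eq_zero_of_isTrivial (canon k Λ) ht).trans (extToT1_eq_zero_of_isTrivial (canon k Λ) htriv).symm)))
  obtain ⟨s, hs⟩ : Y.IsTrivial :=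
    isTrivial_of_extToT1_eq_zero (canon k R) ((extToT1_congr _ e).trans (extToT1_trivial _))
  let s₀ : R →+* X.E := s.toRingHom
  have hs₀ : ∀ r, X.proj (s₀ r) = r := hs
  have hsk : ∀ c : k, s₀ (algebraMap k R c) = algebraMap Λ X.E (algebraMap k Λ c) := fun c => s.commutes c
  have h0 : ∀ a : Λ, X.proj (algebraMap Λ X.E a - s₀ (algebraMap Λ R a)) = 0 := fun a => by
    rw [map_sub, AlgHom.commutes, hs₀, sub_self]
  let F : Λ → M := fun a => X.kerLift _ (h0 a)
  have hF : ∀ a, X.incl (F a) = algebraMap Λ X.E a - s₀ (algebraMap Λ R a) := fun a => X.incl_kerLift _ _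
  let D : Derivation k Λ M :=
    { toFun := F
      map_add' := fun a b => X.isExtension.incl_injective (by rw [map_add X.incl, hF, hF, hF, map_add, map_add, map_add]; abel)
      map_smul' := fun c a => X.isExtension.incl_injective (by
        rw [RingHom.id_apply, ← algebraMap_smul R c (F a),
          show algebraMap k R c = X.proj (s₀ (algebraMap k R c)) from (hs₀ _).symm, ← mul_incl', hF, hF,
          Algebra.smul_def, map_mul, map_mul, map_mul, ← IsScalarTower.algebraMap_apply k Λ R, hsk]
        ring)
      map_one_eq_zero' := X.isExtension.incl_injective (by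
        change X.incl (F 1) = _
        rw [hF, map_one, map_one, map_one, sub_self, map_zero])
      leibniz' := fun a b => X.isExtension.incl_injective (by
        change X.incl (F (a * b)) = X.incl (a • F b + b • F a)
        rw [map_add, ← IsScalarTower.algebraMap_smul R a (F b), ← IsScalarTower.algebraMap_smul R b (F a)]
        have e2 : X.incl (algebraMap Λ R b • F a) = algebraMap Λ X.E b * X.incl (F a) := by
          rw [mul_incl', AlgHom.commutes]
        have e1 : X.incl (algebraMap Λ R a • F b) = s₀ (algebraMap Λ R a) * X.incl (F b) := by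
          rw [mul_incl', hs₀]
        rw [e1, e2, hF, hF, hF, map_mul, map_mul, map_mul]
        ring) }
  obtain ⟨D', hD'⟩ := hD D
  refine ⟨
    { toFun := fun r => s₀ r + X.incl (D' r)
      map_one' := by rw [map_one, Derivation.map_one_eq_zero, map_zero, add_zero]
      map_mul' := fun r r' => by
        rw [map_mul, Derivation.leibniz, map_add, add_mul, mul_add, mul_add, incl_mul_incl, add_zero,
          mul_comm (X.incl (D' r)), mul_incl', mul_incl', hs₀, hs₀]
        abel
      map_zero' := by simp
      map_add' := fun r r' => by rw [map_add, map_add, map_add]; abel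
      commutes' := fun a => by
        change s₀ (algebraMap Λ R a) + X.incl (D' (algebraMap Λ R a)) = _
        rw [hD']
        change _ + X.incl (F a) = _
        rw [hF, add_sub_cancel] }, fun r => ?_⟩
  change X.proj (s₀ r + X.incl (D' r)) = r
  rw [map_add, proj_incl, hs₀, add_zero]

end Tower

end GrothLib.CotT
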