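import Groth.Agent.Lib.CotT.Exal
import Mathlib.RingTheory.Smooth.Local
import Mathlib.LinearAlgebra.Dual.Lemmas

/-!
# Trivial extensions and `T¹`
-/

universe u w t

noncomputable section

namespace GrothLib.CotT

open _root_.CotT TensorProduct IsLocalRing

attribute [local instance] Exal.opModule Exal.isCentralScalar_opModule

variable {A B M : Type u} [CommRing A] [CommRing B] [Algebra A B] [AddCommGroup M] [Module B M]
variable {ι σ : Type u} (P : Algebra.Presentation A B ι σ)

lemma extToT1_eq_zero_of_isTrivial {X : Exal.Ext A B M} (h : X.IsTrivial) : extToT1 P X = 0 := by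
  obtain ⟨s, hs⟩ := h
  let g : Lifts P X := ⟨s.comp (IsScalarTower.toAlgHom A P.toExtension.Ring B), fun r => hs _⟩
  rw [extToT1_eq P g, ← map_zero (homToT1 P M)]
  refine congrArg _ (LinearMap.ext fun c => ?_)
  obtain ⟨i, rfl⟩ := Algebra.Extension.Cotangent.mk_surjective c
  apply X.isExtension.incl_injective
  rw [incl_cocycle, LinearMap.zero_apply, map_zero]
  change s (algebraMap P.toExtension.Ring B i) = 0
  rw [show algebraMap P.toExtension.Ring B i = 0 from i.2, map_zero]

lemma isTrivial_of_extToT1_eq_zero {X : Exal.Ext A B M} (h : extToT1 P X = 0) : X.IsTrivial := by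
  have hX : exalToT1 P X.cl = exalToT1 P (Exal.Ext.trivial A B M).cl := h.trans (extToT1_trivial P).symm
  obtain ⟨e⟩ := Quotient.exact (exalToT1_injective P hX)
  let s : B →ₐ[A] (Exal.Ext.trivial A B M).E :=
    { toFun := fun b => (TrivSqZeroExt.inl b : TrivSqZeroExt B M)
      map_one' := TrivSqZeroExt.inl_one M
      map_mul' := TrivSqZeroExt.inl_mul M
      map_zero' := TrivSqZeroExt.inl_zero M
      map_add' := TrivSqZeroExt.inl_add M
      commutes' := fun _ => rfl }
  exact ⟨e.symm.toAlgEquiv.toAlgHom.comp s, fun b => (e.symm.proj_apply _).trans rfl⟩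

/-- All extensions are trivial iff `T¹` vanishes. -/
theorem forall_isTrivial_iff_subsingleton_T1 :
    (∀ X : Exal.Ext A B M, X.IsTrivial) ↔ Subsingleton (T1 P M) := by
  refine ⟨fun h => subsingleton_of_forall_eq 0 fun z => ?_,
    fun h X => isTrivial_of_extToT1_eq_zero P (Subsingleton.elim _ _)⟩
  obtain ⟨⟨X⟩, rfl⟩ := exalToT1_surjective P z
  exact extToT1_eq_zero_of_isTrivial P (h X)

/-- Formally smooth algebras have only trivial extensions. -/
theorem isTrivial_of_formallySmooth [Algebra.FormallySmooth A B] (X : Exal.Ext A B M) : X.IsTrivial :=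
  (forall_isTrivial_iff_subsingleton_T1 (canon A B)).2 (subsingleton_T1_of_formallySmooth _ M) X

/-- For a local algebra with a finite presentation, trivial extensions by the residue field imply
formal smoothness. -/
theorem formallySmooth_of_subsingleton_T1_residueField {ι : Type w} {σ : Type t} (P : Algebra.Presentation A B ι σ)
    [IsLocalRing B] [Finite ι] [IsNoetherianRing A]
    (h : Subsingleton (T1 P (ResidueField B))) : Algebra.FormallySmooth A B := by
  haveI : Algebra.FormallySmooth A P.toExtension.Ring :=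
    (inferInstance : Algebra.FormallySmooth A (MvPolynomial ι A))
  haveI : IsNoetherianRing P.toExtension.Ring := (inferInstance : IsNoetherianRing (MvPolynomial ι A))
  haveI : Module.Free P.toExtension.Ring (Ω[P.toExtension.Ring⁄A]) :=
    (inferInstance : Module.Free (MvPolynomial ι A) (Ω[MvPolynomial ι A⁄A]))
  haveI : Module.Finite P.toExtension.Ring (Ω[P.toExtension.Ring⁄A]) :=
    (Module.Finite.of_basis (KaehlerDifferential.mvPolynomialBasis A ι) :
      Module.Finite (MvPolynomial ι A) (Ω[MvPolynomial ι A⁄A]))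
  rw [Algebra.FormallySmooth.iff_injective_lTensor_residueField P.toExtension (IsNoetherian.noetherian _)]
  rw [injective_iff_map_eq_zero]
  intro z hz
  rw [← Module.forall_dual_apply_eq_zero_iff (ResidueField B) z]
  intro f
  let φ : P.toExtension.Cotangent →ₗ[B] ResidueField B :=
    (f.restrictScalars B).comp (TensorProduct.mk B (ResidueField B) P.toExtension.Cotangent 1)
  have h0 : homToT1 P (ResidueField B) φ = 0 := Subsingleton.elim _ _
  rw [← LinearMap.mem_ker, ker_homToT1] at h0
  obtain ⟨w, hw⟩ := h0
  have key : ∀ y, f y = TensorProduct.lift ((LinearMap.mul B (ResidueField B)).compl₂ w)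
      (P.toExtension.cotangentComplex.lTensor (ResidueField B) y) := fun y => by
    induction y using TensorProduct.induction_on with
    | zero => simp
    | add a b ha hb => rw [map_add, map_add, map_add, ha, hb]
    | tmul a c =>
      rw [LinearMap.lTensor_tmul, TensorProduct.lift.tmul]
      change f (a ⊗ₜ c) = a * w (P.toExtension.cotangentComplex c)
      have : w (P.toExtension.cotangentComplex c) = f (1 ⊗ₜ c) := LinearMap.congr_fun hw c
      rw [this, ← smul_eq_mul, ← map_smul, TensorProduct.smul_tmul', smul_eq_mul, mul_one]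
  rw [key, hz, map_zero]

section Residue

variable {k S : Type u} [Field k] [CommRing S] [Algebra k S] [IsLocalRing S] [IsArtinianRing S]

/-- An Artinian local algebra with residue field `k` is of finite type. -/
lemma finiteType_of_artinian (hres : ∀ a : S, ∃ c : k, a - algebraMap k S c ∈ maximalIdeal S) :
    Algebra.FiniteType k S := by
  obtain ⟨s, hs⟩ : (maximalIdeal S).FG := IsNoetherian.noetherian _
  obtain ⟨N, hN⟩ := IsArtinianRing.isNilpotent_jacobson_bot (R := S)
  rw [IsLocalRing.jacobson_eq_maximalIdeal _ bot_ne_top] at hN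
  let T := Algebra.adjoin k (s : Set S)
  have h1 : ∀ y ∈ maximalIdeal S, ∃ t ∈ T, t ∈ maximalIdeal S ∧ y - t ∈ maximalIdeal S ^ 2 := by
    intro y hy
    rw [← hs] at hy
    induction hy using Submodule.span_induction with
    | mem y hy => exact ⟨y, Algebra.subset_adjoin hy, hs ▸ Ideal.subset_span hy, by simp⟩
    | zero => exact ⟨0, zero_mem _, zero_mem _, by simp⟩
    | add a b _ _ ha hb =>
      obtain ⟨t, ht, ht', e⟩ := ha
      obtain ⟨t', h2, h2', e'⟩ := hb
      exact ⟨t + t', add_mem ht h2, add_mem ht' h2', by rw [add_sub_add_comm]; exact add_mem e e'⟩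
    | smul r a _ ha =>
      obtain ⟨t, ht, ht', e⟩ := ha
      obtain ⟨c, hc⟩ := hres r
      refine ⟨algebraMap k S c * t, mul_mem (T.algebraMap_mem c) ht, Ideal.mul_mem_left _ _ ht', ?_⟩
      have : r • a - algebraMap k S c * t = r * (a - t) + (r - algebraMap k S c) * t := by
        rw [smul_eq_mul]; ring
      rw [this]
      refine add_mem (Ideal.mul_mem_left _ _ e) ?_
      rw [pow_two]
      exact Ideal.mul_mem_mul hc ht'
  have h2 : ∀ j, 1 ≤ j → ∀ y ∈ maximalIdeal S ^ j, ∃ t ∈ T, t ∈ maximalIdeal S ^ j ∧
      y - t ∈ maximalIdeal S ^ (j + 1) := by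
    intro j hj
    induction j, hj using Nat.le_induction with
    | base =>
      intro y hy
      rw [pow_one] at hy ⊢
      exact h1 y hy
    | succ j hj ih =>
      intro y hy
      rw [pow_succ] at hy
      refine Submodule.mul_induction_on hy (fun a ha b hb => ?_) fun a b ha hb => ?_
      · obtain ⟨t, ht, ht', e⟩ := ih a ha
        obtain ⟨t', ht2, ht2', e'⟩ := h1 b hb
        refine ⟨t * t', mul_mem ht ht2, pow_succ (maximalIdeal S) j ▸ Ideal.mul_mem_mul ht' ht2', ?_⟩
        rw [show a * b - t * t' = (a - t) * b + t * (b - t') by ring]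
        refine add_mem ?_ ?_
        · rw [pow_succ _ (j + 1)]
          exact Ideal.mul_mem_mul e hb
        · rw [show j + 1 + 1 = j + 2 from rfl, pow_add]
          exact Ideal.mul_mem_mul ht' e'
      · obtain ⟨t, ht, ht', e⟩ := ha
        obtain ⟨t', h2, h2', e'⟩ := hb
        exact ⟨t + t', add_mem ht h2, add_mem ht' h2', by rw [add_sub_add_comm]; exact add_mem e e'⟩
  have h3 : ∀ j, ∀ a : S, ∃ t ∈ T, a - t ∈ maximalIdeal S ^ (j + 1) := by
    intro j
    induction j with
    | zero =>
      intro a
      obtain ⟨c, hc⟩ := hres a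
      exact ⟨_, T.algebraMap_mem c, by rwa [zero_add, pow_one]⟩
    | succ j ih =>
      intro a
      obtain ⟨t, ht, e⟩ := ih a
      obtain ⟨t', ht', -, e'⟩ := h2 (j + 1) (Nat.le_add_left 1 j) _ e
      exact ⟨t + t', add_mem ht ht', by rwa [← sub_sub]⟩
  refine ⟨⟨s, eq_top_iff.2 fun a _ => ?_⟩⟩
  obtain ⟨t, ht, e⟩ := h3 N a
  rw [pow_succ, hN, zero_mul] at e
  rwa [show a = t from sub_eq_zero.1 e]

end Residue

end GrothLib.CotT
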