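import Groth.Agent.Lib.CotT.Basic
import Mathlib.Algebra.Algebra.Unitization

/-!
# Independence of the morphism of presentations
-/

universe u v w t u' v' w' t' m

noncomputable section

namespace GrothLib.CotT

open TensorProduct
open _root_.CotT

section RelQuot

variable {A : Type u} {B : Type v} {ι : Type w} {σ : Type t}
variable [CommRing A] [CommRing B] [Algebra A B] (P : Algebra.Presentation A B ι σ)

/-- `F/F₀` with the product `x y = j(x) y`. -/
def RelQuot : Type (max t w u) := relMod P ⧸ trivRel P

instance : AddCommGroup (RelQuot P) := inferInstanceAs (AddCommGroup (relMod P ⧸ trivRel P))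

instance : Module P.toExtension.Ring (RelQuot P) :=
  inferInstanceAs (Module P.toExtension.Ring (relMod P ⧸ trivRel P))

/-- The class in `F/F₀`. -/
def relClass : relMod P →ₗ[P.toExtension.Ring] RelQuot P := (trivRel P).mkQ

lemma relClass_surjective : Function.Surjective (relClass P) := Submodule.mkQ_surjective _

lemma relClass_eq_zero {f : relMod P} : relClass P f = 0 ↔ f ∈ trivRel P := Submodule.Quotient.mk_eq_zero _

/-- `F/F₀ → R`. -/
def jQuot : RelQuot P →ₗ[P.toExtension.Ring] P.toExtension.Ring :=
  (trivRel P).liftQ (jmap P) (trivRel_le_relKer P)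

@[simp] lemma jQuot_relClass (f : relMod P) : jQuot P (relClass P f) = jmap P f := rfl

lemma jQuot_smul_comm (x y : RelQuot P) : jQuot P x • y = jQuot P y • x := by
  obtain ⟨a, rfl⟩ := relClass_surjective P x
  obtain ⟨b, rfl⟩ := relClass_surjective P y
  rw [← sub_eq_zero, jQuot_relClass, jQuot_relClass, ← map_smul, ← map_smul, ← map_sub, relClass_eq_zero]
  exact Submodule.subset_span ⟨a, b, rfl⟩

instance : NonUnitalCommRing (RelQuot P) :=
  { (inferInstance : AddCommGroup (RelQuot P)) with
    mul := fun x y => jQuot P x • y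
    left_distrib := fun x y z => smul_add _ y z
    right_distrib := fun x y z => by
      change jQuot P (x + y) • z = jQuot P x • z + jQuot P y • z
      rw [map_add, add_smul]
    zero_mul := fun x => by
      change jQuot P 0 • x = 0
      rw [map_zero, zero_smul]
    mul_zero := fun x => smul_zero _
    mul_assoc := fun x y z => by
      change jQuot P (jQuot P x • y) • z = jQuot P x • (jQuot P y • z)
      rw [map_smul, smul_eq_mul, mul_smul]
    mul_comm := jQuot_smul_comm P }

lemma mul_def (x y : RelQuot P) : x * y = jQuot P x • y := rfl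

instance : IsScalarTower P.toExtension.Ring (RelQuot P) (RelQuot P) :=
  ⟨fun r x y => by
    change jQuot P (r • x) • y = r • (jQuot P x • y)
    rw [map_smul, smul_eq_mul, mul_smul]⟩

instance : SMulCommClass P.toExtension.Ring (RelQuot P) (RelQuot P) :=
  ⟨fun r x y => by
    change r • (jQuot P x • y) = jQuot P x • (r • y)
    rw [smul_comm]⟩

/-- The ring `R ⋉ F/F₀`. -/
abbrev Ext1 : Type (max t w u) := Unitization P.toExtension.Ring (RelQuot P)

/-- `(r, x) ↦ r + j x`. -/
def evExt : Ext1 P →+* P.toExtension.Ring where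
  toFun x := x.fst + jQuot P x.snd
  map_one' := by simp
  map_mul' x y := by
    simp only [Unitization.fst_mul, Unitization.snd_mul, map_add, map_smul, smul_eq_mul, mul_def]
    ring
  map_zero' := by simp
  map_add' x y := by
    simp only [Unitization.fst_add, Unitization.snd_add, map_add]
    abel

/-- `(r, x) ↦ r`. -/
def fstExt : Ext1 P →+* P.toExtension.Ring := (Unitization.fstHom P.toExtension.Ring (RelQuot P) : _ →+* _)

@[simp] lemma fstExt_apply (x : Ext1 P) : fstExt P x = x.fst := rfl

/-- `F/F₀ → L₁`. -/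
def quotToL1 : RelQuot P →ₗ[P.toExtension.Ring] L1 P :=
  (trivRel P).liftQ (TensorProduct.mk P.toExtension.Ring B (relMod P) 1) fun y hy =>
    one_tmul_eq_zero_of_mem_trivRel P y hy

@[simp] lemma quotToL1_relClass (f : relMod P) : quotToL1 P (relClass P f) = (1 : B) ⊗ₜ f := rfl

lemma quotToL1_smul (r : P.toExtension.Ring) (x : RelQuot P) :
    quotToL1 P (r • x) = algebraMap P.toExtension.Ring B r • quotToL1 P x := by
  obtain ⟨f, rfl⟩ := relClass_surjective P x
  rw [← map_smul, quotToL1_relClass, quotToL1_relClass, tmul_smul_eq]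

end RelQuot

variable {A : Type u} {B : Type v} {ι : Type w} {σ : Type t}
variable {A' : Type u'} {B' : Type v'} {ι' : Type w'} {σ' : Type t'}
variable [CommRing A] [CommRing B] [Algebra A B] [CommRing A'] [CommRing B'] [Algebra A' B']
variable [Algebra A A'] [Algebra B B'] [Algebra A B'] [IsScalarTower A A' B'] [IsScalarTower A B B']
variable {P : Algebra.Presentation A B ι σ} {P' : Algebra.Presentation A' B' ι' σ'}

lemma ringHom_C (h : PresHom P P') (a : A) :
    h.ringHom (MvPolynomial.C a) = MvPolynomial.C (algebraMap A A' a) :=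
  h.hom.toAlgHom_C a

lemma ringHom_X (h : PresHom P P') (i : ι) : h.ringHom (MvPolynomial.X i) = h.hom.val i :=
  h.hom.toAlgHom_X i

/-- A variable, as an element of the presentation ring. -/
abbrev Xv (P : Algebra.Presentation A B ι σ) (i : ι) : P.toExtension.Ring := MvPolynomial.X i

lemma basis_eq (P : Algebra.Presentation A B ι σ) (i : ι) :
    (P.cotangentSpaceBasis i : L0 P) = (1 : B) ⊗ₜ[P.toExtension.Ring] KaehlerDifferential.D A P.toExtension.Ring (Xv P i) :=
  Algebra.Generators.cotangentSpaceBasis_apply P.toGenerators i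

/-- Induction on the ring of a presentation, stated on that ring. -/
lemma ring_induction (P : Algebra.Presentation A B ι σ) {motive : P.toExtension.Ring → Prop}
    (hC : ∀ a, motive (MvPolynomial.C a : P.toExtension.Ring))
    (hadd : ∀ p q : P.toExtension.Ring, motive p → motive q → motive (p + q))
    (hX : ∀ (p : P.toExtension.Ring) i, motive p → motive (p * Xv P i))
    (r : P.toExtension.Ring) : motive r :=
  MvPolynomial.induction_on r hC hadd hX

section Pair

variable (h h' : PresHom P P')

lemma algebraMap_sub_eq_zero (r : P.toExtension.Ring) :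
    algebraMap P'.toExtension.Ring B' (h'.ringHom r - h.ringHom r) = 0 := by
  rw [map_sub, h'.algebraMap_ringHom, h.algebraMap_ringHom, sub_self]

lemma exists_shift (i : ι) :
    ∃ f : relMod P', jmap P' f = h'.ringHom (MvPolynomial.X i) - h.ringHom (MvPolynomial.X i) :=
  exists_jmap_eq P' (algebraMap_sub_eq_zero h h' _)

/-- A choice of `F'`-lift of the difference on variables. -/
def shift (i : ι) : relMod P' := (exists_shift h h' i).choose

lemma jmap_shift (i : ι) :
    jmap P' (shift h h' i) = h'.ringHom (MvPolynomial.X i) - h.ringHom (MvPolynomial.X i) :=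
  (exists_shift h h' i).choose_spec

/-- `R → R' ⋉ F'/F₀'`. -/
def extMap : P.toExtension.Ring →+* Ext1 P' :=
  MvPolynomial.eval₂Hom
    ((Unitization.inlRingHom P'.toExtension.Ring (RelQuot P')).comp
      (h.ringHom.comp (MvPolynomial.C : A →+* MvPolynomial ι A)))
    fun i => Unitization.inl (h.ringHom (MvPolynomial.X i)) + Unitization.inr (relClass P' (shift h h' i))

/-- The twisted derivation. -/
def twistDer (r : P.toExtension.Ring) : RelQuot P' := (extMap h h' r).snd

lemma extMap_C (a : A) : extMap h h' (MvPolynomial.C a) = Unitization.inl (h.ringHom (MvPolynomial.C a)) :=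
  MvPolynomial.eval₂Hom_C _ _ a

lemma extMap_X (i : ι) : extMap h h' (MvPolynomial.X i) =
    Unitization.inl (h.ringHom (MvPolynomial.X i)) + Unitization.inr (relClass P' (shift h h' i)) :=
  MvPolynomial.eval₂Hom_X' _ _ i

lemma fst_extMap (r : P.toExtension.Ring) : (extMap h h' r).fst = h.ringHom r := by
  refine RingHom.congr_fun (f := (fstExt P').comp (extMap h h')) (g := h.ringHom)
    (MvPolynomial.ringHom_ext (fun a => ?_) fun i => ?_) r
  · change fstExt P' (extMap h h' (MvPolynomial.C a)) = _
    rw [extMap_C, fstExt_apply, Unitization.fst_inl]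
    rfl
  · change fstExt P' (extMap h h' (MvPolynomial.X i)) = _
    rw [extMap_X, fstExt_apply, Unitization.fst_add, Unitization.fst_inl, Unitization.fst_inr,
      add_zero]
    rfl

lemma ev_extMap (r : P.toExtension.Ring) : evExt P' (extMap h h' r) = h'.ringHom r := by
  refine RingHom.congr_fun (f := (evExt P').comp (extMap h h')) (g := h'.ringHom)
    (MvPolynomial.ringHom_ext (fun a => ?_) fun i => ?_) r
  · change evExt P' (extMap h h' (MvPolynomial.C a)) = _
    rw [extMap_C]
    change _ + jQuot P' _ = _
    rw [Unitization.fst_inl, Unitization.snd_inl, map_zero, add_zero]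
    exact (ringHom_C h a).trans (ringHom_C h' a).symm
  · change evExt P' (extMap h h' (MvPolynomial.X i)) = _
    rw [extMap_X]
    change _ + jQuot P' _ = _
    rw [Unitization.fst_add, Unitization.fst_inl, Unitization.fst_inr, add_zero, Unitization.snd_add,
      Unitization.snd_inl, Unitization.snd_inr, zero_add, jQuot_relClass, jmap_shift, add_sub_cancel]
    rfl

lemma jQuot_twistDer (r : P.toExtension.Ring) :
    jQuot P' (twistDer h h' r) = h'.ringHom r - h.ringHom r := by
  rw [← ev_extMap h h', ← fst_extMap h h']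
  exact (add_sub_cancel_left _ _).symm

lemma twistDer_add (a b : P.toExtension.Ring) :
    twistDer h h' (a + b) = twistDer h h' a + twistDer h h' b := by
  simp [twistDer]

lemma twistDer_C (a : A) : twistDer h h' (MvPolynomial.C a) = 0 := by
  rw [twistDer, extMap_C, Unitization.snd_inl]

lemma twistDer_X (i : ι) : twistDer h h' (MvPolynomial.X i) = relClass P' (shift h h' i) := by
  rw [twistDer, extMap_X, Unitization.snd_add, Unitization.snd_inl, Unitization.snd_inr, zero_add]

lemma twistDer_mul (a b : P.toExtension.Ring) :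
    twistDer h h' (a * b) = h'.ringHom a • twistDer h h' b + h.ringHom b • twistDer h h' a := by
  have e : h'.ringHom a = h.ringHom a + jQuot P' (twistDer h h' a) := by rw [jQuot_twistDer]; abel
  rw [e]
  simp only [twistDer, map_mul, Unitization.snd_mul, fst_extMap, mul_def, add_smul]
  abel

/-- The homotopy on relations. -/
def relDiff (f : relMod P) : RelQuot P' :=
  relClass P' (h'.relModMap f - h.relModMap f) - twistDer h h' (jmap P f)

lemma relDiff_add (f g : relMod P) : relDiff h h' (f + g) = relDiff h h' f + relDiff h h' g := by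
  simp only [relDiff, map_add, map_sub, twistDer_add]
  abel

lemma relDiff_zero : relDiff h h' 0 = 0 := by
  have := relDiff_add h h' 0 0
  rwa [add_zero, left_eq_add] at this

lemma relDiff_single (s : σ) (r : P.toExtension.Ring) :
    relDiff h h' (Finsupp.single s r) = h'.ringHom r • relDiff h h' (Finsupp.single s 1) := by
  have e : h'.ringHom r = h.ringHom r + jQuot P' (twistDer h h' r) := by rw [jQuot_twistDer]; abel
  simp only [relDiff, PresHom.relModMap_single, map_one, one_smul, jmap_single, one_mul, twistDer_mul,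
    map_sub, map_smul, smul_sub]
  rw [← h.jmap_relVal s, ← jQuot_relClass P', jQuot_smul_comm P' (relClass P' (h.relVal s)), e, add_smul,
    add_smul]
  simp only [add_smul]
  abel

lemma jQuot_relDiff (f : relMod P) : jQuot P' (relDiff h h' f) = 0 := by
  rw [relDiff, map_sub, jQuot_relClass, map_sub, PresHom.jmap_relModMap, PresHom.jmap_relModMap,
    jQuot_twistDer, sub_self]

lemma exists_relDiff_eq (f : relMod P) : ∃ g : relKer P', relClass P' g = relDiff h h' f := by
  obtain ⟨g, hg⟩ := relClass_surjective P' (relDiff h h' f)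
  refine ⟨⟨g, ?_⟩, hg⟩
  change jmap P' g = 0
  rw [← jQuot_relClass, hg, jQuot_relDiff]

variable {M : Type m} [AddCommGroup M] [Module B' M] [Module B M] [IsScalarTower B B' M]

lemma quotToL1_twistDer (c : L1 P' →ₗ[B'] M) (r : P.toExtension.Ring) :
    P.cotangentSpaceBasis.constr B (fun i => c ((1 : B') ⊗ₜ shift h h' i))
        ((1 : B) ⊗ₜ KaehlerDifferential.D A P.toExtension.Ring r) =
      c (quotToL1 P' (twistDer h h' r)) := by
  induction r using ring_induction with
  | hC a =>
    rw [twistDer_C, map_zero, map_zero]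
    have e : KaehlerDifferential.D A P.toExtension.Ring (MvPolynomial.C a) = 0 :=
      (KaehlerDifferential.D A P.toExtension.Ring).map_algebraMap a
    rw [e, tmul_zero, map_zero]
  | hadd p q hp hq =>
    rw [twistDer_add, map_add, map_add, tmul_add, map_add, hp, hq, map_add]
  | hX p i hp =>
    rw [twistDer_mul, map_add, map_add, quotToL1_smul, quotToL1_smul, map_smul, map_smul,
      h'.algebraMap_ringHom, h.algebraMap_ringHom, IsScalarTower.algebraMap_smul B' (algebraMap P.toExtension.Ring B p),
      IsScalarTower.algebraMap_smul B' (algebraMap P.toExtension.Ring B (Xv P i)), ← hp, twistDer_X, quotToL1_relClass]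
    have e : ((1 : B) ⊗ₜ KaehlerDifferential.D A P.toExtension.Ring (p * Xv P i) : L0 P) =
        algebraMap P.toExtension.Ring B p • P.cotangentSpaceBasis i +
          algebraMap P.toExtension.Ring B (Xv P i) •
            ((1 : B) ⊗ₜ KaehlerDifferential.D A P.toExtension.Ring p) := by
      rw [basis_eq, smul_tmul', smul_tmul', smul_eq_mul, smul_eq_mul,
        mul_one, mul_one]
      refine (congrArg (fun x => (1 : B) ⊗ₜ[P.toExtension.Ring] x)
        ((KaehlerDifferential.D A P.toExtension.Ring).leibniz p (Xv P i))).trans ?_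
      rw [tmul_add, tmul_smul, tmul_smul, smul_tmul', smul_tmul', Algebra.smul_def, Algebra.smul_def,
        mul_one, mul_one]
    rw [e, map_add, map_smul, map_smul, Module.Basis.constr_basis]

lemma cocycle_kills (c : cocycles1 P' M) (q : relKer P') : (c : L1 P' →ₗ[B'] M) ((1 : B') ⊗ₜ (q : relMod P')) = 0 := by
  rw [← d2_mk_tmul]
  exact LinearMap.congr_fun (LinearMap.mem_ker.1 c.2) _

lemma exists_pull1_sub (c : cocycles1 P' M) :
    ∃ ψ, h'.pull1 M (c : L1 P' →ₗ[B'] M) - h.pull1 M (c : L1 P' →ₗ[B'] M) = d1Star P M ψ := by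
  refine ⟨P.cotangentSpaceBasis.constr B fun i => (c : L1 P' →ₗ[B'] M) ((1 : B') ⊗ₜ shift h h' i),
    (L1basis P).ext fun s => ?_⟩
  rw [L1basis_apply, LinearMap.sub_apply, PresHom.pull1_apply, PresHom.pull1_apply, PresHom.L1map_tmul,
    PresHom.L1map_tmul, map_one, d1Star_apply, LinearMap.comp_apply, d1_tmul, one_smul, quotToL1_twistDer,
    ← map_sub, ← tmul_sub, ← quotToL1_relClass]
  obtain ⟨g, hg⟩ := exists_relDiff_eq h h' (Finsupp.single s 1)
  have e : relClass P' (h'.relModMap (Finsupp.single s 1) - h.relModMap (Finsupp.single s 1)) =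
      twistDer h h' (jmap P (Finsupp.single s 1)) + relClass P' g := by
    rw [hg, relDiff]; abel
  rw [e, map_add, map_add, quotToL1_relClass, cocycle_kills, add_zero]

lemma exists_pull2_sub (θ : L2 P' →ₗ[B'] M) : ∃ ψ, h'.pull2 M θ - h.pull2 M θ = d2Star P M ψ := by
  choose q hq using fun s => exists_relDiff_eq h h' (Finsupp.single s (1 : P.toExtension.Ring))
  let ψ : L1 P →ₗ[B] M := (L1basis P).constr B fun s => θ (Submodule.Quotient.mk ((1 : B') ⊗ₜ q s))
  have key : ∀ f : relMod P, ∃ g : relKer P', relClass P' g = relDiff h h' f ∧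
      ψ ((1 : B) ⊗ₜ f) = θ (Submodule.Quotient.mk ((1 : B') ⊗ₜ g)) := by
    intro f
    induction f using Finsupp.induction_linear with
    | zero =>
      exact ⟨0, by rw [ZeroMemClass.coe_zero, map_zero, relDiff_zero], by
        rw [tmul_zero, tmul_zero, Submodule.Quotient.mk_zero, map_zero, map_zero]⟩
    | add a b ha hb =>
      obtain ⟨ga, ha1, ha2⟩ := ha
      obtain ⟨gb, hb1, hb2⟩ := hb
      exact ⟨ga + gb, by rw [Submodule.coe_add, map_add, ha1, hb1, relDiff_add], by
        rw [tmul_add, tmul_add, Submodule.Quotient.mk_add, map_add, map_add, ha2, hb2]⟩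
    | single s r =>
      refine ⟨h'.ringHom r • q s, by
        rw [Submodule.coe_smul, map_smul, hq]
        exact (relDiff_single h h' s r).symm, ?_⟩
      have e : (1 : B) ⊗ₜ Finsupp.single s r = algebraMap P.toExtension.Ring B r • L1basis P s := by
        rw [L1basis_apply, ← tmul_smul_eq, Finsupp.smul_single, smul_eq_mul, mul_one]
      rw [e, map_smul, Module.Basis.constr_basis, tmul_smul, smul_tmul', Algebra.smul_def, mul_one,
        ← IsScalarTower.algebraMap_smul B' (algebraMap P.toExtension.Ring B r), ← map_smul,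
        ← Submodule.Quotient.mk_smul, smul_tmul', smul_eq_mul, mul_one, h'.algebraMap_ringHom]
  refine ⟨ψ, LinearMap.ext fun z => ?_⟩
  obtain ⟨x, rfl⟩ := exists_mk_one_tmul_eq P z
  rw [LinearMap.sub_apply, PresHom.pull2_apply, PresHom.pull2_apply, PresHom.L2map_mk_tmul,
    PresHom.L2map_mk_tmul, map_one, d2Star_apply, LinearMap.comp_apply, d2_mk_tmul, ← map_sub,
    ← Submodule.Quotient.mk_sub]
  obtain ⟨g, hg1, hg2⟩ := key x
  rw [hg2, ← sub_eq_zero, ← map_sub, ← Submodule.Quotient.mk_sub]
  have hx : jmap P (x : relMod P) = 0 := x.2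
  have h0 : twistDer h h' (0 : P.toExtension.Ring) = 0 := by simp [twistDer]
  have hz := mk_one_tmul_eq_zero P' (q := h'.relKerMap x - h.relKerMap x - g) ((relClass_eq_zero P').1 (by
    simp only [Submodule.coe_sub, map_sub, PresHom.relKerMap_coe, hg1, relDiff, hx, h0, sub_zero, sub_self]))
  have e : ∀ a b : relKer P', (1 : B') ⊗ₜ[P'.toExtension.Ring] (a - b) = (1 : B') ⊗ₜ a - (1 : B') ⊗ₜ b :=
    fun a b => map_sub (TensorProduct.mk P'.toExtension.Ring B' (relKer P') 1) a b
  rw [e, e] at hz
  exact (congrArg θ hz).trans (map_zero θ)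

lemma pull0_eq (φ : T0 P' M) : h'.pull0 M (φ : L0 P' →ₗ[B'] M) = h.pull0 M (φ : L0 P' →ₗ[B'] M) := by
  refine P.cotangentSpaceBasis.ext fun i => ?_
  rw [PresHom.pull0_apply, PresHom.pull0_apply, basis_eq, ← sub_eq_zero,
    ← map_sub, PresHom.L0map_apply, PresHom.L0map_apply]
  erw [Algebra.Extension.CotangentSpace.map_tmul, Algebra.Extension.CotangentSpace.map_tmul]
  rw [map_one, ← tmul_sub, ← map_sub]
  have hφ : (φ : L0 P' →ₗ[B'] M) ∈ LinearMap.ker (LinearMap.lcomp B' M P'.toExtension.cotangentComplex) :=
    (ker_d1Star P' M).le φ.2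
  rw [LinearMap.mem_ker] at hφ
  have h1 := LinearMap.congr_fun hφ
    (Algebra.Extension.Cotangent.mk ⟨_, algebraMap_sub_eq_zero h h' (Xv P i)⟩)
  simpa [Algebra.Extension.cotangentComplex_mk] using h1

variable (M)

theorem T0pull_eq : h'.T0pull M = h.T0pull M :=
  LinearMap.ext fun φ => Subtype.ext (pull0_eq h h' φ)

theorem T1pull_eq : h'.T1pull M = h.T1pull M := by
  refine LinearMap.ext fun z => ?_
  obtain ⟨c, rfl⟩ := Submodule.mkQ_surjective _ z
  exact (Submodule.Quotient.eq _).2 (by
    obtain ⟨ψ, hψ⟩ := exists_pull1_sub h h' c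
    exact ⟨ψ, hψ.symm⟩)

theorem T2pull_eq : h'.T2pull M = h.T2pull M := by
  refine LinearMap.ext fun z => ?_
  obtain ⟨c, rfl⟩ := Submodule.mkQ_surjective _ z
  exact (Submodule.Quotient.eq _).2 (by
    obtain ⟨ψ, hψ⟩ := exists_pull2_sub h h' c
    exact ⟨ψ, hψ.symm⟩)

end Pair

end GrothLib.CotT
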