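import Groth.Agent.Lib.CotT.Rel
import Mathlib.RingTheory.Nakayama
import Mathlib.RingTheory.Noetherian.Basic
import Mathlib.Algebra.BigOperators.Fin

/-!
# Families with only trivial relations are regular
-/

universe u w

noncomputable section

namespace GrothLib.CotT

variable {R : Type u} [CommRing R]

/-- Trivial relations of a family. -/
def trivSpan {n : ℕ} (f : Fin n → R) : Submodule R (Fin n →₀ R) :=
  Submodule.span R {y | ∃ a b : Fin n →₀ R,
    y = Finsupp.linearCombination R f a • b - Finsupp.linearCombination R f b • a}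

/-- Forgetting the last coordinate. -/
def trunc (n : ℕ) : (Fin (n + 1) →₀ R) →ₗ[R] (Fin n →₀ R) :=
  Finsupp.lcomapDomain Fin.castSucc (Fin.castSucc_injective n)

lemma linearCombination_trunc {n : ℕ} (f : Fin (n + 1) → R) (a : Fin (n + 1) →₀ R) :
    Finsupp.linearCombination R f a =
      Finsupp.linearCombination R (f ∘ Fin.castSucc) (trunc n a) + a (Fin.last n) * f (Fin.last n) := by
  rw [Finsupp.linearCombination_apply, Finsupp.sum_fintype _ _ (by simp),
    Finsupp.linearCombination_apply, Finsupp.sum_fintype _ _ (by simp), Fin.sum_univ_castSucc]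
  rfl

lemma trivSpan_decomp {n : ℕ} (f : Fin (n + 1) → R) {y : Fin (n + 1) →₀ R} (hy : y ∈ trivSpan f) :
    ∃ t ∈ trivSpan (f ∘ Fin.castSucc), ∃ r : Fin n →₀ R,
      trunc n y = t + f (Fin.last n) • r ∧
        y (Fin.last n) = - Finsupp.linearCombination R (f ∘ Fin.castSucc) r := by
  induction hy using Submodule.span_induction with
  | mem y hy =>
    obtain ⟨a, b, rfl⟩ := hy
    refine ⟨_, Submodule.subset_span ⟨trunc n a, trunc n b, rfl⟩,
      a (Fin.last n) • trunc n b - b (Fin.last n) • trunc n a, ?_, ?_⟩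
    · rw [map_sub, map_smul, map_smul, linearCombination_trunc f a, linearCombination_trunc f b, add_smul, add_smul,
        smul_sub, smul_smul, smul_smul, mul_comm (a (Fin.last n)), mul_comm (b (Fin.last n))]
      abel
    · rw [Finsupp.sub_apply, Finsupp.smul_apply, Finsupp.smul_apply, linearCombination_trunc f a,
        linearCombination_trunc f b, map_sub, map_smul, map_smul, smul_eq_mul, smul_eq_mul, smul_eq_mul, smul_eq_mul]
      ring
  | zero => exact ⟨0, zero_mem _, 0, by simp, by simp⟩
  | add x y _ _ hx hy =>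
    obtain ⟨t, ht, r, h1, h2⟩ := hx
    obtain ⟨t', ht', r', h1', h2'⟩ := hy
    refine ⟨t + t', add_mem ht ht', r + r', ?_, ?_⟩
    · rw [map_add, h1, h1', smul_add]; abel
    · rw [Finsupp.add_apply, h2, h2', map_add, neg_add]
  | smul c x _ hx =>
    obtain ⟨t, ht, r, h1, h2⟩ := hx
    exact ⟨c • t, Submodule.smul_mem _ c ht, c • r, by rw [map_smul, h1, smul_add, smul_comm],
      by rw [Finsupp.smul_apply, h2, map_smul, smul_neg]⟩

/-- Triviality of relations passes to prefixes. -/
lemma trivial_init [IsNoetherianRing R] {n : ℕ} (f : Fin (n + 1) → R)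
    (hf : f (Fin.last n) ∈ Ring.jacobson R)
    (h : ∀ q, Finsupp.linearCombination R f q = 0 → q ∈ trivSpan f)
    (q : Fin n →₀ R) (hq : Finsupp.linearCombination R (f ∘ Fin.castSucc) q = 0) :
    q ∈ trivSpan (f ∘ Fin.castSucc) := by
  let Q := LinearMap.ker (Finsupp.linearCombination R (f ∘ Fin.castSucc))
  suffices Q ≤ trivSpan (f ∘ Fin.castSucc) from this hq
  refine Submodule.le_of_le_smul_of_le_jacobson_bot (IsNoetherian.noetherian Q)
    (I := Ideal.span {f (Fin.last n)}) ?_ fun x hx => ?_
  · rw [Ideal.jacobson_bot] 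
    exact (Ideal.span_singleton_le_iff_mem _).2 hf
  · have he : trunc n (Finsupp.mapDomain Fin.castSucc x) = x := Finsupp.ext fun i => by
      change Finsupp.mapDomain Fin.castSucc x (Fin.castSucc i) = x i
      rw [Finsupp.mapDomain_apply (Fin.castSucc_injective n)]
    have hl : Finsupp.mapDomain Fin.castSucc x (Fin.last n) = 0 :=
      Finsupp.mapDomain_of_notMem_range _ _ (by
        rintro ⟨i, hi⟩
        exact Fin.castSucc_ne_last i hi)
    obtain ⟨t, ht, r, h1, h2⟩ := trivSpan_decomp f (h (Finsupp.mapDomain Fin.castSucc x) (by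
      rw [Finsupp.linearCombination_mapDomain]
      exact hx))
    rw [he] at h1
    rw [hl, eq_comm, neg_eq_zero] at h2
    rw [h1]
    exact Submodule.add_mem_sup ht (Submodule.smul_mem_smul (Ideal.mem_span_singleton_self _) h2)

/-- A family with only trivial relations is regular. -/
theorem regular_of_trivial [IsNoetherianRing R] :
    ∀ (n : ℕ) (f : Fin n → R), (∀ i, f i ∈ Ring.jacobson R) →
      (∀ q, Finsupp.linearCombination R f q = 0 → q ∈ trivSpan f) →
      ∀ (i : Fin n) (a : R), a * f i ∈ Ideal.span (f '' {j | j < i}) → a ∈ Ideal.span (f '' {j | j < i}) := by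
  intro n
  induction n with
  | zero => exact fun f _ _ i => i.elim0
  | succ n ih =>
    intro f hf h i a ha
    have himg : ∀ k : Fin (n + 1), f '' {j | j < k} = (f ∘ Fin.castSucc) '' {j : Fin n | j.castSucc < k} := by
      intro k
      ext y
      constructor
      · rintro ⟨j, hj, rfl⟩
        refine ⟨j.castPred (Fin.ne_last_of_lt hj), ?_, ?_⟩
        · simpa using hj
        · simp
      · rintro ⟨j, hj, rfl⟩
        exact ⟨j.castSucc, hj, rfl⟩
    rcases Fin.eq_castSucc_or_eq_last i with ⟨i, rfl⟩ | rfl
    · rw [himg] at ha ⊢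
      have : {j : Fin n | j.castSucc < i.castSucc} = {j | j < i} := by ext j; simp
      rw [this] at ha ⊢
      exact ih (f ∘ Fin.castSucc) (fun j => hf _) (trivial_init f (hf _) h) i a ha
    · have hall : f '' {j | j < Fin.last n} = Set.range (f ∘ Fin.castSucc) := by
        rw [himg, ← Set.image_univ]
        congr 1
        ext j
        simp [Fin.castSucc_lt_last]
      rw [hall] at ha ⊢
      rw [Ideal.span, Finsupp.mem_span_range_iff_exists_finsupp] at ha ⊢
      obtain ⟨c, hc⟩ := ha
      have hcm : Finsupp.linearCombination R (f ∘ Fin.castSucc) c = a * f (Fin.last n) := hc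
      obtain ⟨t, -, r, -, h2⟩ := trivSpan_decomp f
        (h (Finsupp.mapDomain Fin.castSucc c - Finsupp.single (Fin.last n) a) (by
          rw [map_sub, Finsupp.linearCombination_mapDomain, Finsupp.linearCombination_single, hcm, smul_eq_mul, sub_self]))
      refine ⟨r, ?_⟩
      rw [Finsupp.sub_apply, Finsupp.single_eq_same, Finsupp.mapDomain_of_notMem_range _ _ (by
        rintro ⟨i, hi⟩; exact Fin.castSucc_ne_last i hi), zero_sub, neg_inj] at h2
      exact h2.symm

end GrothLib.CotT
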