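import Groth.Agent.Lib.CotT.LocalExt
import Mathlib.RingTheory.Artinian.Ring

/-!
# Trivial extensions and lifting along small extensions
-/

universe u

noncomputable section

namespace GrothLib.CotT

open IsLocalRing

variable {k Λ R : Type u} [CommRing k] [CommRing Λ] [Algebra k Λ] [CommRing R] [Algebra Λ R] [IsLocalRing R]

/-- If all extensions by the residue field are trivial, maps lift along small extensions. -/
theorem exists_lift_of_isTrivial (h : ∀ X : Exal.Ext Λ R (ResidueField R), X.IsTrivial)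
    (B : Type u) [CommRing B] [Algebra Λ B] [IsLocalRing B]
    (hB : ∀ b : B, ∃ c : k, b - algebraMap Λ B (algebraMap k Λ c) ∈ maximalIdeal B)
    (t : B) (ht : t ∈ maximalIdeal B) (htm : ∀ b ∈ maximalIdeal B, b * t = 0)
    (φ : R →ₐ[Λ] B ⧸ Ideal.span {t}) :
    ∃ φ' : R →ₐ[Λ] B, (Ideal.Quotient.mkₐ Λ (Ideal.span {t})).comp φ' = φ := by
  classical
  let q := Ideal.Quotient.mk (Ideal.span {t})
  let q' : B →ₐ[Λ] B ⧸ Ideal.span {t} := Ideal.Quotient.mkₐ Λ _
  have hq : Function.Surjective q := Ideal.Quotient.mk_surjective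
  by_cases ht0 : t = 0
  · have hinj : Function.Injective q' := fun a b hab => by
      have h1 : a - b ∈ Ideal.span {t} := Ideal.Quotient.eq.1 hab
      rw [ht0, Ideal.span_singleton_eq_bot.2 rfl, Ideal.mem_bot] at h1
      exact sub_eq_zero.1 h1
    let e := AlgEquiv.ofBijective q' ⟨hinj, hq⟩
    exact ⟨e.symm.toAlgHom.comp φ, AlgHom.ext fun r => e.apply_symm_apply (φ r)⟩
  have htle : Ideal.span {t} ≤ maximalIdeal B := (Ideal.span_singleton_le_iff_mem _).2 ht
  have hker : ∀ r, r ∈ maximalIdeal R ↔ ∀ b, q b = φ r → b ∈ maximalIdeal B := by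
    let ψ : R →+* ResidueField B :=
      (Ideal.Quotient.factor htle).comp φ.toRingHom
    have hψs : Function.Surjective ψ := fun z => by
      obtain ⟨b, rfl⟩ := IsLocalRing.residue_surjective z
      obtain ⟨c, hc⟩ := hB b
      refine ⟨algebraMap Λ R (algebraMap k Λ c), ?_⟩
      change Ideal.Quotient.factor htle (φ (algebraMap Λ R (algebraMap k Λ c))) = _
      rw [AlgHom.commutes, show algebraMap Λ (B ⧸ Ideal.span {t}) (algebraMap k Λ c) =
        q (algebraMap Λ B (algebraMap k Λ c)) from rfl, Ideal.Quotient.factor_mk]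
      exact (Ideal.Quotient.eq.2 hc).symm
    have hmax : RingHom.ker ψ = maximalIdeal R := eq_maximalIdeal (RingHom.ker_isMaximal_of_surjective ψ hψs)
    intro r
    rw [← hmax, RingHom.mem_ker]
    constructor
    · intro hr b hb
      change Ideal.Quotient.factor htle (φ r) = 0 at hr
      rw [← hb, Ideal.Quotient.factor_mk, Ideal.Quotient.eq_zero_iff_mem] at hr
      exact hr
    · intro hr
      obtain ⟨b, hb⟩ := hq (φ r)
      change Ideal.Quotient.factor htle (φ r) = 0
      rw [← hb, Ideal.Quotient.factor_mk, Ideal.Quotient.eq_zero_iff_mem]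
      exact hr b hb
  let f : R → B := fun r => Function.surjInv hq (φ r) * t
  have hf : ∀ r b, q b = φ r → f r = b * t := fun r b hb => by
    rw [← sub_eq_zero, ← sub_mul]
    refine htm _ (htle ((Ideal.Quotient.eq (I := Ideal.span {t})).1 ?_))
    exact (Function.surjInv_eq hq _).trans hb.symm
  have hfadd : ∀ r r', f (r + r') = f r + f r' := fun r r' => by
    obtain ⟨a, ha⟩ := hq (φ r)
    obtain ⟨a', ha'⟩ := hq (φ r')
    rw [hf r a ha, hf r' a' ha', hf (r + r') (a + a') (by rw [map_add, map_add, ha, ha']), add_mul]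
  have hf0 : ∀ r ∈ maximalIdeal R, f r = 0 := fun r hr => by
    obtain ⟨a, ha⟩ := hq (φ r)
    rw [hf r a ha]
    exact htm _ ((hker r).1 hr a ha)
  have hfinj : ∀ r, f r = 0 → r ∈ maximalIdeal R := fun r hr => by
    refine (hker r).2 fun b hb => ?_
    by_contra hbm
    rw [hf r b hb] at hr
    exact ht0 ((IsUnit.mul_right_eq_zero (by simpa [mem_maximalIdeal, mem_nonunits_iff] using hbm)).1 hr)
  let F : R →+ B := { toFun := f, map_zero' := hf0 0 (zero_mem _), map_add' := hfadd }
  let ι₀ : ResidueField R →+ B := QuotientAddGroup.lift (maximalIdeal R).toAddSubgroup F fun r hr => hf0 r hr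
  have hι : ∀ r, ι₀ (residue R r) = f r := fun r => rfl
  let ev : (B × R) → Prop := fun p => q p.1 = φ p.2
  let E : Subalgebra Λ (B × R) :=
    AlgHom.equalizer (q'.comp (AlgHom.fst Λ B R)) (φ.comp (AlgHom.snd Λ B R))
  have hmem : ∀ p : B × R, p ∈ E ↔ q p.1 = φ p.2 := fun p => Iff.rfl
  have hqt : ∀ b : B, q (b * t) = 0 := fun b =>
    Ideal.Quotient.eq_zero_iff_mem.2 (Ideal.mul_mem_left _ _ (Ideal.mem_span_singleton_self t))
  have hmem0 : ∀ z, (ι₀ z, (0 : R)) ∈ E := fun z => by
    obtain ⟨r, rfl⟩ := IsLocalRing.residue_surjective z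
    rw [hmem, hι, map_zero φ]
    exact hqt _
  let incl : ResidueField R →+ E :=
    { toFun := fun z => ⟨(ι₀ z, 0), hmem0 z⟩
      map_zero' := Subtype.ext (Prod.ext (map_zero ι₀) rfl)
      map_add' := fun z z' => Subtype.ext (Prod.ext (map_add ι₀ z z') (add_zero 0).symm) }
  let X : Exal.Ext Λ R (ResidueField R) :=
    { E := E
      proj := (AlgHom.snd Λ B R).comp E.val
      incl := incl
      isExtension :=
        { proj_surjective := fun r => by
            obtain ⟨b, hb⟩ := hq (φ r)
            exact ⟨⟨(b, r), (hmem _).2 hb⟩, rfl⟩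
          incl_injective := (injective_iff_map_eq_zero incl).2 fun z hz => by
            obtain ⟨r, rfl⟩ := IsLocalRing.residue_surjective z
            have h1 : ι₀ (residue R r) = 0 := congrArg (fun p : E => p.1.1) hz
            exact Ideal.Quotient.eq_zero_iff_mem.2 (hfinj r ((hι r).symm.trans h1))
          exact := fun x => by
            obtain ⟨⟨b, r⟩, hx⟩ := x
            constructor
            · intro hr
              change r = 0 at hr
              subst hr
              have hb : b ∈ Ideal.span {t} := Ideal.Quotient.eq_zero_iff_mem.1 (hx.trans (map_zero φ))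
              obtain ⟨c, rfl⟩ := Ideal.mem_span_singleton'.1 hb
              obtain ⟨d, hd⟩ := hB c
              refine ⟨residue R (algebraMap Λ R (algebraMap k Λ d)), Subtype.ext (Prod.ext ?_ rfl)⟩
              change f (algebraMap Λ R (algebraMap k Λ d)) = c * t
              rw [hf _ (algebraMap Λ B (algebraMap k Λ d)) (AlgHom.commutes φ _).symm, ← sub_eq_zero, ← sub_mul]
              exact htm _ (by rw [← neg_sub]; exact neg_mem hd)
            · rintro ⟨z, hz⟩
              exact (congrArg (fun p : E => p.1.2) hz).symm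
          mul_incl := fun x z => by
            obtain ⟨⟨b, r⟩, hx⟩ := x
            obtain ⟨r', rfl⟩ := IsLocalRing.residue_surjective z
            refine Subtype.ext (Prod.ext ?_ (mul_zero r))
            change b * f r' = f (r * r')
            obtain ⟨a, ha⟩ := hq (φ r')
            rw [hf r' a ha, hf (r * r') (b * a) (by rw [map_mul, map_mul, ha, ← show q b = φ r from hx]), mul_assoc] } }
  obtain ⟨s, hs⟩ := h X
  refine ⟨((AlgHom.fst Λ B R).comp E.val).comp s, AlgHom.ext fun r => ?_⟩
  exact ((s r).2).trans (congrArg φ (hs r))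

/-- If maps lift along small extensions, all extensions by the residue field are trivial. -/
theorem isTrivial_of_forall_lift [IsNoetherianRing R]
    (hR : ∀ r : R, ∃ c : k, r - algebraMap Λ R (algebraMap k Λ c) ∈ maximalIdeal R)
    (h : ∀ (B : Type u) [CommRing B] [Algebra Λ B] [IsLocalRing B] [IsArtinianRing B],
      (∀ b : B, ∃ c : k, b - algebraMap Λ B (algebraMap k Λ c) ∈ maximalIdeal B) →
      ∀ t : B, t ∈ maximalIdeal B → (∀ b ∈ maximalIdeal B, b * t = 0) →
      ∀ φ : R →ₐ[Λ] B ⧸ Ideal.span {t},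
        ∃ φ' : R →ₐ[Λ] B, (Ideal.Quotient.mkₐ Λ (Ideal.span {t})).comp φ' = φ)
    (X : Exal.Ext Λ R (ResidueField R)) : X.IsTrivial := by
  haveI : IsSimpleModule R (ResidueField R) :=
    isSimpleModule_iff_quot_maximal.2 ⟨maximalIdeal R, inferInstance, ⟨LinearEquiv.refl R _⟩⟩
  haveI := isLocalRing_ext X
  haveI := isNoetherianRing_ext X
  obtain ⟨c, hc⟩ := exists_pow_meets_trivially X
  let I := maximalIdeal X.E ^ (c + 1)
  have hIle : I ≤ maximalIdeal X.E := Ideal.pow_le_self (Nat.succ_ne_zero c)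
  let q := Ideal.Quotient.mk I
  haveI : Nontrivial (X.E ⧸ I) :=
    Ideal.Quotient.nontrivial_iff.2 fun htop => (maximalIdeal.isMaximal X.E).ne_top (top_le_iff.1 (htop ▸ hIle))
  haveI : IsLocalRing (X.E ⧸ I) := IsLocalRing.of_surjective' q Ideal.Quotient.mk_surjective
  have hmax : ∀ x, q x ∈ maximalIdeal (X.E ⧸ I) ↔ x ∈ maximalIdeal X.E := fun x => by
    rw [← Ideal.mem_comap, eq_maximalIdeal (Ideal.comap_isMaximal_of_surjective q Ideal.Quotient.mk_surjective)]
  haveI : IsArtinianRing (X.E ⧸ I) := by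
    rw [isArtinianRing_iff_isNilpotent_maximalIdeal]
    refine ⟨c + 1, ?_⟩
    rw [show maximalIdeal (X.E ⧸ I) = (maximalIdeal X.E).map q from ?_, ← Ideal.map_pow, Ideal.map_quotient_self]
    · rfl
    refine le_antisymm (fun y hy => ?_) (Ideal.map_le_iff_le_comap.2 fun x hx => (hmax x).2 hx)
    obtain ⟨x, rfl⟩ := Ideal.Quotient.mk_surjective y
    exact Ideal.mem_map_of_mem q ((hmax x).1 hy)
  let t : X.E ⧸ I := q (X.incl 1)
  let q' : (X.E ⧸ I) →+* (X.E ⧸ I) ⧸ Ideal.span {t} := Ideal.Quotient.mk _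
  have hspan : ∀ z, q (X.incl z) ∈ Ideal.span {t} := fun z => by
    obtain ⟨r, rfl⟩ := IsLocalRing.residue_surjective z
    obtain ⟨x, rfl⟩ := X.isExtension.proj_surjective r
    refine Ideal.mem_span_singleton'.2 ⟨q x, ?_⟩
    rw [← map_mul, mul_incl', Algebra.smul_def, mul_one]
    rfl
  have hker : ∀ x, X.proj x = 0 → q' (q x) = 0 := fun x hx => by
    obtain ⟨z, rfl⟩ := (X.isExtension.exact x).1 hx
    exact Ideal.Quotient.eq_zero_iff_mem.2 (hspan z)
  let g := Function.surjInv X.isExtension.proj_surjective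
  have hg : ∀ r, X.proj (g r) = r := Function.surjInv_eq _
  have hφ : ∀ x, q' (q (g (X.proj x))) = q' (q x) := fun x => by
    rw [← sub_eq_zero, ← map_sub, ← map_sub]
    exact hker _ (by rw [map_sub, hg, sub_self])
  let φ : R →ₐ[Λ] (X.E ⧸ I) ⧸ Ideal.span {t} :=
    { toFun := fun r => q' (q (g r))
      map_one' := by
        have h := hφ 1
        simp only [map_one] at h
        exact h
      map_mul' := fun r r' => by
        obtain ⟨x, rfl⟩ := X.isExtension.proj_surjective r
        obtain ⟨y, rfl⟩ := X.isExtension.proj_surjective r'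
        rw [← map_mul, hφ, hφ, hφ, map_mul, map_mul]
      map_zero' := by
        have h := hφ 0
        simp only [map_zero] at h
        exact h
      map_add' := fun r r' => by
        obtain ⟨x, rfl⟩ := X.isExtension.proj_surjective r
        obtain ⟨y, rfl⟩ := X.isExtension.proj_surjective r'
        rw [← map_add, hφ, hφ, hφ, map_add, map_add]
      commutes' := fun a => by
        change q' (q (g (algebraMap Λ R a))) = _
        rw [← X.proj.commutes a, hφ]
        rfl }
  obtain ⟨φ', hφ'⟩ := h (X.E ⧸ I) (fun b => by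
      obtain ⟨x, rfl⟩ := Ideal.Quotient.mk_surjective b
      obtain ⟨d, hd⟩ := hR (X.proj x)
      refine ⟨d, (hmax (x - algebraMap Λ X.E (algebraMap k Λ d))).2 ?_⟩
      rwa [mem_maximalIdeal_ext, map_sub, AlgHom.commutes]) t
    ((hmax _).2 ((mem_maximalIdeal_ext X).2 (by rw [proj_incl]; exact zero_mem _))) (fun b hb => by
      obtain ⟨x, rfl⟩ := Ideal.Quotient.mk_surjective b
      change q x * q (X.incl 1) = 0
      rw [← map_mul, mul_incl', smul_eq_zero_of_mem ((mem_maximalIdeal_ext X).1 ((hmax x).1 hb)), map_zero, map_zero])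
    φ
  have hex : ∀ r, ∃ x, q x = φ' r ∧ X.proj x = r := fun r => by
    obtain ⟨y, hy⟩ := Ideal.Quotient.mk_surjective (φ' r)
    have h1 : q' (q y) = q' (q (g r)) := by
      rw [show q y = φ' r from hy]
      exact DFunLike.congr_fun hφ' r
    rw [Ideal.Quotient.eq, Ideal.mem_span_singleton'] at h1
    obtain ⟨b, hb⟩ := h1
    obtain ⟨w, rfl⟩ := Ideal.Quotient.mk_surjective b
    refine ⟨g r + w * X.incl 1, ?_, ?_⟩
    · rw [map_add, map_mul]
      change q (g r) + q w * t = φ' r
      rw [hb, add_sub_cancel, ← hy]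
    · rw [map_add, map_mul, proj_incl, mul_zero, add_zero, hg]
  choose s hs1 hs2 using hex
  have huniq : ∀ r x, q x = φ' r → X.proj x = r → s r = x := fun r x h1 h2 =>
    sub_eq_zero.1 (hc _ (Ideal.Quotient.eq.1 ((hs1 r).trans h1.symm)) (by rw [map_sub, hs2, h2, sub_self]))
  exact ⟨
    { toFun := s
      map_one' := huniq _ _ (by rw [map_one, map_one]) (map_one _)
      map_mul' := fun a b => huniq _ _ (by rw [map_mul, map_mul, hs1, hs1]) (by rw [map_mul, hs2, hs2])
      map_zero' := huniq _ _ (by rw [map_zero, map_zero]) (map_zero _)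
      map_add' := fun a b => huniq _ _ (by rw [map_add, map_add, hs1, hs1]) (by rw [map_add, hs2, hs2])
      commutes' := fun a => huniq _ _ (φ'.commutes a).symm (X.proj.commutes a) }, hs2⟩

end GrothLib.CotT
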