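import Groth.Agent.Lib.CotT.ExalPull
import Mathlib.RingTheory.SimpleModule.Basic
import Mathlib.RingTheory.Filtration

/-!
# Extensions of local rings by simple modules
-/

universe u

noncomputable section

namespace GrothLib.CotT

open _root_.CotT IsLocalRing

variable {Λ R L : Type u} [CommRing Λ] [CommRing R] [Algebra Λ R] [AddCommGroup L] [Module R L]

section Quot

variable {R' : Type u} [CommRing R'] [Algebra Λ R'] [Algebra R R'] [IsScalarTower Λ R R'] [Module R' L]
  [IsScalarTower R R' L]

/-- An ideal meeting the kernel trivially exhibits an extension as a pullback. -/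
theorem exists_equiv_pullback (hsurj : Function.Surjective (algebraMap R R')) (X : Exal.Ext Λ R L) (I : Ideal X.E)
    (hI : ∀ x ∈ I, X.proj x = 0 → x = 0) (hmap : I.map X.proj = RingHom.ker (algebraMap R R')) :
    ∃ Y : Exal.Ext Λ R' L, Nonempty ((Y.pullback R).Equiv X) := by
  have hle : ∀ x ∈ I, algebraMap R R' (X.proj x) = 0 := fun x hx => hmap.le (Ideal.mem_map_of_mem _ hx)
  have hlift : ∀ r, algebraMap R R' r = 0 → ∃ x ∈ I, X.proj x = r := fun r hr =>
    (Ideal.mem_map_iff_of_surjective _ X.isExtension.proj_surjective).1 (hmap.ge hr)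
  let proj : (X.E ⧸ I) →ₐ[Λ] R' :=
    Ideal.Quotient.liftₐ I ((IsScalarTower.toAlgHom Λ R R').comp X.proj) hle
  let q := Ideal.Quotient.mk I
  let Y : Exal.Ext Λ R' L :=
    { E := X.E ⧸ I
      proj := proj
      incl := q.toAddMonoidHom.comp X.incl
      isExtension :=
        { proj_surjective := fun r' => by
            obtain ⟨r, rfl⟩ := hsurj r'
            obtain ⟨x, rfl⟩ := X.isExtension.proj_surjective r
            exact ⟨q x, rfl⟩
          incl_injective := fun m n h => X.isExtension.incl_injective <| sub_eq_zero.1 <|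
            hI _ (Ideal.Quotient.eq.1 h) (by rw [map_sub, proj_incl, proj_incl, sub_self])
          exact := fun y => by
            obtain ⟨x, rfl⟩ := Ideal.Quotient.mk_surjective y
            constructor
            · intro hx
              obtain ⟨i, hi, hix⟩ := hlift _ hx
              obtain ⟨m, hm⟩ := (X.isExtension.exact (x - i)).1 (by rw [map_sub, hix]; exact sub_self _)
              exact ⟨m, Ideal.Quotient.eq.2 (by rw [hm, sub_sub_cancel_left]; exact I.neg_mem hi)⟩
            · rintro ⟨m, hm⟩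
              change proj (Ideal.Quotient.mk I x) = 0
              rw [← hm]
              change algebraMap R R' (X.proj (X.incl m)) = 0
              rw [proj_incl, map_zero]
          mul_incl := fun y m => by
            obtain ⟨x, rfl⟩ := Ideal.Quotient.mk_surjective y
            refine ((map_mul q _ _).symm.trans (congrArg q ?_))
            rw [mul_incl']
            exact congrArg X.incl (IsScalarTower.algebraMap_smul R' (X.proj x) m).symm } }
  let f : X.E →ₐ[Λ] Y.fiberProd R :=
    ((Ideal.Quotient.mkₐ Λ I).prod X.proj).codRestrict (Y.fiberProd R) fun x => rfl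
  have hf : Function.Bijective f := by
    constructor
    · intro x x' h
      have h1 : q x = q x' := congrArg (fun e : Y.fiberProd R => e.1.1) h
      have h2 : X.proj x = X.proj x' := congrArg (fun e : Y.fiberProd R => e.1.2) h
      exact sub_eq_zero.1 (hI _ (Ideal.Quotient.eq.1 h1) (by rw [map_sub, h2, sub_self]))
    · rintro ⟨⟨y, r⟩, hy⟩
      have hy' : proj y = algebraMap R R' r := hy
      obtain ⟨x, rfl⟩ := Ideal.Quotient.mk_surjective y
      have h0 : algebraMap R R' (X.proj x - r) = 0 := by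
        rw [map_sub, show algebraMap R R' (X.proj x) = proj (Ideal.Quotient.mk I x) from rfl, hy', sub_self]
      obtain ⟨i, hi, hix⟩ := hlift _ h0
      refine ⟨x - i, Subtype.ext (Prod.ext (Ideal.Quotient.eq.2 ?_) ?_)⟩
      · rw [sub_sub_cancel_left]; exact I.neg_mem hi
      · change X.proj (x - i) = r
        rw [map_sub, hix, sub_sub_cancel]
  let e : X.Equiv (Y.pullback R) :=
    { toAlgEquiv := AlgEquiv.ofBijective f hf
      proj_apply := fun x => rfl
      apply_incl := fun m => Subtype.ext (Prod.ext rfl (proj_incl X m)) }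
  exact ⟨Y, ⟨e.symm⟩⟩

/-- The ideal of a pullback extension. -/
theorem exists_ideal_of_pullback (hsurj : Function.Surjective (algebraMap R R')) (X : Exal.Ext Λ R L)
    (Y : Exal.Ext Λ R' L) (e : (Y.pullback R).Equiv X) :
    ∃ I : Ideal X.E, (∀ x ∈ I, X.proj x = 0 → x = 0) ∧ I.map X.proj = RingHom.ker (algebraMap R R') := by
  let p : X.E →+* Y.E :=
    (RingHom.fst Y.E R).comp ((Y.fiberProd R).val.toRingHom.comp e.toAlgEquiv.symm.toRingEquiv.toRingHom)
  have hp : ∀ z : (Y.pullback R).E, p (e.toAlgEquiv z) = (z : Y.fiberProd R).1.1 := fun z => by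
    change (Subtype.val (e.toAlgEquiv.symm (e.toAlgEquiv z) : Y.fiberProd R)).1 = _
    rw [AlgEquiv.symm_apply_apply]
  refine ⟨RingHom.ker p, fun x hx h0 => ?_, le_antisymm (Ideal.map_le_iff_le_comap.2 fun x hx => ?_) fun r hr => ?_⟩
  · obtain ⟨z, rfl⟩ := e.toAlgEquiv.surjective x
    rw [e.proj_apply] at h0
    rw [RingHom.mem_ker, hp] at hx
    rw [show z = 0 from Subtype.ext (Prod.ext hx h0), map_zero]
  · obtain ⟨z, rfl⟩ := e.toAlgEquiv.surjective x
    rw [RingHom.mem_ker, hp] at hx
    change algebraMap R R' (X.proj (e.toAlgEquiv z)) = 0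
    rw [e.proj_apply]
    have hz : Y.proj (z : Y.fiberProd R).1.1 = algebraMap R R' (z : Y.fiberProd R).1.2 := (z : Y.fiberProd R).2
    rw [hx, map_zero] at hz
    exact hz.symm
  · let z : (Y.pullback R).E := ⟨(0, r), (map_zero Y.proj).trans hr.symm⟩
    have hz : e.toAlgEquiv z ∈ RingHom.ker p := by
      rw [RingHom.mem_ker, hp]
    have := Ideal.mem_map_of_mem X.proj hz
    rwa [e.proj_apply] at this

end Quot

section Local

variable [IsLocalRing R] [IsSimpleModule R L]

lemma smul_eq_zero_of_mem {r : R} (hr : r ∈ maximalIdeal R) (z : L) : r • z = 0 :=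
  Module.mem_annihilator.1 ((eq_maximalIdeal (IsSimpleModule.annihilator_isMaximal (R := R) (M := L))).ge hr) z

lemma isTorsionBySet_pow (n : ℕ) : Module.IsTorsionBySet R L (maximalIdeal R ^ (n + 1) : Ideal R) := fun z r =>
  smul_eq_zero_of_mem (Ideal.pow_le_self (Nat.succ_ne_zero n) r.2) z

variable (X : Exal.Ext Λ R L)

lemma isUnit_iff_proj (x : X.E) : IsUnit x ↔ IsUnit (X.proj x) := by
  refine ⟨fun h => h.map X.proj, fun h => ?_⟩
  obtain ⟨w, hw⟩ := h.exists_right_inv
  obtain ⟨y, rfl⟩ := X.isExtension.proj_surjective w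
  have h0 : X.proj (1 - x * y) = 0 := by rw [map_sub, map_one, map_mul, hw, sub_self]
  refine IsUnit.of_mul_eq_one (y * (1 + (1 - x * y))) ?_
  have := mul_eq_zero_of_proj X h0 h0
  linear_combination -this

lemma isLocalRing_ext : IsLocalRing X.E :=
  haveI : Nontrivial X.E := X.proj.toRingHom.domain_nontrivial
  .of_isUnit_or_isUnit_one_sub_self fun x => by
    rw [isUnit_iff_proj, isUnit_iff_proj, map_sub, map_one]
    exact IsLocalRing.isUnit_or_isUnit_one_sub_self _

lemma isNoetherianRing_ext [IsNoetherianRing R] : IsNoetherianRing X.E := by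
  letI : Module X.E L := Module.compHom L X.proj.toRingHom
  letI : Module X.E R := Module.compHom R X.proj.toRingHom
  let i : L →ₗ[X.E] X.E :=
    { toFun := X.incl
      map_add' := map_add X.incl
      map_smul' := fun x z => (X.isExtension.mul_incl x z).symm }
  let p : X.E →ₗ[X.E] R :=
    { toFun := X.proj
      map_add' := map_add X.proj
      map_smul' := fun x y => map_mul X.proj x y }
  have key : ∀ (N : Type u) [AddCommGroup N] [Module R N] [Module X.E N],
      (∀ (x : X.E) (z : N), x • z = X.proj x • z) → IsNoetherian R N → IsNoetherian X.E N := by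
    intro N _ _ _ hs hN
    rw [isNoetherian_iff'] at hN ⊢
    let f : Submodule X.E N → Submodule R N := fun S =>
      { carrier := S
        zero_mem' := S.zero_mem
        add_mem' := S.add_mem
        smul_mem' := fun r z hz => by
          obtain ⟨x, rfl⟩ := X.isExtension.proj_surjective r
          rw [← hs]
          exact S.smul_mem x hz }
    have hf : StrictMono f := fun S T h => ⟨fun z hz => h.le hz, fun hc => h.not_ge fun z hz => hc hz⟩
    exact hf.wellFoundedGT
  haveI : IsNoetherian X.E R := key R (fun _ _ => rfl) inferInstance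
  haveI : IsNoetherian X.E L := key L (fun _ _ => rfl) inferInstance
  exact isNoetherian_of_range_eq_ker i p (SetLike.ext fun x => ((X.isExtension.exact x).trans Iff.rfl).symm)

lemma mem_maximalIdeal_ext [IsLocalRing X.E] {x : X.E} : x ∈ maximalIdeal X.E ↔ X.proj x ∈ maximalIdeal R := by
  rw [mem_maximalIdeal, mem_maximalIdeal, mem_nonunits_iff, mem_nonunits_iff, isUnit_iff_proj]

lemma map_pow_maximalIdeal [IsLocalRing X.E] (n : ℕ) :
    (maximalIdeal X.E ^ n).map X.proj = maximalIdeal R ^ n := by
  have h : (maximalIdeal X.E).map X.proj = maximalIdeal R := by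
    refine le_antisymm (Ideal.map_le_iff_le_comap.2 fun x hx => (mem_maximalIdeal_ext X).1 hx) fun r hr => ?_
    obtain ⟨x, rfl⟩ := X.isExtension.proj_surjective r
    exact Ideal.mem_map_of_mem _ ((mem_maximalIdeal_ext X).2 hr)
  rw [Ideal.map_pow, h]

lemma pow_maximalIdeal_inf_anti [IsLocalRing X.E] (n m : ℕ) (h : n ≤ m)
    (hn : ∀ x ∈ maximalIdeal X.E ^ n, X.proj x = 0 → x = 0) :
    ∀ x ∈ maximalIdeal X.E ^ m, X.proj x = 0 → x = 0 := fun x hx => hn x (Ideal.pow_le_pow_right h hx)

/-- Some power of the maximal ideal meets the kernel trivially. -/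
theorem exists_pow_meets_trivially [IsNoetherianRing R] [IsLocalRing X.E] :
    ∃ n : ℕ, ∀ x ∈ maximalIdeal X.E ^ (n + 1), X.proj x = 0 → x = 0 := by
  by_contra hcon
  push_neg at hcon
  haveI := isNoetherianRing_ext X
  haveI : Nontrivial L := IsSimpleModule.nontrivial R L
  obtain ⟨z, hz⟩ := exists_ne (0 : L)
  refine hz (X.isExtension.incl_injective ?_)
  rw [map_zero, ← Ideal.mem_bot,
    ← Ideal.iInf_pow_eq_bot_of_isLocalRing (maximalIdeal X.E) (maximalIdeal.isMaximal X.E).ne_top, Ideal.mem_iInf]
  intro n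
  obtain ⟨x, hx, h0, hne⟩ := hcon n
  obtain ⟨w, rfl⟩ := (X.isExtension.exact x).1 h0
  let N : Submodule R L :=
    { carrier := {a | X.incl a ∈ maximalIdeal X.E ^ (n + 1)}
      zero_mem' := by simp
      add_mem' := fun ha hb => by
        rw [Set.mem_setOf_eq, map_add]
        exact add_mem ha hb
      smul_mem' := fun r a ha => by
        obtain ⟨y, rfl⟩ := X.isExtension.proj_surjective r
        rw [Set.mem_setOf_eq, ← mul_incl']
        exact Ideal.mul_mem_left _ _ ha }
  have hN : N = ⊤ := (eq_bot_or_eq_top N).resolve_left fun hb => hne (by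
    rw [(Submodule.eq_bot_iff N).1 hb w hx, map_zero])
  exact Ideal.pow_le_pow_right (Nat.le_succ n) (show X.incl z ∈ maximalIdeal X.E ^ (n + 1) from hN.ge Submodule.mem_top)

end Local

section Finite

universe w t

variable {A B : Type u} [CommRing A] [CommRing B] [Algebra A B] {ι : Type w} {σ : Type t}
  (P : Algebra.Presentation A B ι σ) (M : Type u) [AddCommGroup M] [Module B M]

theorem finite_T1 [Finite σ] [IsNoetherianRing B] [Module.Finite B M] : Module.Finite B (T1 P M) := by
  haveI : Module.Finite B (L1 P) := Module.Finite.of_basis (L1basis P)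
  infer_instance

theorem finite_T2 [Finite σ] [IsNoetherianRing P.toExtension.Ring] [IsNoetherianRing B] [Module.Finite B M] :
    Module.Finite B (T2 P M) := by
  haveI : Module.Finite P.toExtension.Ring (relKer P) := .of_fg (IsNoetherian.noetherian _)
  infer_instance

end Finite

section Uniform

variable [IsLocalRing R] [IsNoetherianRing R] [IsNoetherianRing Λ] [IsSimpleModule R L]

/-- `T¹(R/Λ, L)` is a finite module. -/
theorem finite_T1_simple (hΛR : Function.Surjective ((IsLocalRing.residue R).comp (algebraMap Λ R))) :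
    Module.Finite R (T1 (canon Λ R) L) := by
  letI : Module (ResidueField R) L :=
    Module.IsTorsionBySet.module (I := maximalIdeal R) (fun z r => smul_eq_zero_of_mem r.2 z)
  haveI : IsScalarTower R (ResidueField R) L :=
    Module.IsTorsionBySet.isScalarTower (fun z r => smul_eq_zero_of_mem (R := R) (L := L) r.2 z)
  have hk : Function.Surjective (algebraMap R (ResidueField R)) := IsLocalRing.residue_surjective
  haveI : Module.Finite R L := inferInstance
  haveI : Module.Finite (ResidueField R) L := Module.Finite.of_restrictScalars_finite R _ _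
  haveI : Module.Finite R (ResidueField R) := Module.Finite.of_surjective (Algebra.linearMap R _) hk
  obtain ⟨f, hf⟩ := GrothLib.RegLoc.exists_generators_fin (RingHom.ker (algebraMap Λ (ResidueField R)))
  obtain ⟨g, hg⟩ := GrothLib.RegLoc.exists_generators_fin (RingHom.ker (algebraMap R (ResidueField R)))
  have hΛk : Function.Surjective (algebraMap Λ (ResidueField R)) := hΛR
  let Pf := quotPres hΛk f hf
  let Pg := quotPres hk g hg
  haveI : IsNoetherianRing Pg.toExtension.Ring :=
    (inferInstance : IsNoetherianRing (MvPolynomial PEmpty.{u + 1} R))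
  haveI h1 : Module.Finite (ResidueField R) (T1 (canon Λ (ResidueField R)) L) :=
    haveI := finite_T1 Pf L
    Module.Finite.equiv (nonempty_linearEquiv Pf (canon Λ (ResidueField R)) L).2.1.some
  haveI h2 : Module.Finite (ResidueField R) (T2 (canon R (ResidueField R)) L) :=
    haveI := finite_T2 Pg L
    Module.Finite.equiv (nonempty_linearEquiv Pg (canon R (ResidueField R)) L).2.2.some
  haveI : Module.Finite R (T1 (canon Λ (ResidueField R)) L) := Module.Finite.trans (ResidueField R) _
  haveI : Module.Finite R (T2 (canon R (ResidueField R)) L) := Module.Finite.trans (ResidueField R) _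
  let Q := canon R (ResidueField R)
  let P := canon Λ R
  let i : T1 (Q.comp P) L →ₗ[R] T1 P L := (toCompHom Q P).T1pull L
  obtain ⟨δ, hex, -⟩ := exists_delta1 Q P L
  haveI : Module.Finite R (T1 (Q.comp P) L) :=
    haveI : Module.Finite (ResidueField R) (T1 (Q.comp P) L) :=
      Module.Finite.equiv (nonempty_linearEquiv (canon Λ (ResidueField R)) (Q.comp P) L).2.1.some
    Module.Finite.trans (ResidueField R) _
  haveI : IsNoetherian R (T1 P L) := isNoetherian_of_range_eq_ker i δ
    (LinearMap.exact_iff.1 hex).symm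
  infer_instance

/-- A module killed by the maximal ideal over `R ⧸ m ^ (n+1)`. -/
abbrev quotModule (n : ℕ) : Module (R ⧸ maximalIdeal R ^ (n + 1)) L :=
  Module.IsTorsionBySet.module (isTorsionBySet_pow (R := R) (L := L) n)

/-- All extensions by `L` come from one `R ⧸ m ^ (n+1)`. -/
theorem exists_uniform_level (hΛR : Function.Surjective ((IsLocalRing.residue R).comp (algebraMap Λ R))) :
    ∃ n : ℕ, ∀ X : Exal.Ext Λ R L, ∃ I : Ideal X.E, (∀ x ∈ I, X.proj x = 0 → x = 0) ∧
      I.map X.proj = maximalIdeal R ^ (n + 1) := by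
  haveI := finite_T1_simple (Λ := Λ) (R := R) (L := L) hΛR
  letI := fun n => quotModule (R := R) (L := L) n
  haveI : ∀ n, IsScalarTower R (R ⧸ maximalIdeal R ^ (n + 1)) L := fun n =>
    Module.IsTorsionBySet.isScalarTower (isTorsionBySet_pow (R := R) (L := L) n)
  let V : ℕ → Submodule R (T1 (canon Λ R) L) := fun c =>
    LinearMap.range ((canonHom Λ R Λ (R ⧸ maximalIdeal R ^ (c + 1))).T1pull L)
  have hker : ∀ c, RingHom.ker (algebraMap R (R ⧸ maximalIdeal R ^ (c + 1))) = maximalIdeal R ^ (c + 1) :=
    fun c => Ideal.mk_ker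
  have hmono : Monotone V := fun c d h => by
    rintro _ ⟨z, rfl⟩
    have hle : maximalIdeal R ^ (d + 1) ≤ maximalIdeal R ^ (c + 1) := Ideal.pow_le_pow_right (Nat.add_le_add_right h 1)
    letI : Algebra (R ⧸ maximalIdeal R ^ (d + 1)) (R ⧸ maximalIdeal R ^ (c + 1)) :=
      (Ideal.Quotient.factor hle).toAlgebra
    haveI : IsScalarTower R (R ⧸ maximalIdeal R ^ (d + 1)) (R ⧸ maximalIdeal R ^ (c + 1)) :=
      IsScalarTower.of_algebraMap_eq fun r => rfl
    haveI : IsScalarTower Λ (R ⧸ maximalIdeal R ^ (d + 1)) (R ⧸ maximalIdeal R ^ (c + 1)) :=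
      IsScalarTower.of_algebraMap_eq fun r => rfl
    haveI : IsScalarTower (R ⧸ maximalIdeal R ^ (d + 1)) (R ⧸ maximalIdeal R ^ (c + 1)) L := ⟨fun x y w => by
      obtain ⟨x, rfl⟩ := Ideal.Quotient.mk_surjective x
      obtain ⟨y, rfl⟩ := Ideal.Quotient.mk_surjective y
      exact mul_smul x y w⟩
    refine ⟨(canonHom Λ (R ⧸ maximalIdeal R ^ (d + 1)) Λ (R ⧸ maximalIdeal R ^ (c + 1))).T1pull L z, ?_⟩
    rw [← T1pull_compSq (canonHom Λ R Λ (R ⧸ maximalIdeal R ^ (d + 1)))
      (canonHom Λ (R ⧸ maximalIdeal R ^ (d + 1)) Λ (R ⧸ maximalIdeal R ^ (c + 1))),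
      T1pull_eq (compSq (canonHom Λ R Λ (R ⧸ maximalIdeal R ^ (d + 1)))
        (canonHom Λ (R ⧸ maximalIdeal R ^ (d + 1)) Λ (R ⧸ maximalIdeal R ^ (c + 1))))
        (canonHom Λ R Λ (R ⧸ maximalIdeal R ^ (c + 1)))]
  obtain ⟨n, hn⟩ := monotone_stabilizes_iff_noetherian.2
    (inferInstance : IsNoetherian R (T1 (canon Λ R) L)) ⟨V, hmono⟩
  refine ⟨n, fun X => ?_⟩
  haveI := isLocalRing_ext X
  obtain ⟨c, hc⟩ := exists_pow_meets_trivially X
  obtain ⟨Y, ⟨e⟩⟩ := exists_equiv_pullback (R' := R ⧸ maximalIdeal R ^ (c + 1)) Ideal.Quotient.mk_surjective X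
    (maximalIdeal X.E ^ (c + 1)) hc ((map_pow_maximalIdeal X (c + 1)).trans (hker c).symm)
  have hX : extToT1 (canon Λ R) X ∈ V c := by
    rw [← extToT1_congr (canon Λ R) e, extToT1_pullback (canonHom Λ R Λ (R ⧸ maximalIdeal R ^ (c + 1)))]
    exact LinearMap.mem_range_self _ _
  have hX' : extToT1 (canon Λ R) X ∈ V n := by
    have h2 : V n = V (max c n) := hn _ (le_max_right c n)
    rw [h2]
    exact hmono (le_max_left c n) hX
  obtain ⟨w, hw⟩ := hX'
  obtain ⟨⟨Y'⟩, rfl⟩ := exalToT1_surjective (canon Λ (R ⧸ maximalIdeal R ^ (n + 1))) w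
  have h3 : extToT1 (canon Λ R) (Y'.pullback R) = extToT1 (canon Λ R) X := by
    rw [extToT1_pullback (canonHom Λ R Λ (R ⧸ maximalIdeal R ^ (n + 1)))]
    exact hw
  obtain ⟨e'⟩ := Quotient.exact (exalToT1_injective (canon Λ R) (show exalToT1 (canon Λ R) (Y'.pullback R).cl = exalToT1 (canon Λ R) X.cl from h3))
  obtain ⟨I, hI, hImap⟩ := exists_ideal_of_pullback (R' := R ⧸ maximalIdeal R ^ (n + 1)) Ideal.Quotient.mk_surjective X Y' e'
  exact ⟨I, hI, hImap.trans (hker n)⟩

end Uniform

end GrothLib.CotT
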