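import Groth.Agent.Lib.CotT.Smooth
import Groth.Agent.Lib.CotT.NineTerm

/-!
# Cotangent modules of localizations
-/

universe u w t m

noncomputable section

namespace GrothLib.CotT

open _root_.CotT

section Trivial

variable {A B : Type u} [CommRing A] [CommRing B] [Algebra A B] {ι : Type w} {σ : Type t}
  (P : Algebra.Presentation A B ι σ)

/-- Relations are trivial when each relation is regular modulo any finite set of the others. -/
theorem relations_trivial_of_forall_regular
    (hreg : ∀ (T : Finset σ) (i : σ), i ∉ T → ∀ a : P.toExtension.Ring,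
      a * rel P i ∈ Ideal.span (rel P '' T) → a ∈ Ideal.span (rel P '' T))
    (q : relMod P) (hq : jmap P q = 0) : q ∈ trivRel P := by
  classical
  suffices key : ∀ (T : Finset σ) (q : relMod P), (∀ i ∉ T, q i = 0) → jmap P q = 0 → q ∈ trivRel P from
    key q.support q (fun i hi => Finsupp.notMem_support_iff.1 hi) hq
  intro T
  induction T using Finset.induction_on with
  | empty =>
    intro q h _
    rw [show q = 0 from Finsupp.ext fun i => h i (Finset.notMem_empty i)]
    exact zero_mem _
  | insert s T hsT ih =>
    intro q h hq
    have hmem : q s * rel P s ∈ Ideal.span (rel P '' (T : Set σ)) := by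
      have e : jmap P (Finsupp.erase s q) = - (q s * rel P s) := by
        rw [eq_neg_iff_add_eq_zero, ← jmap_single, ← map_add, Finsupp.erase_add_single, hq]
      rw [← Ideal.neg_mem_iff, ← e, Ideal.span, Finsupp.mem_span_image_iff_linearCombination]
      refine ⟨Finsupp.erase s q, (Finsupp.mem_supported' _ _).2 fun i hi => ?_, rfl⟩
      by_cases his : i = s
      · rw [his, Finsupp.erase_same]
      · rw [Finsupp.erase_ne his]
        exact h i fun hins => (Finset.mem_insert.1 hins).elim his hi
    have := hreg T s hsT _ hmem
    rw [Ideal.span, Finsupp.mem_span_image_iff_linearCombination] at this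
    obtain ⟨g, hg, hgq⟩ := this
    have hg' : jmap P g = q s := hgq
    have hgz : ∀ i ∉ T, g i = 0 := fun i hi => (Finsupp.mem_supported' _ _).1 hg i hi
    have hy : jmap P g • Finsupp.single s 1 - jmap P (Finsupp.single s 1) • g ∈ trivRel P :=
      Submodule.subset_span ⟨g, Finsupp.single s 1, rfl⟩
    have := ih (q - (jmap P g • Finsupp.single s 1 - jmap P (Finsupp.single s 1) • g)) (fun i hi => ?_) ?_
    · simpa using add_mem this hy
    · by_cases his : i = s
      · rw [his]
        simp [hg', hgz s hsT]
      · simp [h i (fun hins => (Finset.mem_insert.1 hins).elim his hi), hgz i hi, Ne.symm his]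
    · rw [map_sub, hq, show jmap P _ = 0 from trivRel_le_relKer P hy, sub_zero]

end Trivial

section Localization

open MvPolynomial

variable {R : Type u} [CommRing R] (p : Submonoid R) (S : Type u) [CommRing S] [Algebra R S] [IsLocalization p S]

/-- The relations `s X_s - 1`. -/
def locRel (s : p) : MvPolynomial p R := C (s : R) * X s - 1

/-- Each `s X_s - 1` is regular modulo relations in the other variables. -/
lemma locRel_regular (T : Finset p) (i : p) (hi : i ∉ T) (a : MvPolynomial p R)
    (ha : a * locRel p i ∈ Ideal.span (locRel p '' T)) : a ∈ Ideal.span (locRel p '' T) := by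
  classical
  let J := Ideal.span (locRel p '' (T : Set p))
  let q := Ideal.Quotient.mk J
  let φ : MvPolynomial p R →+* Polynomial (MvPolynomial p R ⧸ J) :=
    eval₂Hom (Polynomial.C.comp (q.comp C)) (fun l => if l = i then Polynomial.X else Polynomial.C (q (X l)))
  have hJ : J ≤ RingHom.ker φ := by
    rw [Ideal.span_le]
    rintro _ ⟨j, hj, rfl⟩
    have hji : j ≠ i := fun e => hi (e ▸ hj)
    have h0 : q (locRel p j) = 0 := Ideal.Quotient.eq_zero_iff_mem.2 (Ideal.subset_span ⟨j, hj, rfl⟩)
    change φ (locRel p j) = 0
    rw [locRel, map_sub, map_mul, map_one] at h0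
    have e1 : φ (C (j : R)) = Polynomial.C (q (C (j : R))) := eval₂_C _ _ _
    have e2 : φ (X j) = Polynomial.C (q (X j)) := (eval₂_X _ _ _).trans (if_neg hji)
    rw [locRel, map_sub, map_mul, map_one, e1, e2]
    rw [← map_mul, ← map_one (Polynomial.C (R := MvPolynomial p R ⧸ J)), ← map_sub, h0, map_zero]
  have hev : (Polynomial.evalRingHom (q (X i))).comp φ = q := by
    refine ringHom_ext (fun r => by simp [φ]) fun l => ?_
    by_cases h : l = i <;> simp [φ, h]
  have h0 : φ a * φ (locRel p i) = 0 := by rw [← map_mul]; exact hJ ha
  have hreg : φ (locRel p i) = Polynomial.C (q (C (i : R))) * Polynomial.X - 1 := by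
    have e1 : φ (C (i : R)) = Polynomial.C (q (C (i : R))) := eval₂_C _ _ _
    have e2 : φ (X i) = Polynomial.X := (eval₂_X _ _ _).trans (if_pos rfl)
    rw [locRel, map_sub, map_mul, map_one, e1, e2]
  rw [hreg] at h0
  have hnull : ∀ n, (φ a).coeff n = 0 := by
    intro n
    induction n with
    | zero =>
      have := congrArg (fun f => Polynomial.coeff f 0) h0
      simpa [mul_sub, ← mul_assoc] using this
    | succ n ih =>
      have := congrArg (fun f => Polynomial.coeff f (n + 1)) h0
      simpa [mul_sub, ← mul_assoc, ih] using this
  rw [← Ideal.Quotient.eq_zero_iff_mem, ← RingHom.congr_fun hev a, RingHom.comp_apply,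
    show φ a = 0 from Polynomial.ext hnull, map_zero]

/-- The values `1 / s`. -/
def locVal (s : p) : S := IsLocalization.mk' S 1 s

lemma aeval_locRel (s : p) : aeval (locVal p S) (locRel p s) = 0 := by
  rw [locRel, map_sub, map_mul, map_one, aeval_C, aeval_X, locVal, IsLocalization.mk'_spec'_mk, map_one, sub_self]

lemma aeval_locVal_surjective : Function.Surjective (aeval (R := R) (locVal p S)) := fun z => by
  obtain ⟨r, s, rfl⟩ := IsLocalization.exists_mk'_eq p z
  exact ⟨C r * X s, by rw [map_mul, aeval_C, aeval_X, locVal, ← IsLocalization.mk'_eq_mul_mk'_one]⟩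

lemma span_locRel_eq_ker :
    Ideal.span (Set.range (locRel p)) = RingHom.ker (aeval (R := R) (locVal p S)).toRingHom := by
  refine le_antisymm (Ideal.span_le.2 ?_) fun a ha => ?_
  · rintro _ ⟨s, rfl⟩
    exact aeval_locRel p S s
  · let J := Ideal.span (Set.range (locRel p))
    let q := Ideal.Quotient.mk J
    have hinv : ∀ s : p, q (C (s : R)) * q (X s) = 1 := fun s => by
      rw [← map_mul, ← map_one q, Ideal.Quotient.eq]
      exact Ideal.subset_span ⟨s, rfl⟩
    have hu : ∀ s : p, IsUnit (q.comp C s) := fun s => IsUnit.of_mul_eq_one _ (hinv s)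
    have hcomp : (IsLocalization.lift (S := S) hu).comp (aeval (R := R) (locVal p S)).toRingHom = q := by
      refine ringHom_ext (fun r => ?_) fun s => ?_
      · simp
      · change IsLocalization.lift hu (aeval (locVal p S) (X s)) = q (X s)
        rw [aeval_X, locVal, IsLocalization.lift_mk'_spec, map_one]
        exact (hinv s).symm
    rw [← Ideal.Quotient.eq_zero_iff_mem]
    change q a = 0
    rw [← RingHom.congr_fun hcomp a, RingHom.comp_apply, show (aeval (R := R) (locVal p S)).toRingHom a = 0 from ha,
      map_zero]

/-- The presentation of a localization by the inverses of all denominators. -/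
def locPres : Algebra.Presentation R S p p where
  __ := Algebra.Generators.ofSurjective (locVal p S) (aeval_locVal_surjective p S)
  relation := locRel p
  span_range_relation_eq_ker := by
    rw [Algebra.Generators.ker_eq_ker_aeval_val]
    exact span_locRel_eq_ker p S

include p in
/-- `T²` of a localization vanishes. -/
theorem subsingleton_T2_of_isLocalization (M : Type m) [AddCommGroup M] [Module S M] :
    Subsingleton (T2 (canon R S) M) :=
  (subsingleton_T2_iff (canon R S) (locPres p S) M).2
    (subsingleton_T2_of_relations_trivial (locPres p S)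
      (fun q hq => relations_trivial_of_forall_regular (locPres p S) (fun T i hi a ha => locRel_regular p T i hi a ha) q hq) M)

end Localization

section Tower

variable {A B C : Type u} [CommRing A] [CommRing B] [CommRing C] [Algebra A B] [Algebra B C] [Algebra A C]
  [IsScalarTower A B C] (M : Type m) [AddCommGroup M] [Module C M] [Module B M] [IsScalarTower B C M]

/-- Vanishing of `T²` passes up a tower. -/
theorem subsingleton_T2_comp (h₁ : Subsingleton (T2 (canon A B) M)) (h₂ : Subsingleton (T2 (canon B C) M)) :
    Subsingleton (T2 (canon A C) M) := by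
  obtain ⟨-, -, -, hex, -⟩ := nineTerm (A := A) (B := B) (C := C) M
  refine subsingleton_of_forall_eq 0 fun z => ?_
  obtain ⟨x, rfl⟩ := (hex z).1 (Subsingleton.elim _ _)
  rw [Subsingleton.elim x 0, map_zero]

end Tower

section Field

variable (k B : Type u) [Field k] [CommRing B] [Algebra k B] [Algebra.FiniteType k B]

theorem subsingleton_T2_localization_atPrime (q : Ideal B) [q.IsPrime] [Algebra.IsSmoothAt k q]
    (M : Type u) [AddCommGroup M] [Module (Localization.AtPrime q) M] :
    Subsingleton (T2 (canon k (Localization.AtPrime q)) M) := by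
  haveI : Algebra.FinitePresentation k B := Algebra.FinitePresentation.of_finiteType.1 inferInstance
  obtain ⟨f, hf, hsm⟩ := Algebra.IsSmoothAt.exists_notMem_smooth k q
  have hle : Submonoid.powers f ≤ q.primeCompl := Submonoid.powers_le.2 hf
  let Bf := Localization.Away f
  letI : Algebra Bf (Localization.AtPrime q) :=
    IsLocalization.localizationAlgebraOfSubmonoidLe Bf (Localization.AtPrime q) (Submonoid.powers f) q.primeCompl hle
  haveI : IsScalarTower B Bf (Localization.AtPrime q) :=
    IsLocalization.localization_isScalarTower_of_submonoid_le Bf (Localization.AtPrime q) (Submonoid.powers f) q.primeCompl hle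
  haveI : IsScalarTower k Bf (Localization.AtPrime q) := IsScalarTower.of_algebraMap_eq fun x => by
    rw [IsScalarTower.algebraMap_apply k B Bf, ← IsScalarTower.algebraMap_apply B Bf (Localization.AtPrime q),
      ← IsScalarTower.algebraMap_apply]
  haveI := IsLocalization.isLocalization_of_submonoid_le Bf (Localization.AtPrime q) (Submonoid.powers f) q.primeCompl hle
  haveI : Algebra.FormallySmooth k Bf := hsm.1
  haveI : Algebra.FiniteType k Bf := haveI := hsm.2; inferInstance
  letI : Module Bf M := Module.compHom M (algebraMap Bf (Localization.AtPrime q))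
  haveI : IsScalarTower Bf (Localization.AtPrime q) M := ⟨fun x y z => by
    rw [Algebra.smul_def, mul_smul]
    rfl⟩
  exact subsingleton_T2_comp M (subsingleton_T2_of_regular k Bf M)
    (subsingleton_T2_of_isLocalization (q.primeCompl.map (algebraMap B Bf)) (Localization.AtPrime q) M)

end Field

end GrothLib.CotT
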