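import Groth.Agent.Lib.CotT.LocalExt
import Groth.Agent.Lib.AdicFS.PowerSeries

/-!
# Extensions of quotients of power series rings
-/

universe u

noncomputable section

namespace GrothLib.CotT

open _root_.CotT IsLocalRing

attribute [local instance] Exal.opModule Exal.isCentralScalar_opModule

section General

variable {Λ P R L : Type u} [CommRing Λ] [CommRing P] [CommRing R] [Algebra Λ P] [Algebra Λ R]
  [AddCommGroup L] [Module R L] (π : P →ₐ[Λ] R)

/-- Extensions with lifts restricting to the same map on the kernel are equivalent. -/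
theorem nonempty_equiv_of_lifts (hπ : Function.Surjective π) (X X' : Exal.Ext Λ R L) (u : P →ₐ[Λ] X.E)
    (u' : P →ₐ[Λ] X'.E) (hu : ∀ p, X.proj (u p) = π p) (hu' : ∀ p, X'.proj (u' p) = π p)
    (h : ∀ p, π p = 0 → ∃ z : L, X.incl z = u p ∧ X'.incl z = u' p) : Nonempty (X.Equiv X') := by
  let C := canon Λ R
  let τ : C.toExtension.Ring →ₐ[Λ] P := MvPolynomial.aeval fun i => Function.surjInv hπ (C.val i)
  have hτ : ∀ f, π (τ f) = algebraMap C.toExtension.Ring R f := fun f => by
    rw [algebraMap_toExtension]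
    refine DFunLike.congr_fun (MvPolynomial.algHom_ext fun i => ?_ :
      π.comp τ = (MvPolynomial.aeval C.val : MvPolynomial R Λ →ₐ[Λ] R)) f
    change π (τ (MvPolynomial.X i)) = MvPolynomial.aeval C.val (MvPolynomial.X i : MvPolynomial R Λ)
    rw [MvPolynomial.aeval_X]
    exact (congrArg π (MvPolynomial.aeval_X _ i)).trans (Function.surjInv_eq hπ _)
  let g : Lifts C X := ⟨u.comp τ, fun f => (hu _).trans (hτ f)⟩
  let g' : Lifts C X' := ⟨u'.comp τ, fun f => (hu' _).trans (hτ f)⟩
  refine nonempty_equiv_of_cocycle C g g' (LinearMap.ext fun c => ?_)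
  obtain ⟨i, rfl⟩ := Algebra.Extension.Cotangent.mk_surjective c
  obtain ⟨z, hz, hz'⟩ := h (τ i) ((hτ _).trans i.2)
  rw [show cocycle C g (Algebra.Extension.Cotangent.mk i) = z from
    X.isExtension.incl_injective ((incl_cocycle C g i).trans hz.symm),
    show cocycle C g' (Algebra.Extension.Cotangent.mk i) = z from
    X'.isExtension.incl_injective ((incl_cocycle C g' i).trans hz'.symm)]

variable [Module P L]

/-- Every map from the kernel to a simple module comes from an extension. -/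
theorem exists_ext_of_linearMap (hπ : Function.Surjective π) (hsmul : ∀ (p : P) (l : L), p • l = π p • l)
    [IsSimpleModule P L] (δ : RingHom.ker π →ₗ[P] L) :
    ∃ (X : Exal.Ext Λ R L) (u : P →ₐ[Λ] X.E),
      (∀ p, X.proj (u p) = π p) ∧ ∀ j : RingHom.ker π, X.incl (δ j) = u j := by
  by_cases hδ : δ = 0
  · let s : R →ₐ[Λ] (Exal.Ext.trivial Λ R L).E :=
      { toFun := fun b => (TrivSqZeroExt.inl b : TrivSqZeroExt R L)
        map_one' := TrivSqZeroExt.inl_one L
        map_mul' := TrivSqZeroExt.inl_mul L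
        map_zero' := TrivSqZeroExt.inl_zero L
        map_add' := TrivSqZeroExt.inl_add L
        commutes' := fun _ => rfl }
    refine ⟨Exal.Ext.trivial Λ R L, s.comp π, fun p => rfl, fun j => ?_⟩
    rw [hδ, LinearMap.zero_apply, map_zero, AlgHom.comp_apply, show π j = 0 from j.2, map_zero]
  let J : Ideal P := RingHom.ker π
  have hδs : Function.Surjective δ := by
    rw [← LinearMap.range_eq_top]
    exact (eq_bot_or_eq_top _).resolve_left fun hb => hδ (LinearMap.range_eq_bot.1 hb)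
  let K : Ideal P := Submodule.map J.subtype (LinearMap.ker δ)
  have hKJ : ∀ p ∈ K, π p = 0 := by
    rintro _ ⟨j, -, rfl⟩
    exact j.2
  have hK : ∀ j : J, (j : P) ∈ K ↔ δ j = 0 := fun j =>
    ⟨fun ⟨j', hj', e⟩ => by rwa [← show j' = j from Subtype.ext e], fun h => ⟨j, h, rfl⟩⟩
  let q := Ideal.Quotient.mk K
  let σ := Function.surjInv hδs
  have hσ : ∀ z, δ (σ z) = z := Function.surjInv_eq hδs
  have hq : ∀ (j j' : J), δ j = δ j' → q j = q j' := fun j j' h =>
    Ideal.Quotient.eq.2 ((hK (j - j')).2 (by rw [map_sub, h, sub_self]))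
  let incl : L →+ P ⧸ K :=
    { toFun := fun z => q (σ z)
      map_zero' := (hq _ 0 (by rw [hσ, map_zero])).trans (map_zero q)
      map_add' := fun z z' => (hq _ (σ z + σ z') (by rw [map_add, hσ, hσ, hσ])).trans (map_add q _ _) }
  refine ⟨{
      E := P ⧸ K
      proj := Ideal.Quotient.liftₐ K π hKJ
      incl := incl
      isExtension :=
        { proj_surjective := fun r => by
            obtain ⟨p, rfl⟩ := hπ r
            exact ⟨q p, rfl⟩
          incl_injective := (injective_iff_map_eq_zero incl).2 fun z hz => by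
            rw [← hσ z]
            exact (hK _).1 (Ideal.Quotient.eq_zero_iff_mem.1 hz)
          exact := fun x => by
            obtain ⟨p, rfl⟩ := Ideal.Quotient.mk_surjective x
            constructor
            · intro hp
              exact ⟨δ ⟨p, hp⟩, hq _ ⟨p, hp⟩ (hσ _)⟩
            · rintro ⟨z, hz⟩
              rw [← hz]
              exact (σ z).2
          mul_incl := fun x z => by
            obtain ⟨p, rfl⟩ := Ideal.Quotient.mk_surjective x
            refine (map_mul q p _).symm.trans (hq (p • σ z) _ ?_)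
            rw [map_smul, hσ, hσ, hsmul]
            rfl } },
    Ideal.Quotient.mkₐ Λ K, fun p => rfl, fun j => ?_⟩
  exact hq _ j (hσ _)

end General

section PowerSeries

variable {Λ : Type u} [CommRing Λ] [IsLocalRing Λ] [IsNoetherianRing Λ] {d : ℕ}
  {J : Ideal (MvPowerSeries (Fin d) Λ)} [Nontrivial (MvPowerSeries (Fin d) Λ ⧸ J)]
  {L : Type u} [AddCommGroup L] [Module (MvPowerSeries (Fin d) Λ ⧸ J) L]
  [IsSimpleModule (MvPowerSeries (Fin d) Λ ⧸ J) L]

lemma X_mem_maximalIdeal (i : Fin d) :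
    (MvPowerSeries.X i : MvPowerSeries (Fin d) Λ) ∈ maximalIdeal (MvPowerSeries (Fin d) Λ) := by
  rw [mem_maximalIdeal, mem_nonunits_iff]
  intro h
  have := h.map (MvPowerSeries.constantCoeff (σ := Fin d) (R := Λ))
  rw [MvPowerSeries.constantCoeff_X] at this
  exact not_isUnit_zero this

lemma mk_mem_maximalIdeal [IsLocalRing (MvPowerSeries (Fin d) Λ ⧸ J)] {p : MvPowerSeries (Fin d) Λ}
    (hp : p ∈ maximalIdeal (MvPowerSeries (Fin d) Λ)) :
    Ideal.Quotient.mk J p ∈ maximalIdeal (MvPowerSeries (Fin d) Λ ⧸ J) := by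
  exact (eq_maximalIdeal (Ideal.comap_isMaximal_of_surjective (Ideal.Quotient.mk J) Ideal.Quotient.mk_surjective
    (K := maximalIdeal _))).ge hp

/-- The quotient map lifts to every extension by a simple module. -/
theorem exists_lift_powerSeries (X : Exal.Ext Λ (MvPowerSeries (Fin d) Λ ⧸ J) L) :
    ∃ u : MvPowerSeries (Fin d) Λ →ₐ[Λ] X.E, ∀ p, X.proj (u p) = Ideal.Quotient.mk J p := by
  haveI : IsLocalRing (MvPowerSeries (Fin d) Λ ⧸ J) :=
    IsLocalRing.of_surjective' (Ideal.Quotient.mk J) Ideal.Quotient.mk_surjective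
  haveI := isLocalRing_ext X
  obtain ⟨c, hc⟩ := exists_pow_meets_trivially X
  let I := maximalIdeal X.E ^ (c + 1)
  let q := Ideal.Quotient.mkₐ Λ I
  let z : Fin d → X.E := fun i => Function.surjInv X.isExtension.proj_surjective (Ideal.Quotient.mk J (MvPowerSeries.X i))
  have hz : ∀ i, X.proj (z i) = Ideal.Quotient.mk J (MvPowerSeries.X i) := fun i => Function.surjInv_eq _ _
  have hzm : ∀ i, z i ∈ maximalIdeal X.E := fun i => (mem_maximalIdeal_ext X).2 (by
    rw [hz]; exact mk_mem_maximalIdeal (X_mem_maximalIdeal i))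
  have hΛm : ∀ a ∈ maximalIdeal Λ, algebraMap Λ X.E a ∈ maximalIdeal X.E := fun a ha =>
    (mem_maximalIdeal_ext X).2 (by
      rw [AlgHom.commutes]
      refine mk_mem_maximalIdeal (p := algebraMap Λ (MvPowerSeries (Fin d) Λ) a) ?_
      rw [mem_maximalIdeal, mem_nonunits_iff] at ha ⊢
      intro h
      have := h.map (MvPowerSeries.constantCoeff (σ := Fin d) (R := Λ))
      rw [MvPowerSeries.algebraMap_apply, MvPowerSeries.constantCoeff_C] at this
      exact ha (by simpa using this))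
  have hkill : (maximalIdeal Λ ^ (c + 1)).map (algebraMap Λ (X.E ⧸ I)) = ⊥ := by
    rw [eq_bot_iff, Ideal.map_le_iff_le_comap]
    intro a ha
    change algebraMap Λ (X.E ⧸ I) a = 0
    rw [IsScalarTower.algebraMap_apply Λ X.E (X.E ⧸ I)]
    refine Ideal.Quotient.eq_zero_iff_mem.2 ?_
    have hle : (maximalIdeal Λ).map (algebraMap Λ X.E) ≤ maximalIdeal X.E := Ideal.map_le_iff_le_comap.2 hΛm
    have h1 : algebraMap Λ X.E a ∈ ((maximalIdeal Λ).map (algebraMap Λ X.E)) ^ (c + 1) := by
      rw [← Ideal.map_pow]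
      exact Ideal.mem_map_of_mem _ ha
    exact Ideal.pow_right_mono hle _ h1
  obtain ⟨v, ⟨m, hvm⟩, hv⟩ := GrothLib.AdicFS.exists_eval (maximalIdeal Λ) ⟨c + 1, hkill⟩ (fun i => q (z i))
    (fun i => ⟨c + 1, by rw [← map_pow]; exact Ideal.Quotient.eq_zero_iff_mem.2 (Ideal.pow_mem_pow (hzm i) _)⟩)
  let mc := maximalIdeal (MvPowerSeries (Fin d) Λ ⧸ J) ^ (c + 1)
  let pr : (X.E ⧸ I) →ₐ[Λ] (MvPowerSeries (Fin d) Λ ⧸ J) ⧸ mc :=
    Ideal.Quotient.liftₐ I ((Ideal.Quotient.mkₐ Λ mc).comp X.proj) fun x hx =>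
      Ideal.Quotient.eq_zero_iff_mem.2 ((map_pow_maximalIdeal X (c + 1)).le (Ideal.mem_map_of_mem _ hx))
  have hprod : ∀ p ∈ GrothLib.AdicFS.prodIdeal (maximalIdeal Λ) d, p ∈ maximalIdeal (MvPowerSeries (Fin d) Λ) := by
    intro p hp
    rw [mem_maximalIdeal, mem_nonunits_iff]
    intro hu
    have h1 := hu.map (MvPowerSeries.constantCoeff (σ := Fin d) (R := Λ))
    have h2 : MvPowerSeries.constantCoeff p ∈ maximalIdeal Λ := by
      have h3 : GrothLib.AdicFS.prodIdeal (maximalIdeal Λ) d ≤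
          (maximalIdeal Λ).comap (MvPowerSeries.constantCoeff (σ := Fin d) (R := Λ)) :=
        sup_le (Ideal.map_le_iff_le_comap.2 fun a ha => by simpa using ha) fun f hf => by
          rw [Ideal.mem_comap, show MvPowerSeries.constantCoeff f = 0 from hf]
          exact zero_mem _
      exact h3 hp
    exact h2 h1
  have hcomp : pr.comp v = (Ideal.Quotient.mkₐ Λ mc).comp (Ideal.Quotient.mkₐ Λ J) := by
    refine GrothLib.AdicFS.algHom_ext_X (E := (MvPowerSeries (Fin d) Λ ⧸ J) ⧸ mc) (𝔞 := maximalIdeal Λ) ⟨m, fun x hx => ?_⟩ ⟨c + 1, fun x hx => ?_⟩ fun i => ?_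
    · rw [AlgHom.comp_apply, hvm x hx, map_zero]
    · refine Ideal.Quotient.eq_zero_iff_mem.2 ?_
      have hle : (maximalIdeal (MvPowerSeries (Fin d) Λ)).map (Ideal.Quotient.mk J) ≤
          maximalIdeal (MvPowerSeries (Fin d) Λ ⧸ J) := Ideal.map_le_iff_le_comap.2 fun y hy => mk_mem_maximalIdeal hy
      have h1 := Ideal.mem_map_of_mem (Ideal.Quotient.mk J) (Ideal.pow_right_mono hprod (c + 1) hx)
      rw [Ideal.map_pow] at h1
      exact Ideal.pow_right_mono hle _ h1
    · rw [AlgHom.comp_apply, hv]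
      exact congrArg (Ideal.Quotient.mk mc) (hz i)
  have hex : ∀ p, ∃ x, q x = v p ∧ X.proj x = Ideal.Quotient.mk J p := fun p => by
    obtain ⟨y, hy⟩ := Ideal.Quotient.mk_surjective (v p)
    have h1 : Ideal.Quotient.mk mc (X.proj y) = Ideal.Quotient.mk mc (Ideal.Quotient.mk J p) :=
      (congrArg pr hy).trans (DFunLike.congr_fun hcomp p)
    rw [Ideal.Quotient.eq] at h1
    obtain ⟨i, hi, hie⟩ := (Ideal.mem_map_iff_of_surjective _ X.isExtension.proj_surjective).1
      ((map_pow_maximalIdeal X (c + 1)).ge h1)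
    refine ⟨y - i, ?_, by rw [map_sub, hie, sub_sub_cancel]⟩
    rw [map_sub, show q i = 0 from Ideal.Quotient.eq_zero_iff_mem.2 hi, sub_zero]
    exact hy
  choose u hu1 hu2 using hex
  have huniq : ∀ p x, q x = v p → X.proj x = Ideal.Quotient.mk J p → u p = x := fun p x h1 h2 =>
    sub_eq_zero.1 (hc _ (Ideal.Quotient.eq.1 ((hu1 p).trans h1.symm)) (by rw [map_sub, hu2, h2, sub_self]))
  exact ⟨
    { toFun := u
      map_one' := huniq _ _ (by rw [map_one, map_one]) (by rw [map_one, map_one])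
      map_mul' := fun a b => huniq _ _ (by rw [map_mul, map_mul, hu1, hu1]) (by rw [map_mul, hu2, hu2, map_mul])
      map_zero' := huniq _ _ (by rw [map_zero, map_zero]) (by rw [map_zero, map_zero])
      map_add' := fun a b => huniq _ _ (by rw [map_add, map_add, hu1, hu1]) (by rw [map_add, hu2, hu2, map_add])
      commutes' := fun a => huniq _ _ ((q.commutes a).trans (v.commutes a).symm) (X.proj.commutes a) }, hu2⟩

/-- Lifts into equivalent extensions agree on `J` when `J` is inside the square of the variables. -/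
theorem lifts_agree_of_equiv (hJ : J ≤ Ideal.span (Set.range (MvPowerSeries.X : Fin d → MvPowerSeries (Fin d) Λ)) ^ 2)
    {X X' : Exal.Ext Λ (MvPowerSeries (Fin d) Λ ⧸ J) L} (e : X.Equiv X')
    (u : MvPowerSeries (Fin d) Λ →ₐ[Λ] X.E) (u' : MvPowerSeries (Fin d) Λ →ₐ[Λ] X'.E)
    (hu : ∀ p, X.proj (u p) = Ideal.Quotient.mk J p) (hu' : ∀ p, X'.proj (u' p) = Ideal.Quotient.mk J p)
    (j : MvPowerSeries (Fin d) Λ) (hj : j ∈ J) : ∃ z : L, X.incl z = u j ∧ X'.incl z = u' j := by
  haveI : IsLocalRing (MvPowerSeries (Fin d) Λ ⧸ J) :=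
    IsLocalRing.of_surjective' (Ideal.Quotient.mk J) Ideal.Quotient.mk_surjective
  obtain ⟨z, hz⟩ := (X.isExtension.exact (u j)).1 (by rw [hu, Ideal.Quotient.eq_zero_iff_mem.2 hj])
  refine ⟨z, hz, ?_⟩
  let w := e.toAlgEquiv.toAlgHom.comp u
  have hw : ∀ p, X'.proj (w p) = Ideal.Quotient.mk J p := fun p => (e.proj_apply _).trans (hu p)
  have hD : ∀ p, X'.proj (w p - u' p) = 0 := fun p => by rw [map_sub, hw, hu', sub_self]
  have hmul : ∀ a b, w (a * b) - u' (a * b) = w a * (w b - u' b) + u' b * (w a - u' a) := fun a b => by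
    rw [map_mul, map_mul]; ring
  have hkill : ∀ a ∈ Ideal.span (Set.range (MvPowerSeries.X : Fin d → MvPowerSeries (Fin d) Λ)),
      ∀ b, w a * (w b - u' b) = 0 ∧ u' a * (w b - u' b) = 0 := by
    intro a ha b
    have hm : Ideal.Quotient.mk J a ∈ maximalIdeal (MvPowerSeries (Fin d) Λ ⧸ J) :=
      mk_mem_maximalIdeal ((Ideal.span_le.2 (by rintro _ ⟨i, rfl⟩; exact X_mem_maximalIdeal i)) ha)
    obtain ⟨l, hl⟩ := (X'.isExtension.exact _).1 (hD b)
    constructor <;> rw [← hl, mul_incl'] <;> simp [hw, hu', smul_eq_zero_of_mem hm]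
  have h0 : w j - u' j = 0 := by
    have hj2 := hJ hj
    rw [pow_two] at hj2
    refine Submodule.mul_induction_on hj2 (fun a ha b hb => ?_) fun a b ha hb => ?_
    · rw [hmul, (hkill a ha b).1, (hkill b hb a).2, add_zero]
    · rw [map_add, map_add, add_sub_add_comm, ha, hb, add_zero]
  rw [← sub_eq_zero.1 h0]
  change _ = e.toAlgEquiv (u j)
  rw [← hz, e.apply_incl]

end PowerSeries

end GrothLib.CotT
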