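import Groth.Agent.Lib.CotT.Smooth
import Groth.Agent.Lib.T1Base26.Ext
import Mathlib

/-!
# The second cotangent module of a reduced algebra is `Ext¹` of the conormal module
-/

universe u

noncomputable section

namespace GrothLib.CotT

open TensorProduct IsLocalRing
open _root_.CotT

theorem isRegularLocalRing_localization_minimalPrime {B : Type u} [CommRing B] [IsNoetherianRing B] [IsReduced B]
    (𝔭 : Ideal B) [𝔭.IsPrime] (h : 𝔭 ∈ minimalPrimes B) : IsRegularLocalRing (Localization.AtPrime 𝔭) := by
  have hle : maximalIdeal (Localization.AtPrime 𝔭) ≤ nilradical (Localization.AtPrime 𝔭) := by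
    rw [nilradical, Ideal.radical_eq_sInf, le_sInf_iff]
    rintro q ⟨-, hq⟩
    have hd := (IsLocalization.isPrime_iff_isPrime_disjoint 𝔭.primeCompl (Localization.AtPrime 𝔭) q).1 hq
    have hle' : q.comap (algebraMap B _) ≤ 𝔭 := fun x hx => by
      by_contra hne
      exact Set.disjoint_left.1 hd.2 hne hx
    have h1 : 𝔭 ≤ q.comap (algebraMap B _) := h.2 ⟨hd.1, bot_le⟩ hle'
    rw [← Localization.AtPrime.map_eq_maximalIdeal, Ideal.map_le_iff_le_comap]
    exact h1
  have hbot : maximalIdeal (Localization.AtPrime 𝔭) = ⊥ := by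
    haveI : IsReduced (Localization.AtPrime 𝔭) := isReduced_localizationPreserves 𝔭.primeCompl _ inferInstance
    exact le_bot_iff.1 (hle.trans (nilradical_eq_bot_iff.2 inferInstance).le)
  apply IsRegularLocalRing.of_spanFinrank_maximalIdeal_le
  rw [hbot, Submodule.spanFinrank_bot]
  exact ringKrullDim_nonneg_of_nontrivial

variable {k B : Type u} [Field k] [CommRing B] [Algebra k B] {ι σ : Type u} [Finite ι] [Finite σ]
  (P : Algebra.Presentation k B ι σ)

/-- At a prime over a regular point the relations are trivial up to `I F`. -/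
theorem exists_smul_mem_trivRel' (m : Ideal P.toExtension.Ring) [m.IsPrime]
    (hI : P.toExtension.ker ≤ m)
    (hreg : ∀ (q : Ideal B) [q.IsPrime], q = m.map (algebraMap P.toExtension.Ring B) → IsRegularLocalRing (Localization.AtPrime q))
    (q : relKer P) (hq : (1 : B) ⊗ₜ (q : relMod P) = (0 : L1 P)) :
    ∃ s ∉ m, s • (q : relMod P) ∈ trivRel P := by
  classical
  obtain ⟨n, ⟨e⟩⟩ := Finite.exists_equiv_fin σ
  let P₂ : Algebra.Presentation k B ι (Fin n) :=
    { toGenerators := P.toGenerators
      relation := P.relation ∘ e.symm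
      span_range_relation_eq_ker := by
        rw [Set.range_comp, Equiv.range_eq_univ, Set.image_univ]
        exact P.span_range_relation_eq_ker }
  let Φ : relMod P →ₗ[P.toExtension.Ring] relMod P₂ := (Finsupp.domLCongr e).toLinearMap
  let Ψ : relMod P₂ →ₗ[P.toExtension.Ring] relMod P := (Finsupp.domLCongr e.symm).toLinearMap
  have hΦ : ∀ a, jmap P₂ (Φ a) = jmap P a := fun a => by
    induction a using Finsupp.induction_linear with
    | zero => simp
    | add x y hx hy => rw [map_add, map_add, hx, hy, map_add]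
    | single i r =>
      rw [show Φ (Finsupp.single i r) = Finsupp.single (e i) r from Finsupp.domLCongr_single _ _ _, jmap_single,
        jmap_single]
      show r * rel P (e.symm (e i)) = r * rel P i
      rw [e.symm_apply_apply]
  have hΨ : ∀ a, jmap P (Ψ a) = jmap P₂ a := fun a => by
    induction a using Finsupp.induction_linear with
    | zero => simp
    | add x y hx hy => rw [map_add, map_add, hx, hy, map_add]
    | single i r =>
      rw [show Ψ (Finsupp.single i r) = Finsupp.single (e.symm i) r from Finsupp.domLCongr_single _ _ _, jmap_single,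
        jmap_single]
      rfl
  have hΨΦ : ∀ a, Ψ (Φ a) = a := fun a => (Finsupp.domLCongr e).symm_apply_apply a
  obtain ⟨s, hs, hsq⟩ := exists_smul_mem_trivRel P₂ m hI hreg
    ⟨Φ q, by show jmap P₂ (Φ q) = 0; rw [hΦ]; exact q.2⟩
    (by
      show (1 : B) ⊗ₜ Φ (q : relMod P) = (0 : L1 P₂)
      have := congrArg (LinearMap.lTensor B Φ) hq
      rwa [LinearMap.lTensor_tmul, map_zero] at this)
  refine ⟨s, hs, ?_⟩
  have h1 : Ψ (s • Φ q) ∈ trivRel P := by
    refine Submodule.span_induction (p := fun y _ => Ψ y ∈ trivRel P) ?_ (by simp) (fun a b _ _ ha hb => by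
      rw [map_add]; exact add_mem ha hb) (fun r a _ ha => by
      rw [map_smul]; exact Submodule.smul_mem _ r ha) hsq
    rintro _ ⟨a, b, rfl⟩
    rw [map_sub, map_smul, map_smul, ← hΨ, ← hΨ]
    exact Submodule.subset_span ⟨_, _, rfl⟩
  rwa [map_smul, hΨΦ] at h1

/-- `T²` of a reduced algebra is `Ext¹` of the conormal module. -/
theorem nonempty_T2_equiv_ext [IsReduced B] :
    Nonempty (T2 P B ≃ₗ[B]
      CategoryTheory.Abelian.Ext.{u} (ModuleCat.of B P.toExtension.Cotangent) (ModuleCat.of B B) 1) := by
  haveI : IsNoetherianRing B := isNoetherianRing_of_surjective _ _ (algebraMap P.toExtension.Ring B)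
    (algebraMap_surjective P) (H := (inferInstance : IsNoetherianRing (MvPolynomial ι k)))
  haveI : Module.Projective B (L1 P) := Module.Projective.of_basis (L1basis P)
  let K := LinearMap.ker (toCot P)
  obtain ⟨e⟩ := GrothLib.T1Base26.nonempty_ext_one_equiv (N := B) (C := K) (F := L1 P)
    (Ω := P.toExtension.Cotangent) (d := (LinearMap.ker (toCot P)).subtype) (π := toCot P)
    K.injective_subtype (toCot_surjective P) (LinearMap.exact_subtype_ker_map (toCot P))
  let d : L2 P →ₗ[B] K := LinearMap.codRestrict K (d2 P) fun z => by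
    show toCot P (d2 P z) = 0
    exact LinearMap.congr_fun (toCot_comp_d2 P) z
  have hd : Function.Surjective d := fun y => by
    obtain ⟨z, hz⟩ := (ker_toCot P).le y.2
    exact ⟨z, Subtype.ext hz⟩
  have hkill : ∀ z, d z = 0 → ∀ φ : L2 P →ₗ[B] B, φ z = 0 := by
    intro z hz φ
    obtain ⟨q, rfl⟩ := exists_mk_one_tmul_eq P z
    have hq : (1 : B) ⊗ₜ (q : relMod P) = (0 : L1 P) := by
      have := congrArg Subtype.val hz
      rwa [ZeroMemClass.coe_zero, LinearMap.codRestrict_apply, d2_mk_tmul] at this
    suffices φ (Submodule.Quotient.mk ((1 : B) ⊗ₜ q)) ∈ nilradical B by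
      rwa [nilradical_eq_zero] at this
    rw [nilradical, ← Ideal.sInf_minimalPrimes, Submodule.mem_sInf]
    intro (𝔭 : Ideal B) h𝔭
    haveI := h𝔭.1.1
    obtain ⟨s, hs, hsq⟩ := exists_smul_mem_trivRel' P (Ideal.comap (algebraMap P.toExtension.Ring B) 𝔭)
      (fun x hx => by rw [Ideal.mem_comap, show algebraMap P.toExtension.Ring B x = 0 from hx]; exact zero_mem _)
      (fun Q _ hQ => by
        rw [Ideal.map_comap_of_surjective _ (algebraMap_surjective P)] at hQ
        subst hQ
        exact isRegularLocalRing_localization_minimalPrime Q h𝔭) q hq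
    have h0 : algebraMap P.toExtension.Ring B s • (Submodule.Quotient.mk ((1 : B) ⊗ₜ q) : L2 P) = 0 := by
      rw [← Submodule.Quotient.mk_smul, TensorProduct.smul_tmul', smul_eq_mul, mul_one]
      rw [show (algebraMap P.toExtension.Ring B s) ⊗ₜ[P.toExtension.Ring] q = (1 : B) ⊗ₜ (s • q) by
        rw [← TensorProduct.smul_tmul, Algebra.smul_def, mul_one]]
      exact mk_one_tmul_eq_zero P hsq
    have h1 := congrArg φ h0
    rw [map_smul, map_zero, smul_eq_mul] at h1
    exact (h𝔭.1.1.mem_or_mem (show algebraMap P.toExtension.Ring B s * _ ∈ 𝔭 by rw [h1]; exact zero_mem _)).resolve_left hs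
  let Φ : (K →ₗ[B] B) →ₗ[B] (L2 P →ₗ[B] B) := LinearMap.lcomp B B d
  have hΦ : Function.Bijective Φ := by
    refine ⟨fun a b h => LinearMap.ext fun y => ?_, fun φ => ?_⟩
    · obtain ⟨z, rfl⟩ := hd y
      exact LinearMap.congr_fun h z
    · have hwd : ∀ z z', d z = d z' → φ z = φ z' := fun z z' h => by
        have := hkill (z - z') (by rw [map_sub, h, sub_self]) φ
        rwa [map_sub, sub_eq_zero] at this
      refine ⟨{
        toFun := fun y => φ (Function.surjInv hd y)
        map_add' := fun a b => ?_
        map_smul' := fun r a => ?_ }, LinearMap.ext fun z => ?_⟩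
      · rw [← map_add]
        exact hwd _ _ (by rw [map_add, Function.surjInv_eq hd, Function.surjInv_eq hd, Function.surjInv_eq hd])
      · rw [RingHom.id_apply, ← map_smul]
        exact hwd _ _ (by rw [map_smul, Function.surjInv_eq hd, Function.surjInv_eq hd])
      · exact hwd _ _ (Function.surjInv_eq hd (d z))
  refine ⟨(Submodule.Quotient.equiv _ _ (LinearEquiv.ofBijective Φ hΦ) ?_).symm.trans e⟩
  rw [← LinearMap.range_comp]
  rfl

end GrothLib.CotT
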