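import Groth.Agent.Lib.CotT.Compare
import Mathlib.RingTheory.Regular.RegularSequence

/-!
# Relation modules
-/

universe u v w t u' v' w' t' m

noncomputable section

namespace GrothLib.CotT

open TensorProduct
open _root_.CotT

variable {A : Type u} {B : Type v} {ι : Type w} {σ : Type t}
variable [CommRing A] [CommRing B] [Algebra A B] (P : Algebra.Presentation A B ι σ)

lemma smul_relClass_eq_zero {r : P.toExtension.Ring} (hr : algebraMap P.toExtension.Ring B r = 0)
    (q : relKer P) : r • relClass P q = 0 := by
  obtain ⟨f, rfl⟩ := exists_jmap_eq P hr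
  rw [← jQuot_relClass, jQuot_smul_comm, jQuot_relClass, show jmap P (q : relMod P) = 0 from q.2, zero_smul]

/-- The trivial relations are exactly what dies in `L₂`. -/
theorem mk_one_tmul_eq_zero_iff (q : relKer P) :
    (Submodule.Quotient.mk ((1 : B) ⊗ₜ q) : L2 P) = 0 ↔ (q : relMod P) ∈ trivRel P := by
  refine ⟨fun h => ?_, mk_one_tmul_eq_zero P⟩
  obtain ⟨z, hz⟩ := (Submodule.Quotient.mk_eq_zero _).1 h
  let s := Function.surjInv (algebraMap_surjective P)
  have hs : ∀ b, algebraMap P.toExtension.Ring B (s b) = b := Function.surjInv_eq _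
  have hd : ∀ (r r' : P.toExtension.Ring) (q : relKer P),
      algebraMap P.toExtension.Ring B r = algebraMap P.toExtension.Ring B r' →
        r • relClass P q = r' • relClass P q :=
    fun r r' x e => by rw [← sub_eq_zero, ← sub_smul]; exact smul_relClass_eq_zero P (by rw [map_sub, e, sub_self]) x
  let φ : B →ₗ[P.toExtension.Ring] relKer P →ₗ[P.toExtension.Ring] RelQuot P :=
    { toFun := fun b => s b • ((relClass P).comp (relKer P).subtype)
      map_add' := fun b b' => LinearMap.ext fun q => by
        change s (b + b') • relClass P q = s b • relClass P q + s b' • relClass P q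
        rw [← add_smul]
        exact hd _ _ _ (by rw [map_add, hs, hs, hs])
      map_smul' := fun r b => LinearMap.ext fun q => by
        change s (r • b) • relClass P q = r • (s b • relClass P q)
        rw [smul_smul]
        exact hd _ _ _ (by rw [map_mul, hs, hs, Algebra.smul_def]) }
  have h0 : TensorProduct.lift φ ((trivRelKer P).subtype.baseChange B z) = 0 := by
    clear hz
    induction z using TensorProduct.induction_on with
    | zero => simp
    | add x y hx hy => rw [map_add, map_add, hx, hy, add_zero]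
    | tmul b k =>
      rw [LinearMap.baseChange_tmul, TensorProduct.lift.tmul]
      change s b • relClass P ((k : relKer P) : relMod P) = 0
      rw [(relClass_eq_zero P).2 (show ((k : relKer P) : relMod P) ∈ trivRel P from k.2), smul_zero]
  rw [hz, TensorProduct.lift.tmul] at h0
  change s 1 • relClass P q = 0 at h0
  rw [hd (s 1) 1 q (by rw [hs, map_one]), one_smul, relClass_eq_zero] at h0
  exact h0

/-- `L₂` vanishes iff every relation is trivial. -/
theorem subsingleton_L2_iff : Subsingleton (L2 P) ↔ ∀ q : relMod P, jmap P q = 0 → q ∈ trivRel P := by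
  refine ⟨fun h q hq => (mk_one_tmul_eq_zero_iff P ⟨q, hq⟩).1 (Subsingleton.elim _ _),
    fun h => subsingleton_of_forall_eq 0 fun z => ?_⟩
  obtain ⟨q, rfl⟩ := exists_mk_one_tmul_eq P z
  exact mk_one_tmul_eq_zero P (h q q.2)

theorem subsingleton_T2_of_relations_trivial (h : ∀ q : relMod P, jmap P q = 0 → q ∈ trivRel P)
    (M : Type m) [AddCommGroup M] [Module B M] : Subsingleton (T2 P M) := by
  haveI := (subsingleton_L2_iff P).2 h
  haveI : Subsingleton (L2 P →ₗ[B] M) := ⟨fun a b => LinearMap.ext fun z => by
    rw [Subsingleton.elim z 0, map_zero, map_zero]⟩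
  exact (Submodule.mkQ_surjective _).subsingleton

theorem subsingleton_T1_T2_of_isEmpty [IsEmpty σ] (M : Type m) [AddCommGroup M] [Module B M] :
    Subsingleton (T1 P M) ∧ Subsingleton (T2 P M) := by
  haveI : Subsingleton (L1 P →ₗ[B] M) := ⟨fun a b => (L1basis P).ext fun s => isEmptyElim s⟩
  exact ⟨(Submodule.mkQ_surjective _).subsingleton,
    subsingleton_T2_of_relations_trivial P (fun q _ => by
      rw [Subsingleton.elim q 0]; exact zero_mem _) M⟩

/-- Relations of a regular family are trivial. -/
theorem relations_trivial_of_regular {n : ℕ} (P : Algebra.Presentation A B ι (Fin n))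
    (hreg : ∀ (i : Fin n) (a : P.toExtension.Ring), a * rel P i ∈ Ideal.span (rel P '' {j | j < i}) →
      a ∈ Ideal.span (rel P '' {j | j < i})) (q : relMod P) (hq : jmap P q = 0) : q ∈ trivRel P := by
  suffices key : ∀ (k : ℕ) (q : relMod P), (∀ i : Fin n, k ≤ i.1 → q i = 0) → jmap P q = 0 → q ∈ trivRel P from
    key n q (fun i hi => absurd i.2 (not_lt.2 hi)) hq
  intro k
  induction k with
  | zero =>
    intro q h _
    rw [show q = 0 from Finsupp.ext fun i => h i (Nat.zero_le _)]
    exact zero_mem _
  | succ k ih =>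
    intro q h hq
    by_cases hk : k < n
    · let s : Fin n := ⟨k, hk⟩
      have hmem : q s * rel P s ∈ Ideal.span (rel P '' {j | j < s}) := by
        have e : jmap P (Finsupp.erase s q) = - (q s * rel P s) := by
          rw [eq_neg_iff_add_eq_zero, ← jmap_single, ← map_add, Finsupp.erase_add_single, hq]
        rw [← Ideal.neg_mem_iff, ← e, Ideal.span, Finsupp.mem_span_image_iff_linearCombination]
        refine ⟨Finsupp.erase s q, (Finsupp.mem_supported' _ _).2 fun i hi => ?_, rfl⟩
        by_cases his : i = s
        · rw [his, Finsupp.erase_same]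
        · rw [Finsupp.erase_ne his]
          exact h i (Nat.succ_le_of_lt (lt_of_le_of_ne (not_lt.1 hi) (fun e => his (Fin.ext e.symm))))
      have := hreg s _ hmem
      rw [Ideal.span, Finsupp.mem_span_image_iff_linearCombination] at this
      obtain ⟨g, hg, hgq⟩ := this
      have hg' : jmap P g = q s := hgq
      have hgz : ∀ i, s ≤ i → g i = 0 := fun i hi => (Finsupp.mem_supported' _ _).1 hg i (not_lt.2 hi)
      have hy : jmap P g • Finsupp.single s 1 - jmap P (Finsupp.single s 1) • g ∈ trivRel P :=
        Submodule.subset_span ⟨g, Finsupp.single s 1, rfl⟩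
      have := ih (q - (jmap P g • Finsupp.single s 1 - jmap P (Finsupp.single s 1) • g)) (fun i hi => ?_) ?_
      · simpa using add_mem this hy
      · rcases hi.eq_or_lt with hi' | hi'
        · rw [show i = s from Fin.ext hi'.symm]
          simp [hg', hgz s le_rfl]
        · simp [h i hi', hgz i (Fin.le_def.2 hi), Ne.symm (ne_of_lt (show s < i from Fin.lt_def.2 hi'))]
      · rw [map_sub, hq, show jmap P _ = 0 from trivRel_le_relKer P hy, sub_zero]
    · exact ih q (fun i hi => absurd i.2 (by omega)) hq

section Iso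

variable {A' : Type u'} {ι' : Type w'} {σ' : Type t'} [CommRing A'] [Algebra A' B] [Algebra A A']
  [IsScalarTower A A' B]
variable {P} {P' : Algebra.Presentation A' B ι' σ'}

/-- A morphism bijective on relations induces a bijection on `T²`. -/
theorem T2pull_bijective_of_bijective (h : PresHom P P') (hring : Function.Bijective h.ringHom)
    (hrel : Function.Bijective h.relModMap) (M : Type m) [AddCommGroup M] [Module B M] :
    Function.Bijective (h.T2pull M) := by
  have hsurj : Function.Surjective h.L2map := fun z => by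
    obtain ⟨q, rfl⟩ := exists_mk_one_tmul_eq P' z
    obtain ⟨f, hf⟩ := hrel.2 q
    have hf0 : jmap P f = 0 := hring.1 (by rw [← h.jmap_relModMap, hf, map_zero]; exact q.2)
    exact ⟨Submodule.Quotient.mk ((1 : B) ⊗ₜ ⟨f, hf0⟩), by
      rw [PresHom.L2map_mk_tmul, map_one]
      exact congrArg (fun q => Submodule.Quotient.mk ((1 : B) ⊗ₜ q)) (Subtype.ext hf)⟩
  have hle : ∀ y ∈ trivRel P', ∃ x ∈ trivRel P, h.relModMap x = y := fun y hy => by
    induction hy using Submodule.span_induction with
    | mem y hy =>
      obtain ⟨a, b, rfl⟩ := hy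
      obtain ⟨a, rfl⟩ := hrel.2 a
      obtain ⟨b, rfl⟩ := hrel.2 b
      refine ⟨jmap P a • b - jmap P b • a, Submodule.subset_span ⟨a, b, rfl⟩, ?_⟩
      rw [map_sub, LinearMap.map_smulₛₗ, LinearMap.map_smulₛₗ, h.jmap_relModMap, h.jmap_relModMap]
    | zero => exact ⟨0, zero_mem _, map_zero _⟩
    | add x y _ _ hx hy =>
      obtain ⟨a, ha, rfl⟩ := hx
      obtain ⟨b, hb, rfl⟩ := hy
      exact ⟨a + b, add_mem ha hb, map_add _ _ _⟩
    | smul r x _ hx =>
      obtain ⟨a, ha, rfl⟩ := hx
      obtain ⟨r, rfl⟩ := hring.2 r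
      exact ⟨r • a, Submodule.smul_mem _ r ha, LinearMap.map_smulₛₗ _ _ _⟩
  have hinj : Function.Injective h.L2map := by
    rw [injective_iff_map_eq_zero]
    intro z hz
    obtain ⟨q, rfl⟩ := exists_mk_one_tmul_eq P z
    rw [PresHom.L2map_mk_tmul, map_one, mk_one_tmul_eq_zero_iff] at hz
    obtain ⟨f, hf, he⟩ := hle _ hz
    rw [show f = (q : relMod P) from hrel.1 he] at hf
    exact mk_one_tmul_eq_zero P hf
  let e2 : L2 P ≃ₗ[B] L2 P' :=
    LinearEquiv.ofBijective
      ({ toFun := h.L2map, map_add' := map_add _, map_smul' := fun b z => h.L2map.map_smulₛₗ b z } :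
        L2 P →ₗ[B] L2 P') ⟨hinj, hsurj⟩
  have h1 : Function.Surjective (h.pull1 M) := fun φ => by
    choose g hg using hrel.2
    let ψ : L1 P' →ₗ[B] M := (L1basis P').constr B fun s => φ ((1 : B) ⊗ₜ g (Finsupp.single s 1))
    have key : ∀ (f : relMod P') (c : relMod P), h.relModMap c = f → ψ ((1 : B) ⊗ₜ f) = φ ((1 : B) ⊗ₜ c) := by
      intro f
      induction f using Finsupp.induction_linear with
      | zero =>
        intro c hc
        rw [show c = 0 from hrel.1 (hc.trans (map_zero _).symm), tmul_zero, tmul_zero, map_zero, map_zero]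
      | add x y hx hy =>
        intro c hc
        rw [show c = g x + g y from hrel.1 (by rw [hc, map_add, hg, hg]), tmul_add, tmul_add, map_add, map_add,
          hx _ (hg x), hy _ (hg y)]
      | single s r =>
        intro c hc
        obtain ⟨r, rfl⟩ := hring.2 r
        rw [show c = r • g (Finsupp.single s 1) from hrel.1 (by
              rw [hc, LinearMap.map_smulₛₗ, hg, Finsupp.smul_single, smul_eq_mul, mul_one]),
          show Finsupp.single s (h.ringHom r) = h.ringHom r • Finsupp.single s 1 by
              rw [Finsupp.smul_single, smul_eq_mul, mul_one],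
          tmul_smul_eq, tmul_smul_eq, ← L1basis_apply, map_smul, map_smul, Module.Basis.constr_basis,
          h.algebraMap_ringHom, Algebra.algebraMap_self, RingHom.id_apply]
    refine ⟨ψ, LinearMap.ext fun x => ?_⟩
    obtain ⟨f, rfl⟩ := exists_one_tmul_eq P x
    rw [PresHom.pull1_apply, PresHom.L1map_tmul, map_one]
    exact key _ f rfl
  constructor
  · rw [injective_iff_map_eq_zero]
    intro z hz
    obtain ⟨θ, rfl⟩ := Submodule.mkQ_surjective _ z
    obtain ⟨ψ, hψ⟩ := (Submodule.Quotient.mk_eq_zero _).1 hz
    obtain ⟨ψ', rfl⟩ := h1 ψ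
    rw [← PresHom.pull2_d2Star] at hψ
    refine (Submodule.Quotient.mk_eq_zero _).2 ⟨ψ', LinearMap.ext fun x => ?_⟩
    obtain ⟨y, rfl⟩ := hsurj x
    exact LinearMap.congr_fun hψ y
  · intro z
    obtain ⟨θ, rfl⟩ := Submodule.mkQ_surjective _ z
    exact ⟨Submodule.Quotient.mk (θ ∘ₗ e2.symm.toLinearMap),
      congrArg (LinearMap.range (d2Star P M)).mkQ (LinearMap.ext fun x => congrArg θ (e2.symm_apply_apply x))⟩

end Iso

end GrothLib.CotT
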