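import Groth.Agent.Lib.CotT.CI
import Groth.Agent.Lib.RegLoc.Basic
import Groth.Agent.Lib.LocProp.RegularSmooth
import Groth.Agent.Lib.Serre.Smooth
import Mathlib.RingTheory.Localization.Finiteness

/-!
# Cotangent modules of smooth algebras
-/

universe u w t m

noncomputable section

namespace GrothLib.CotT

open TensorProduct IsLocalRing
open _root_.CotT

section General

variable {A B : Type u} [CommRing A] [CommRing B] [Algebra A B] {ι : Type w} {σ : Type t}
  (P : Algebra.Presentation A B ι σ)

lemma exists_retraction_cotangentComplex [Algebra.FormallySmooth A B] :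
    ∃ l, l ∘ₗ P.toExtension.cotangentComplex = LinearMap.id := by
  haveI : Algebra.FormallySmooth A P.toExtension.Ring :=
    (inferInstance : Algebra.FormallySmooth A (MvPolynomial ι A))
  exact (P.toExtension.formallySmooth_iff_split_injection).1 inferInstance

theorem subsingleton_T1_of_formallySmooth [Algebra.FormallySmooth A B] (M : Type m) [AddCommGroup M]
    [Module B M] : Subsingleton (T1 P M) := by
  obtain ⟨l, hl⟩ := exists_retraction_cotangentComplex P
  refine subsingleton_of_forall_eq 0 fun z => ?_
  obtain ⟨φ, rfl⟩ := homToT1_surjective P M z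
  rw [← LinearMap.mem_ker, ker_homToT1]
  exact ⟨φ ∘ₗ l, by rw [LinearMap.lcomp_apply', LinearMap.comp_assoc, hl, LinearMap.comp_id]⟩

theorem projective_cotangent [Algebra.FormallySmooth A B] : Module.Projective B P.toExtension.Cotangent := by
  obtain ⟨l, hl⟩ := exists_retraction_cotangentComplex P
  haveI : Module.Projective B P.toExtension.CotangentSpace := Module.Projective.of_basis P.cotangentSpaceBasis
  exact Module.Projective.of_split _ l hl

/-- `T²` vanishes when `d₂` is injective and the algebra is formally smooth. -/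
theorem subsingleton_T2_of_injective [Algebra.FormallySmooth A B] (hd : Function.Injective (d2 P))
    (M : Type m) [AddCommGroup M] [Module B M] : Subsingleton (T2 P M) := by
  haveI := projective_cotangent P
  obtain ⟨s, hs⟩ := Module.projective_lifting_property (toCot P) LinearMap.id (toCot_surjective P)
  have hmem : ∀ x, (LinearMap.id - s ∘ₗ toCot P : L1 P →ₗ[B] L1 P) x ∈ LinearMap.range (d2 P) := fun x => by
    rw [← ker_toCot, LinearMap.mem_ker, LinearMap.sub_apply, map_sub]
    exact sub_eq_zero.2 (LinearMap.congr_fun hs (toCot P x)).symm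
  let e := LinearEquiv.ofInjective (d2 P) hd
  refine subsingleton_of_forall_eq 0 fun z => ?_
  obtain ⟨θ, rfl⟩ := Submodule.mkQ_surjective _ z
  refine (Submodule.Quotient.mk_eq_zero _).2
    ⟨θ ∘ₗ e.symm.toLinearMap ∘ₗ (LinearMap.id - s ∘ₗ toCot P).codRestrict _ hmem, LinearMap.ext fun y => ?_⟩
  change θ (e.symm ⟨_, hmem (d2 P y)⟩) = θ y
  have h0 : toCot P (d2 P y) = 0 := LinearMap.congr_fun (toCot_comp_d2 P) y
  refine congrArg θ (e.injective ?_)
  rw [e.apply_symm_apply]
  refine Subtype.ext ?_
  change (LinearMap.id - s ∘ₗ toCot P : L1 P →ₗ[B] L1 P) (d2 P y) = d2 P y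
  rw [LinearMap.sub_apply, LinearMap.comp_apply, h0, map_zero, sub_zero, LinearMap.id_apply]

end General

section Canon

variable (A B : Type u) [CommRing A] [CommRing B] [Algebra A B]

theorem formallySmooth_of_subsingleton_T1
    (h : ∀ (M : Type u) [AddCommGroup M] [Module B M], Subsingleton (T1 (canon A B) M)) :
    Algebra.FormallySmooth A B := by
  haveI : Algebra.FormallySmooth A (canon A B).toExtension.Ring :=
    (inferInstance : Algebra.FormallySmooth A (MvPolynomial B A))
  refine ((canon A B).toExtension.formallySmooth_iff_split_injection).2 ?_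
  have h0 : homToT1 (canon A B) (canon A B).toExtension.Cotangent LinearMap.id = 0 :=
    (h _).elim _ _
  rw [← LinearMap.mem_ker, ker_homToT1] at h0
  obtain ⟨l, hl⟩ := h0
  exact ⟨l, hl⟩

theorem formallySmooth_iff_subsingleton_T1 :
    Algebra.FormallySmooth A B ↔
      ∀ (M : Type u) [AddCommGroup M] [Module B M], Subsingleton (T1 (canon A B) M) :=
  ⟨fun _ M _ _ => subsingleton_T1_of_formallySmooth (canon A B) M, formallySmooth_of_subsingleton_T1 A B⟩

end Canon

section Descend

variable {R S : Type u} [CommRing R] [CommRing S] [Algebra R S] (p : Submonoid R) [IsLocalization p S]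
  {n : ℕ} (f : Fin n → R)

lemma exists_smul_eq_mapRange (a : Fin n →₀ S) :
    ∃ s ∈ p, ∃ a0 : Fin n →₀ R, algebraMap R S s • a = Finsupp.mapRange (algebraMap R S) (map_zero _) a0 := by
  obtain ⟨s, hs⟩ := IsLocalization.exist_integer_multiples_of_finite p (fun i => a i)
  choose a0 ha0 using hs
  refine ⟨s, s.2, Finsupp.equivFunOnFinite.symm a0, Finsupp.ext fun i => ?_⟩
  rw [Finsupp.smul_apply, Finsupp.mapRange_apply, smul_eq_mul]
  change _ = algebraMap R S (a0 i)
  rw [ha0 i, Algebra.smul_def]

/-- Trivial relations over a localization come from trivial relations. -/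
lemma exists_trivSpan_descend {y : Fin n →₀ S} (hy : y ∈ trivSpan (fun i => algebraMap R S (f i))) :
    ∃ s ∈ p, ∃ y0 ∈ trivSpan f, algebraMap R S s • y = Finsupp.mapRange (algebraMap R S) (map_zero _) y0 := by
  have hlc : ∀ a : Fin n →₀ R, Finsupp.linearCombination S (fun i => algebraMap R S (f i))
      (Finsupp.mapRange (algebraMap R S) (map_zero _) a) = algebraMap R S (Finsupp.linearCombination R f a) := by
    intro a
    induction a using Finsupp.induction_linear with
    | zero => simp
    | add x y hx hy => rw [Finsupp.mapRange_add (map_add _), map_add, hx, hy, map_add, map_add]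
    | single i r => simp
  induction hy using Submodule.span_induction with
  | mem y hy =>
    obtain ⟨a, b, rfl⟩ := hy
    obtain ⟨s, hs, a0, ha⟩ := exists_smul_eq_mapRange p a
    obtain ⟨t, ht, b0, hb⟩ := exists_smul_eq_mapRange p b
    refine ⟨s * t, mul_mem hs ht, _, Submodule.subset_span ⟨a0, b0, rfl⟩, ?_⟩
    have e : ∀ (r : R) (x : Fin n →₀ R), Finsupp.mapRange (algebraMap R S) (map_zero _) (r • x) =
        algebraMap R S r • Finsupp.mapRange (algebraMap R S) (map_zero _) x := fun r x => by ext; simp [Algebra.smul_def]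
    rw [sub_eq_add_neg, sub_eq_add_neg, Finsupp.mapRange_add (map_add _), ← neg_smul, ← neg_smul, e, e, map_neg,
      ← hlc, ← hlc, ← ha, ← hb, map_smul, map_smul, smul_eq_mul, smul_eq_mul, map_mul]
    ext i
    simp only [Finsupp.smul_apply, Finsupp.add_apply, smul_eq_mul]
    ring
  | zero => exact ⟨1, one_mem _, 0, zero_mem _, by simp⟩
  | add x y _ _ hx hy =>
    obtain ⟨s, hs, x0, hx0, ex⟩ := hx
    obtain ⟨t, ht, y0, hy0, ey⟩ := hy
    refine ⟨s * t, mul_mem hs ht, t • x0 + s • y0,
      add_mem (Submodule.smul_mem _ _ hx0) (Submodule.smul_mem _ _ hy0), ?_⟩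
    rw [map_mul, smul_add, mul_smul, mul_smul, ey, smul_comm (algebraMap R S s), ex]
    ext i
    simp [Algebra.smul_def]
  | smul c x _ hx =>
    obtain ⟨s, hs, x0, hx0, ex⟩ := hx
    obtain ⟨⟨c0, t⟩, hc⟩ := IsLocalization.surj p c
    refine ⟨s * t, mul_mem hs t.2, c0 • x0, Submodule.smul_mem _ _ hx0, ?_⟩
    have e : Finsupp.mapRange (algebraMap R S) (map_zero _) (c0 • x0) =
        algebraMap R S c0 • Finsupp.mapRange (algebraMap R S) (map_zero _) x0 := by
      ext; simp [Algebra.smul_def]
    rw [e, ← ex, ← hc, map_mul, smul_smul, smul_smul]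
    congr 1
    ring

end Descend

section LocalPiece

variable {A B : Type u} [CommRing A] [CommRing B] [Algebra A B] (hs : Function.Surjective (algebraMap A B))
  {n : ℕ} (f : Fin n → A) (hf : Ideal.span (Set.range f) = RingHom.ker (algebraMap A B))

/-- Any presentation of a regular quotient of a regular local ring has injective `d₂`. -/
theorem d2_injective_quotPres [IsRegularLocalRing A] [IsRegularLocalRing B] :
    Function.Injective (d2 (quotPres hs f hf)) := by
  let P' := quotPres hs f hf
  haveI : IsRegularLocalRing (A ⧸ RingHom.ker (algebraMap A B)) :=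
    IsRegularLocalRing.of_ringEquiv (RingHom.quotientKerEquivOfSurjective hs).symm
  obtain ⟨x, c, hc, hx, hxc, -⟩ :=
    GrothLib.RegLoc.exists_generators_quotient _ A rfl (RingHom.ker (algebraMap A B))
  let Q' := quotPres hs (fun i => x (Fin.castLE hc i)) hxc.symm
  have hwr := GrothLib.RegLoc.isWeaklyRegular_ofFn _ A rfl x hx
  have htriv : ∀ r, jmap Q' r = 0 → r ∈ trivRel Q' := by
    refine relations_trivial_of_regular Q' fun i a ha => ?_
    obtain ⟨a, rfl⟩ := MvPolynomial.C_surjective PEmpty.{u + 1} a
    have himg : Ideal.span (rel Q' '' {j | j < i}) =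
        (Ideal.ofList ((List.ofFn x).take i)).map (MvPolynomial.C : A →+* MvPolynomial PEmpty.{u + 1} A) := by
      rw [Ideal.ofList, Ideal.map_span]
      refine congrArg Ideal.span ?_
      ext y
      constructor
      · rintro ⟨j, hj, rfl⟩
        exact ⟨x (Fin.castLE hc j), List.mem_take_iff_getElem.2
          ⟨j, lt_min hj (by simp; omega), by simp; rfl⟩, rfl⟩
      · rintro ⟨z, hz, rfl⟩
        obtain ⟨j, hj, rfl⟩ := List.mem_take_iff_getElem.1 hz
        refine ⟨⟨j, lt_trans (lt_min_iff.1 hj).1 i.2⟩, (lt_min_iff.1 hj).1, ?_⟩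
        simp
        rfl
    have ha' : MvPolynomial.C (a * x (Fin.castLE hc i)) ∈
        (Ideal.ofList ((List.ofFn x).take i)).map (MvPolynomial.C : A →+* MvPolynomial PEmpty.{u + 1} A) := by
      rw [map_mul]
      exact himg.le ha
    rw [Ideal.mem_map_iff_of_surjective _ (MvPolynomial.C_surjective _)] at ha'
    obtain ⟨b, hb, hbe⟩ := ha'
    rw [MvPolynomial.C_injective _ _ hbe] at hb
    refine himg.ge (Ideal.mem_map_of_mem _ ?_)
    have hr := hwr.regular_mod_prev i (by simp; omega)
    have e : (Ideal.ofList ((List.ofFn x).take i) • ⊤ : Submodule A A) = Ideal.ofList ((List.ofFn x).take i) := by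
      rw [smul_eq_mul, Ideal.mul_top]
    rw [isSMulRegular_iff_right_eq_zero_of_smul] at hr
    have h0 := hr (Submodule.Quotient.mk a) (by
      rw [← Submodule.Quotient.mk_smul, Submodule.Quotient.mk_eq_zero, e, List.getElem_ofFn, smul_eq_mul, mul_comm]
      exact hb)
    rwa [Submodule.Quotient.mk_eq_zero, e] at h0
  obtain ⟨θ, hθ⟩ := (Submodule.Quotient.mk_eq_zero _).1
    (((subsingleton_T2_iff P' Q' (L2 P')).2 (subsingleton_T2_of_relations_trivial Q' htriv _)).elim
      (toT2 P' (L2 P') LinearMap.id) 0)
  intro a b hab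
  have ha := LinearMap.congr_fun hθ a
  have hb := LinearMap.congr_fun hθ b
  rw [d2Star_apply, LinearMap.comp_apply, LinearMap.id_apply] at ha hb
  rw [← ha, ← hb, hab]

/-- The coefficient map of `quotPres`. -/
def quotCoeff : (quotPres hs f hf).toExtension.Ring →+* A :=
  (MvPolynomial.aeval (R := A) (fun i : PEmpty.{u + 1} => i.elim) : MvPolynomial PEmpty.{u + 1} A →ₐ[A] A).toRingHom

lemma quotCoeff_C (a : A) : quotCoeff hs f hf (MvPolynomial.C a) = a := MvPolynomial.aeval_C _ a

lemma mapRange_mem_trivSpan {y : relMod (quotPres hs f hf)} (hy : y ∈ trivRel (quotPres hs f hf)) :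
    Finsupp.mapRange (quotCoeff hs f hf) (map_zero _) y ∈ trivSpan f := by
  let e := quotCoeff hs f hf
  have hj : ∀ a : relMod (quotPres hs f hf),
      e (jmap _ a) = Finsupp.linearCombination A f (Finsupp.mapRange e (map_zero e) a) := by
    intro a
    induction a using Finsupp.induction_linear with
    | zero => simp
    | add x y hx hy => rw [map_add, map_add, hx, hy, Finsupp.mapRange_add (map_add e), map_add]
    | single i r =>
      rw [jmap_single, map_mul, Finsupp.mapRange_single, Finsupp.linearCombination_single, smul_eq_mul]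
      exact congrArg _ (quotCoeff_C hs f hf (f i))
  induction hy using Submodule.span_induction with
  | mem y hy =>
    obtain ⟨a, b, rfl⟩ := hy
    refine Submodule.subset_span ⟨Finsupp.mapRange e (map_zero e) a, Finsupp.mapRange e (map_zero e) b, ?_⟩
    rw [← hj, ← hj]
    ext i
    simp [e, map_sub]
  | zero => simp
  | add x y _ _ hx hy => rw [Finsupp.mapRange_add (map_add _)]; exact add_mem hx hy
  | smul r x _ hx =>
    have : Finsupp.mapRange (quotCoeff hs f hf) (map_zero _) (r • x) =
        quotCoeff hs f hf r • Finsupp.mapRange (quotCoeff hs f hf) (map_zero _) x := by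
      ext i; simp
    rw [this]
    exact Submodule.smul_mem _ _ hx

end LocalPiece

section LocalToGlobal

variable {k B : Type u} [Field k] [CommRing B] [Algebra k B] {ι : Type u} [Finite ι] {n : ℕ}
  (P : Algebra.Presentation k B ι (Fin n))

/-- At a prime over a regular point the relations of a presentation are trivial up to `I F`. -/
lemma exists_smul_mem_trivRel (m : Ideal P.toExtension.Ring) [m.IsPrime]
    (hI : P.toExtension.ker ≤ m)
    (hreg : ∀ (q : Ideal B) [q.IsPrime], q = m.map (algebraMap P.toExtension.Ring B) → IsRegularLocalRing (Localization.AtPrime q))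
    (q : relKer P) (hq : (1 : B) ⊗ₜ (q : relMod P) = (0 : L1 P)) :
    ∃ s ∉ m, s • (q : relMod P) ∈ trivRel P := by
  classical
  let R := P.toExtension.Ring
  let g : R →+* B := algebraMap P.toExtension.Ring B
  have hg : Function.Surjective g := algebraMap_surjective P
  haveI hQ : (m.map g).IsPrime := Ideal.map_isPrime_of_surjective hg hI
  have hcomap : m = (m.map g).comap g := by
    rw [Ideal.comap_map_of_surjective _ hg, ← RingHom.ker_eq_comap_bot]
    exact (sup_eq_left.2 hI).symm
  let Rm := Localization.AtPrime m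
  let Bq := Localization.AtPrime (m.map g)
  let ψ : Rm →+* Bq := Localization.localRingHom m (m.map g) g hcomap
  letI : Algebra Rm Bq := ψ.toAlgebra
  have hψ : ∀ x : R, algebraMap Rm Bq (algebraMap R Rm x) = algebraMap B Bq (g x) := fun x =>
    Localization.localRingHom_to_map _ _ _ hcomap x
  have hψs : Function.Surjective (algebraMap Rm Bq) := fun z => by
    obtain ⟨b, ⟨s, hs⟩, rfl⟩ := IsLocalization.exists_mk'_eq (m.map g).primeCompl z
    obtain ⟨x, rfl⟩ := hg b
    obtain ⟨y, rfl⟩ := hg s
    exact ⟨IsLocalization.mk' _ x (⟨y, fun h => hs (Ideal.mem_map_of_mem g h)⟩ : m.primeCompl),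
      Localization.localRingHom_mk' _ _ _ hcomap _ _⟩
  have hker : RingHom.ker (algebraMap Rm Bq) = P.toExtension.ker.map (algebraMap R Rm) := by
    refine le_antisymm (fun z hz => ?_) (Ideal.map_le_iff_le_comap.2 fun x hx => ?_)
    · obtain ⟨x, t, rfl⟩ := IsLocalization.exists_mk'_eq m.primeCompl z
      have h0 : algebraMap B Bq (g x) = 0 := by
        rw [← hψ, ← IsLocalization.mk'_spec Rm x t, map_mul,
          show algebraMap Rm Bq (IsLocalization.mk' Rm x t) = 0 from hz, zero_mul]
      obtain ⟨s, hs⟩ := (IsLocalization.map_eq_zero_iff (m.map g).primeCompl Bq _).1 h0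
      obtain ⟨y, hy⟩ := hg s
      have hym : y ∈ m.primeCompl := fun h => s.2 (hy ▸ Ideal.mem_map_of_mem g h)
      have hmem : algebraMap R Rm (y * x) ∈ P.toExtension.ker.map (algebraMap R Rm) :=
        Ideal.mem_map_of_mem _ (show g (y * x) = 0 by rw [map_mul, hy, hs])
      rw [map_mul, Ideal.unit_mul_mem_iff_mem _ (IsLocalization.map_units Rm ⟨y, hym⟩)] at hmem
      rw [IsLocalization.mk'_eq_mul_mk'_one]
      exact Ideal.mul_mem_right _ _ hmem
    · change algebraMap Rm Bq (algebraMap R Rm x) = 0
      rw [hψ, show g x = 0 from hx, map_zero]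
  let f : Fin n → Rm := fun i => algebraMap R Rm (rel P i)
  have hf : Ideal.span (Set.range f) = RingHom.ker (algebraMap Rm Bq) := by
    rw [hker, show (P.toExtension.ker : Ideal R) = Ideal.span (Set.range (rel P)) from
      P.span_range_relation_eq_ker.symm, Ideal.map_span, ← Set.range_comp]
    rfl
  let P' := quotPres hψs f hf
  haveI : IsRegularRing R := (inferInstance : IsRegularRing (MvPolynomial ι k))
  haveI : IsRegularLocalRing Rm := isRegularRing_iff.1 ‹IsRegularRing R› m
  haveI := hreg (m.map g) rfl
  have hinj : Function.Injective (d2 P') := d2_injective_quotPres hψs f hf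
  haveI : IsScalarTower k Rm Bq := IsScalarTower.of_algebraMap_eq fun x => by
    rw [IsScalarTower.algebraMap_apply k R Rm, hψ,
      show g (algebraMap k R x) = algebraMap k B x from (IsScalarTower.algebraMap_apply k R B x).symm,
      ← IsScalarTower.algebraMap_apply k B Bq]
  -- transport the relation
  let h : PresHom P P' :=
    { hom := ⟨fun i => MvPolynomial.C (algebraMap R Rm (MvPolynomial.X i)), fun i => by
        refine (MvPolynomial.aeval_C _ _).trans ((hψ _).trans ?_)
        exact congrArg _ ((algebraMap_toExtension P _).trans (MvPolynomial.aeval_X _ i))⟩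
      relVal := fun i => Finsupp.single i 1
      jmap_relVal := fun i => by
        rw [jmap_single, one_mul]
        change MvPolynomial.C (algebraMap R Rm (rel P i)) =
          MvPolynomial.aeval (fun i => MvPolynomial.C (algebraMap R Rm (MvPolynomial.X i))) (rel P i)
        exact DFunLike.congr_fun (MvPolynomial.aeval_unique
          ((IsScalarTower.toAlgHom k Rm (MvPolynomial PEmpty.{u + 1} Rm)).comp (IsScalarTower.toAlgHom k R Rm)))
          (rel P i) }
  have hring : ∀ r : R, h.ringHom r = MvPolynomial.C (algebraMap R Rm r) := fun r =>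
    (DFunLike.congr_fun (MvPolynomial.aeval_unique
      ((IsScalarTower.toAlgHom k Rm (MvPolynomial PEmpty.{u + 1} Rm)).comp (IsScalarTower.toAlgHom k R Rm))) r).symm
  have hz : h.relKerMap q = h.relKerMap q ∧ (h.relModMap q : relMod P') ∈ trivRel P' := by
    refine ⟨rfl, ?_⟩
    rw [← PresHom.relKerMap_coe, ← mk_one_tmul_eq_zero_iff]
    apply hinj
    rw [d2_mk_tmul, map_zero, PresHom.relKerMap_coe]
    have h1 := congrArg h.L1map hq
    rwa [PresHom.L1map_tmul, map_one, map_zero] at h1
  -- down to `R_m`
  let e := quotCoeff hψs f hf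
  have hmap : ∀ a : relMod P, Finsupp.mapRange e (map_zero e) (h.relModMap a) =
      Finsupp.mapRange (algebraMap R Rm) (map_zero _) a := by
    intro a
    induction a using Finsupp.induction_linear with
    | zero => simp
    | add x y hx hy => rw [map_add, Finsupp.mapRange_add (map_add e), hx, hy, Finsupp.mapRange_add (map_add _)]
    | single i r =>
      rw [PresHom.relModMap_single]
      change Finsupp.mapRange e (map_zero e) (h.ringHom r • Finsupp.single i (1 : P'.toExtension.Ring)) = _
      rw [Finsupp.smul_single, smul_eq_mul, mul_one, Finsupp.mapRange_single, Finsupp.mapRange_single]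
      exact congrArg _ ((congrArg e (hring r)).trans (quotCoeff_C hψs f hf _))
  have hy := mapRange_mem_trivSpan hψs f hf hz.2
  rw [hmap] at hy
  obtain ⟨s, hs, y0, hy0, hey⟩ := exists_trivSpan_descend m.primeCompl (rel P) hy
  have hy0' : y0 ∈ trivRel P := hy0
  have hu : ∀ i, ∃ v : m.primeCompl, (v : R) * (s * (q.1 i) - y0 i) = 0 := fun i => by
    refine (IsLocalization.map_eq_zero_iff m.primeCompl Rm _).1 ?_
    have hi := DFunLike.congr_fun hey i
    rw [Finsupp.smul_apply, Finsupp.mapRange_apply, Finsupp.mapRange_apply, smul_eq_mul] at hi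
    rw [map_sub, map_mul, hi, sub_self]
  choose v hv using hu
  let V : R := ∏ i, (v i : R)
  have hV : V ∈ m.primeCompl := Submonoid.prod_mem _ fun i _ => (v i).2
  refine ⟨V * s, fun h' => (Ideal.IsPrime.mem_or_mem inferInstance h').elim hV hs, ?_⟩
  have : (V * s) • (q : relMod P) = V • y0 := by
    refine Finsupp.ext fun i => ?_
    rw [Finsupp.smul_apply, Finsupp.smul_apply, smul_eq_mul, smul_eq_mul, mul_assoc, ← sub_eq_zero, ← mul_sub]
    obtain ⟨w, hw⟩ : (v i : R) ∣ V := Finset.dvd_prod_of_mem _ (Finset.mem_univ i)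
    rw [hw, mul_comm _ w, mul_assoc, hv, mul_zero]
  rw [this]
  exact Submodule.smul_mem _ _ hy0'

/-- `d₂` is injective for a presentation of a regular algebra. -/
theorem d2_injective_of_regular
    (hreg : ∀ (q : Ideal B) [q.IsPrime], IsRegularLocalRing (Localization.AtPrime q)) :
    Function.Injective (d2 P) := by
  rw [injective_iff_map_eq_zero]
  intro z hz
  obtain ⟨q, rfl⟩ := exists_mk_one_tmul_eq P z
  rw [d2_mk_tmul] at hz
  rw [mk_one_tmul_eq_zero_iff]
  let J : Ideal P.toExtension.Ring := (trivRel P).colon {(q : relMod P)}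
  have hJ : ∀ s, s ∈ J ↔ s • (q : relMod P) ∈ trivRel P := fun s => Submodule.mem_colon_singleton
  suffices J = ⊤ by simpa using (hJ 1).1 ((Ideal.eq_top_iff_one _).1 this)
  by_contra hne
  obtain ⟨m, hm, hle⟩ := Ideal.exists_le_maximal J hne
  by_cases hI : P.toExtension.ker ≤ m
  · obtain ⟨s, hs, hsq⟩ := exists_smul_mem_trivRel P m hI (fun q _ _ => hreg q) q hz
    exact hs (hle ((hJ s).2 hsq))
  · obtain ⟨r, hr, hrm⟩ := SetLike.not_le_iff_exists.1 hI
    refine hrm (hle ((hJ r).2 ?_))
    obtain ⟨g, rfl⟩ := exists_jmap_eq P hr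
    refine Submodule.subset_span ⟨g, q, ?_⟩
    rw [show jmap P (q : relMod P) = 0 from q.2, zero_smul, sub_zero]

end LocalToGlobal

section Field

variable (k B : Type u) [Field k] [CommRing B] [Algebra k B] [Algebra.FiniteType k B]

theorem subsingleton_T2_of_regular
    [Algebra.FormallySmooth k B] (M : Type u) [AddCommGroup M] [Module B M] :
    Subsingleton (T2 (canon k B) M) := by
  haveI : Algebra.FinitePresentation k B := Algebra.FinitePresentation.of_finiteType.1 inferInstance
  let P := (Algebra.Presentation.ofFinitePresentation k B).reindex Equiv.ulift.{u} (Equiv.refl _)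
  refine (subsingleton_T2_iff (canon k B) P M).2
    (subsingleton_T2_of_injective P (d2_injective_of_regular P fun q _ => ?_) M)
  haveI : Algebra.FormallyEtale B (Localization.AtPrime q) := .of_isLocalization q.primeCompl
  haveI : Algebra.IsSmoothAt k q := Algebra.FormallySmooth.comp k B _
  exact GrothLib.Serre.isRegularLocalRing_of_isSmoothAt (k := k) q

theorem formallySmooth_iff_regular [PerfectField k] :
    Algebra.FormallySmooth k B ↔ ∀ (q : Ideal B) [q.IsPrime], IsRegularLocalRing (Localization.AtPrime q) := by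
  haveI : Algebra.FinitePresentation k B := Algebra.FinitePresentation.of_finiteType.1 inferInstance
  constructor
  · intro _ q _
    haveI : Algebra.FormallyEtale B (Localization.AtPrime q) := .of_isLocalization q.primeCompl
    haveI : Algebra.IsSmoothAt k q := Algebra.FormallySmooth.comp k B _
    exact GrothLib.Serre.isRegularLocalRing_of_isSmoothAt (k := k) q
  · intro h
    rw [← Algebra.smoothLocus_eq_univ_iff]
    refine Set.eq_univ_of_forall fun q => ?_
    haveI := h q.asIdeal
    exact GrothLib.LocProp.isSmoothAt_of_isRegularLocalRing_of_perfectField q.asIdeal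

end Field

end GrothLib.CotT
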