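import Groth.Agent.Lib.CotT.ExalTriv
import Groth.Agent.Lib.CotT.Localization
import Mathlib.RingTheory.KrullDimension.Zero
import Mathlib.RingTheory.Nilpotent.Lemmas

/-!
# Conormal maps of general extensions
-/

universe u

noncomputable section

namespace GrothLib.CotT

open _root_.CotT TensorProduct

variable {A B : Type u} [CommRing A] [CommRing B] [Algebra A B]

/-- Vanishing of `T¹` extends maps on conormal modules to cotangent spaces, for any extension. -/
theorem exists_factor_of_subsingleton_T1 (P : Algebra.Extension.{u} A B) (N : Type u) [AddCommGroup N] [Module B N]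
    (hT : Subsingleton (T1 (canon A B) N)) (φ : P.Cotangent →ₗ[B] N) :
    ∃ w : P.CotangentSpace →ₗ[B] N, w ∘ₗ P.cotangentComplex = φ := by
  let G : Algebra.Generators A B P.Ring := Algebra.Generators.ofSurjective (algebraMap P.Ring B) fun b => by
    obtain ⟨e, rfl⟩ := P.algebraMap_surjective b
    exact ⟨MvPolynomial.X e, MvPolynomial.aeval_X _ e⟩
  let Q : Algebra.Presentation A B P.Ring {x : G.Ring // x ∈ G.ker} :=
    { G with
      relation := Subtype.val
      span_range_relation_eq_ker := by
        refine le_antisymm (Ideal.span_le.mpr ?_) fun x hx => Ideal.subset_span ⟨⟨x, hx⟩, rfl⟩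
        rintro _ ⟨r, rfl⟩
        exact r.2 }
  let π : Q.toExtension.Ring →ₐ[A] P.Ring := (MvPolynomial.aeval id : MvPolynomial P.Ring A →ₐ[A] P.Ring)
  have hπ : ∀ q : Q.toExtension.Ring, algebraMap P.Ring B (π q) = algebraMap Q.toExtension.Ring B q := fun q => by
    rw [algebraMap_toExtension]
    refine DFunLike.congr_fun (MvPolynomial.algHom_ext fun e => ?_ :
      (IsScalarTower.toAlgHom A P.Ring B).comp π = (MvPolynomial.aeval Q.val : MvPolynomial P.Ring A →ₐ[A] B)) q
    change algebraMap P.Ring B (MvPolynomial.aeval id (MvPolynomial.X e : MvPolynomial P.Ring A)) =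
      MvPolynomial.aeval Q.val (MvPolynomial.X e : MvPolynomial P.Ring A)
    rw [MvPolynomial.aeval_X, MvPolynomial.aeval_X]
    rfl
  let f : Q.toExtension.Hom P :=
    { toRingHom := π.toRingHom
      toRingHom_algebraMap := fun a => π.commutes a
      algebraMap_toRingHom := hπ }
  haveI : Subsingleton (T1 Q N) := (subsingleton_T1_iff (canon A B) Q N).1 hT
  let ψ : Q.toExtension.Cotangent →ₗ[B] N := φ.comp (Algebra.Extension.Cotangent.map f)
  have h0 : homToT1 Q N ψ = 0 := Subsingleton.elim _ _
  rw [← LinearMap.mem_ker, ker_homToT1] at h0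
  obtain ⟨w, hw⟩ := h0
  letI : Module P.Ring N := Module.compHom N (algebraMap P.Ring B)
  haveI : IsScalarTower P.Ring B N := ⟨fun x y z => by rw [Algebra.smul_def, mul_smul]; rfl⟩
  letI : Module A N := Module.compHom N (algebraMap A B)
  haveI : IsScalarTower A B N := ⟨fun x y z => by rw [Algebra.smul_def, mul_smul]; rfl⟩
  let d : Q.toExtension.Ring → N := fun q => w ((1 : B) ⊗ₜ KaehlerDifferential.D A Q.toExtension.Ring q)
  have hdadd : ∀ q q', d (q + q') = d q + d q' := fun q q' => by simp [d, map_add, tmul_add]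
  have hdsub : ∀ q q', d (q - q') = d q - d q' := fun q q' => by simp [d, map_sub, tmul_sub]
  have hdmul : ∀ q q', d (q * q') = algebraMap Q.toExtension.Ring B q • d q' + algebraMap Q.toExtension.Ring B q' • d q :=
    fun q q' => by
      simp only [d, Derivation.leibniz, tmul_add, tmul_smul, map_add]
      rw [← algebraMap_smul B q, ← algebraMap_smul B q', LinearMap.map_smul, LinearMap.map_smul]
  have hdC : ∀ a : A, d (algebraMap A Q.toExtension.Ring a) = 0 := fun a => by simp [d]
  have hker : ∀ q : Q.toExtension.ker, d q = φ (Algebra.Extension.Cotangent.mk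
      ⟨π q, (hπ q).trans q.2⟩) := fun q => by
    have h1 := LinearMap.congr_fun hw (Algebra.Extension.Cotangent.mk q)
    rw [LinearMap.lcomp_apply, Algebra.Extension.cotangentComplex_mk] at h1
    refine h1.trans ?_
    simp only [ψ, LinearMap.comp_apply, Algebra.Extension.Cotangent.map_mk]
    rfl
  have hkill : ∀ q q' : Q.toExtension.Ring, π q = π q' → d q = d q' := fun q q' h => by
    have hmem : q - q' ∈ Q.toExtension.ker := by
      change algebraMap Q.toExtension.Ring B (q - q') = 0
      rw [← hπ, map_sub π, h, sub_self, map_zero]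
    have h2 := hker ⟨q - q', hmem⟩
    rw [← sub_eq_zero, ← hdsub]
    refine h2.trans ?_
    rw [← map_zero φ]
    refine congrArg φ ?_
    rw [← map_zero Algebra.Extension.Cotangent.mk]
    refine congrArg _ (Subtype.ext ?_)
    change π (q - q') = 0
    rw [map_sub π, h, sub_self]
  haveI : IsScalarTower A P.Ring N := ⟨fun x y z => by
    change algebraMap P.Ring B (x • y) • z = algebraMap A B x • (algebraMap P.Ring B y • z)
    rw [Algebra.smul_def, map_mul, ← IsScalarTower.algebraMap_apply, mul_smul]⟩
  let X : P.Ring → Q.toExtension.Ring := fun e => MvPolynomial.X e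
  have hX : ∀ e, π (X e) = e := fun e => MvPolynomial.aeval_X _ e
  have hXB : ∀ e, algebraMap Q.toExtension.Ring B (X e) = algebraMap P.Ring B e := fun e => by
    rw [← hπ, hX]
  let D : Derivation A P.Ring N := Derivation.mk'
    { toFun := fun e => d (X e)
      map_add' := fun e e' => (hkill _ _ (by rw [hX, map_add π, hX, hX])).trans (hdadd _ _)
      map_smul' := fun a e => by
        refine (hkill _ (algebraMap A Q.toExtension.Ring a * X e)
          (by rw [hX, map_mul π, hX, π.commutes, Algebra.smul_def])).trans ?_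
        rw [hdmul, hdC, smul_zero, add_zero, ← IsScalarTower.algebraMap_apply, IsScalarTower.algebraMap_smul]
        rfl }
    fun e e' => by
      change d (X (e * e')) = e • d (X e') + e' • d (X e)
      rw [hkill _ (X e * X e') (by rw [hX, map_mul π, hX, hX]), hdmul, hXB, hXB]
      rfl
  refine ⟨D.liftKaehlerDifferential.liftBaseChange B, LinearMap.ext fun c => ?_⟩
  obtain ⟨i, rfl⟩ := Algebra.Extension.Cotangent.mk_surjective c
  rw [LinearMap.comp_apply, Algebra.Extension.cotangentComplex_mk, LinearMap.liftBaseChange_tmul, one_smul,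
    Derivation.liftKaehlerDifferential_comp_D]
  have hmem : X i ∈ Q.toExtension.ker := (hXB i).trans i.2
  exact (hker ⟨_, hmem⟩).trans (congrArg φ (congrArg _ (Subtype.ext (hX i))))

/-- `T¹` with values in modules over a formally smooth localization vanishes. -/
theorem subsingleton_T1_of_localization (S : Submonoid B) (B' : Type u) [CommRing B'] [Algebra B B']
    [IsLocalization S B'] [Algebra A B'] [IsScalarTower A B B'] [Algebra.FormallySmooth A B']
    (N : Type u) [AddCommGroup N] [Module B' N] [Module B N] [IsScalarTower B B' N] :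
    Subsingleton (T1 (canon A B) N) := by
  obtain ⟨-, -, -, -, δ₀, δ₁, -, -, hex, -⟩ := nineTerm (A := A) (B := B) (C := B') N
  haveI := subsingleton_T1_of_formallySmooth (canon A B') N
  haveI := subsingleton_T2_of_isLocalization S B' N
  refine subsingleton_of_forall_eq 0 fun z => ?_
  obtain ⟨x, rfl⟩ := (hex z).1 (Subsingleton.elim _ _)
  rw [Subsingleton.elim x 0, map_zero]

/-- Conormal sequences are exact on the left. -/
theorem cotangentComplex_injective_of_smoothAt_minimalPrimes [IsReduced B]
    (hsm : ∀ p : PrimeSpectrum B, p.asIdeal ∈ minimalPrimes B → Algebra.IsSmoothAt A p.asIdeal)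
    (P : Algebra.Extension.{u} A B) [Module.Projective B P.Cotangent] :
    Function.Injective P.cotangentComplex := by
  rw [injective_iff_map_eq_zero]
  intro x hx
  refine (Module.forall_dual_apply_eq_zero_iff B x).1 fun l => ?_
  have hnil : l x ∈ nilradical B := by
    rw [nilradical, ← Ideal.sInf_minimalPrimes, Submodule.mem_sInf]
    intro p hp
    haveI := hp.1.1
    haveI := hsm ⟨p, hp.1.1⟩ hp
    let K := Localization.AtPrime p
    obtain ⟨w, hw⟩ := exists_factor_of_subsingleton_T1 P K
      (subsingleton_T1_of_localization (Ideal.primeCompl p) K K) ((Algebra.linearMap B K).comp l)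
    have h1 : algebraMap B K (l x) = 0 := by
      have := LinearMap.congr_fun hw x
      rw [LinearMap.comp_apply, hx, map_zero, LinearMap.comp_apply, Algebra.linearMap_apply] at this
      exact this.symm
    obtain ⟨s, hs⟩ := (IsLocalization.map_eq_zero_iff (Ideal.primeCompl p) K _).1 h1
    exact (Ideal.IsPrime.mem_or_mem (I := p) hp.1.1 (show (s : B) * l x ∈ p by rw [hs]; exact p.zero_mem)).resolve_left s.2
  rwa [nilradical_eq_zero, Ideal.zero_eq_bot, Ideal.mem_bot] at hnil

end GrothLib.CotT

namespace GrothLib.CotT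

open _root_.CotT TensorProduct

attribute [local instance] Exal.opModule Exal.isCentralScalar_opModule

variable {A B : Type u} [CommRing A] [CommRing B] [Algebra A B]

lemma eq_zero_of_mk_eq_zero {P : Algebra.Extension.{u} A B} (hsq : P.ker ^ 2 = ⊥) {i : P.ker}
    (h : Algebra.Extension.Cotangent.mk i = 0) : i = 0 := by
  rw [Algebra.Extension.Cotangent.mk_eq_zero_iff, hsq, Ideal.mem_bot] at h
  exact Subtype.ext h

lemma toKaehler_map {P P' : Algebra.Extension.{u} A B} (f : P.Hom P') (y : P.CotangentSpace) :
    P'.toKaehler (Algebra.Extension.CotangentSpace.map f y) = P.toKaehler y := by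
  induction y using TensorProduct.induction_on with
  | zero => simp
  | add a b ha hb => rw [map_add, map_add, map_add, ha, hb]
  | tmul b w =>
    have hw : w ∈ Submodule.span P.Ring (Set.range (KaehlerDifferential.D A P.Ring)) :=
      (KaehlerDifferential.span_range_derivation A P.Ring).ge Submodule.mem_top
    induction hw using Submodule.span_induction generalizing b with
    | mem w hw =>
      obtain ⟨e, rfl⟩ := hw
      rw [Algebra.Extension.CotangentSpace.map_tmul]
      simp [Algebra.Extension.toKaehler]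
    | zero => simp
    | add a c _ _ ha hc => rw [tmul_add, map_add, map_add, map_add, ha, hc]
    | smul r w _ hw => rw [← TensorProduct.smul_tmul]; exact hw _

section Realize

variable (M N : Type u) [AddCommGroup M] [Module B M] [AddCommGroup N] [Module B N]
  (i : M →ₗ[B] N) (q : N →ₗ[B] Ω[B⁄A])

/-- `B ×_Ω N` inside `B ⊕ N`. -/
def conormalRing : Subalgebra A (Exal.Ext.TrivCarrier A B N) where
  carrier := {x | q (TrivSqZeroExt.snd (x : TrivSqZeroExt B N)) =
    KaehlerDifferential.D A B (TrivSqZeroExt.fst (x : TrivSqZeroExt B N))}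
  mul_mem' := by
    intro (x : TrivSqZeroExt B N) (y : TrivSqZeroExt B N) hx hy
    change q (x * y).snd = KaehlerDifferential.D A B (x * y).fst
    rw [TrivSqZeroExt.snd_mul, TrivSqZeroExt.fst_mul, Derivation.leibniz, map_add, map_smul, op_smul_eq_smul,
      map_smul, hx, hy]
  add_mem' := by
    intro (x : TrivSqZeroExt B N) (y : TrivSqZeroExt B N) hx hy
    change q (x + y).snd = KaehlerDifferential.D A B (x + y).fst
    rw [TrivSqZeroExt.snd_add, TrivSqZeroExt.fst_add, map_add, map_add, hx, hy]
  algebraMap_mem' a := by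
    change q (TrivSqZeroExt.inl (algebraMap A B a) : TrivSqZeroExt B N).snd = _
    rw [TrivSqZeroExt.snd_inl, map_zero]
    exact ((KaehlerDifferential.D A B).map_algebraMap a).symm

/-- Every extension of `Ω` by `M` is a conormal sequence. -/
theorem exists_extension_realizing (hi : Function.Injective i) (hq : Function.Surjective q)
    (hex : Function.Exact i q) :
    ∃ P : Algebra.Extension.{u} A B, P.ker ^ 2 = ⊥ ∧
      ∃ (e₁ : P.Cotangent ≃ₗ[B] M) (e₂ : P.CotangentSpace ≃ₗ[B] N),
        (∀ x, e₂ (P.cotangentComplex x) = i (e₁ x)) ∧ (∀ y, q (e₂ y) = P.toKaehler y) := by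
  let E := conormalRing (A := A) N q
  let fst' : E →ₐ[A] B := (Exal.Ext.trivial A B N).proj.comp E.val
  let fst : E → B := fun e => TrivSqZeroExt.fst (Subtype.val e : TrivSqZeroExt B N)
  let snd : E → N := fun e => TrivSqZeroExt.snd (Subtype.val e : TrivSqZeroExt B N)
  have hE : ∀ e, q (snd e) = KaehlerDifferential.D A B (fst e) := fun e => e.2
  have hsurj : Function.Surjective fst' := fun b => by
    obtain ⟨n, hn⟩ := hq (KaehlerDifferential.D A B b)
    exact ⟨⟨(TrivSqZeroExt.inl b + TrivSqZeroExt.inr n : TrivSqZeroExt B N), by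
      change q (TrivSqZeroExt.inl b + TrivSqZeroExt.inr n : TrivSqZeroExt B N).snd = _
      simpa using hn⟩, by change (TrivSqZeroExt.inl b + TrivSqZeroExt.inr n : TrivSqZeroExt B N).fst = b; simp⟩
  let P : Algebra.Extension.{u} A B := Algebra.Extension.ofSurjective fst' hsurj
  have halg : ∀ e : E, algebraMap P.Ring B e = fst e := fun e => rfl
  have hker : ∀ x : P.ker, fst (x : P.Ring) = 0 := fun x => x.2
  have hsq : P.ker ^ 2 = ⊥ := by
    rw [eq_bot_iff, pow_two, Ideal.mul_le]
    intro x hx y hy
    have hx0 : fst x = 0 := hx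
    have hy0 : fst y = 0 := hy
    rw [Ideal.mem_bot]
    refine Subtype.ext (TrivSqZeroExt.ext ?_ ?_)
    · change fst x * fst y = 0
      rw [hx0, zero_mul]
    · change fst x • snd y + MulOpposite.op (fst y) • snd x = 0
      rw [hx0, hy0, MulOpposite.op_zero, zero_smul, zero_smul, add_zero]
  refine ⟨P, hsq, ?_⟩
  let ι : M → P.ker := fun m => ⟨(⟨(TrivSqZeroExt.inr (i m) : TrivSqZeroExt B N), by
    change q (TrivSqZeroExt.inr (i m) : TrivSqZeroExt B N).snd = _
    rw [TrivSqZeroExt.snd_inr, TrivSqZeroExt.fst_inr, map_zero]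
    exact hex.apply_apply_eq_zero m⟩ : E), TrivSqZeroExt.fst_inr B (i m)⟩
  have hι : ∀ m, snd (ι m : P.Ring) = i m := fun m => rfl
  let j : M →ₗ[B] P.Cotangent :=
    { toFun := fun m => Algebra.Extension.Cotangent.mk (ι m)
      map_add' := fun m m' => by
        rw [← map_add]
        exact congrArg _ (Subtype.ext (Subtype.ext ((congrArg TrivSqZeroExt.inr (map_add i m m')).trans
          (TrivSqZeroExt.inr_add B _ _))))
      map_smul' := fun b m => by
        obtain ⟨e, rfl⟩ := P.algebraMap_surjective b
        rw [RingHom.id_apply, algebraMap_smul B e (Algebra.Extension.Cotangent.mk (ι m)),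
          ← LinearMap.map_smul Algebra.Extension.Cotangent.mk e (ι m)]
        refine congrArg _ (Subtype.ext (Subtype.ext (TrivSqZeroExt.ext ?_ ?_)))
        · change (0 : B) = fst e * 0
          rw [mul_zero]
        · change i (fst e • m) = fst e • i m + MulOpposite.op (0 : B) • snd e
          rw [map_smul, MulOpposite.op_zero, zero_smul, add_zero] }
  have hj : Function.Bijective j := by
    constructor
    · refine (injective_iff_map_eq_zero j).2 fun m hm => hi ?_
      rw [map_zero, ← hι m, eq_zero_of_mk_eq_zero hsq hm]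
      rfl
    · intro c
      obtain ⟨x, rfl⟩ := Algebra.Extension.Cotangent.mk_surjective c
      obtain ⟨m, hm⟩ := (hex (snd (x : P.Ring))).1 (by rw [hE, hker, map_zero])
      refine ⟨m, congrArg _ (Subtype.ext (Subtype.ext (TrivSqZeroExt.ext ?_ ?_)))⟩
      · exact (TrivSqZeroExt.fst_inr B (i m)).trans (hker x).symm
      · exact hm
  let e₁ := (LinearEquiv.ofBijective j hj).symm
  have he₁ : ∀ x : P.ker, i (e₁ (Algebra.Extension.Cotangent.mk x)) = snd (x : P.Ring) := fun x => by
    obtain ⟨m, hm⟩ := hj.2 (Algebra.Extension.Cotangent.mk x)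
    have hx : ι m = x := sub_eq_zero.1 (eq_zero_of_mk_eq_zero hsq (by rw [map_sub]; exact sub_eq_zero.2 hm))
    rw [← hm, show e₁ (j m) = m from (LinearEquiv.ofBijective j hj).symm_apply_apply m, ← hι, hx]
  letI : Module P.Ring N := Module.compHom N (algebraMap P.Ring B)
  haveI : IsScalarTower P.Ring B N := ⟨fun x y z => by rw [Algebra.smul_def, mul_smul]; rfl⟩
  letI : Module A N := Module.compHom N (algebraMap A B)
  haveI : IsScalarTower A B N := ⟨fun x y z => by rw [Algebra.smul_def, mul_smul]; rfl⟩
  haveI : IsScalarTower A P.Ring N := ⟨fun x y z => by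
    change algebraMap P.Ring B (x • y) • z = algebraMap A B x • (algebraMap P.Ring B y • z)
    rw [Algebra.smul_def, map_mul, ← IsScalarTower.algebraMap_apply, mul_smul]⟩
  let D : Derivation A P.Ring N := Derivation.mk'
    { toFun := fun e => snd e
      map_add' := fun e e' => TrivSqZeroExt.snd_add _ _
      map_smul' := fun a e => by
        rw [Algebra.smul_def]
        change algebraMap A B a • snd e + MulOpposite.op (fst e) • (0 : N) = algebraMap A B a • snd e
        rw [smul_zero, add_zero] }
    fun e e' => by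
      change fst e • snd e' + MulOpposite.op (fst e') • snd e = fst e • snd e' + fst e' • snd e
      rw [op_smul_eq_smul]
  let f : P.CotangentSpace →ₗ[B] N := D.liftKaehlerDifferential.liftBaseChange B
  have hf : ∀ (b : B) (e : P.Ring), f (b ⊗ₜ KaehlerDifferential.D A P.Ring e) = b • snd e := fun b e => by
    simp [f, D]
  have hcc : ∀ x, f (P.cotangentComplex x) = i (e₁ x) := fun x => by
    obtain ⟨y, rfl⟩ := Algebra.Extension.Cotangent.mk_surjective x
    rw [Algebra.Extension.cotangentComplex_mk, hf, one_smul, he₁]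
  have hK : ∀ y, q (f y) = P.toKaehler y := fun y => by
    induction y using TensorProduct.induction_on with
    | zero => simp
    | add a b ha hb => rw [map_add, map_add, map_add, ha, hb]
    | tmul b w =>
      have hw : w ∈ Submodule.span P.Ring (Set.range (KaehlerDifferential.D A P.Ring)) :=
        (KaehlerDifferential.span_range_derivation A P.Ring).ge Submodule.mem_top
      induction hw using Submodule.span_induction generalizing b with
      | mem w hw =>
        obtain ⟨e, rfl⟩ := hw
        rw [hf, map_smul, hE]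
        simp [Algebra.Extension.toKaehler, halg]
      | zero => simp
      | add a c _ _ ha hc => rw [tmul_add, map_add, map_add, map_add, ha, hc]
      | smul r w _ hw => rw [← TensorProduct.smul_tmul]; exact hw _
  have hfb : Function.Bijective f := by
    constructor
    · refine (injective_iff_map_eq_zero f).2 fun y hy => ?_
      obtain ⟨x, rfl⟩ := (P.exact_cotangentComplex_toKaehler y).1 (by rw [← hK, hy, map_zero])
      rw [hcc] at hy
      rw [e₁.map_eq_zero_iff.1 (hi (hy.trans (map_zero i).symm)), map_zero]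
    · intro n
      obtain ⟨y, hy⟩ := P.toKaehler_surjective (q n)
      obtain ⟨m, hm⟩ := (hex (n - f y)).1 (by rw [map_sub, hK, hy, sub_self])
      refine ⟨y + P.cotangentComplex (e₁.symm m), ?_⟩
      rw [map_add, hcc, LinearEquiv.apply_symm_apply, hm, add_sub_cancel]
  exact ⟨e₁, LinearEquiv.ofBijective f hfb, hcc, hK⟩

end Realize

/-- Extensions with isomorphic conormal sequences are isomorphic. -/
theorem exists_hom_bijective_of_iso (P P' : Algebra.Extension.{u} A B) (hsq : P.ker ^ 2 = ⊥) (hsq' : P'.ker ^ 2 = ⊥)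
    (hinj : Function.Injective P.cotangentComplex)
    (e₁ : P.Cotangent ≃ₗ[B] P'.Cotangent) (e₂ : P.CotangentSpace ≃ₗ[B] P'.CotangentSpace)
    (h₁ : ∀ x, e₂ (P.cotangentComplex x) = P'.cotangentComplex (e₁ x))
    (h₂ : ∀ y, P'.toKaehler (e₂ y) = P.toKaehler y) :
    ∃ f : P.Hom P', Function.Bijective f.toRingHom ∧
      Algebra.Extension.Cotangent.map f = e₁.toLinearMap := by
  have hinj' : Function.Injective P'.cotangentComplex := fun a b h => by
    obtain ⟨a, rfl⟩ := e₁.surjective a
    obtain ⟨b, rfl⟩ := e₁.surjective b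
    rw [← h₁, ← h₁] at h
    rw [hinj (e₂.injective h)]
  let G : Algebra.Generators A B P.Ring := Algebra.Generators.ofSurjective (algebraMap P.Ring B) fun b => by
    obtain ⟨e, rfl⟩ := P.algebraMap_surjective b
    exact ⟨MvPolynomial.X e, MvPolynomial.aeval_X _ e⟩
  let Q := G.toExtension
  have hQ : ∀ q : Q.Ring, algebraMap Q.Ring B q = MvPolynomial.aeval G.val q := fun q => G.algebraMap_apply q
  let s := Function.surjInv P'.algebraMap_surjective
  let π : Q.Ring →ₐ[A] P.Ring := (MvPolynomial.aeval id : MvPolynomial P.Ring A →ₐ[A] P.Ring)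
  let π' : Q.Ring →ₐ[A] P'.Ring :=
    (MvPolynomial.aeval fun e => s (algebraMap P.Ring B e) : MvPolynomial P.Ring A →ₐ[A] P'.Ring)
  have hπ : ∀ q : Q.Ring, algebraMap P.Ring B (π q) = algebraMap Q.Ring B q := fun q => by
    rw [hQ]
    refine DFunLike.congr_fun (MvPolynomial.algHom_ext fun e => ?_ :
      (IsScalarTower.toAlgHom A P.Ring B).comp π = (MvPolynomial.aeval G.val : MvPolynomial P.Ring A →ₐ[A] B)) q
    change algebraMap P.Ring B (MvPolynomial.aeval id (MvPolynomial.X e : MvPolynomial P.Ring A)) =
      MvPolynomial.aeval G.val (MvPolynomial.X e : MvPolynomial P.Ring A)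
    rw [MvPolynomial.aeval_X, MvPolynomial.aeval_X]
    rfl
  have hπ' : ∀ q : Q.Ring, algebraMap P'.Ring B (π' q) = algebraMap Q.Ring B q := fun q => by
    rw [hQ]
    refine DFunLike.congr_fun (MvPolynomial.algHom_ext fun e => ?_ :
      (IsScalarTower.toAlgHom A P'.Ring B).comp π' = (MvPolynomial.aeval G.val : MvPolynomial P.Ring A →ₐ[A] B)) q
    change algebraMap P'.Ring B (MvPolynomial.aeval (fun e => s (algebraMap P.Ring B e)) (MvPolynomial.X e : MvPolynomial P.Ring A)) =
      MvPolynomial.aeval G.val (MvPolynomial.X e : MvPolynomial P.Ring A)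
    rw [MvPolynomial.aeval_X, MvPolynomial.aeval_X, Function.surjInv_eq P'.algebraMap_surjective]
    rfl
  let p : Q.Hom P := ⟨π.toRingHom, fun a => π.commutes a, hπ⟩
  let p' : Q.Hom P' := ⟨π'.toRingHom, fun a => π'.commutes a, hπ'⟩
  let Δ : Q.CotangentSpace →ₗ[B] P'.CotangentSpace :=
    e₂.toLinearMap.comp (Algebra.Extension.CotangentSpace.map p) - Algebra.Extension.CotangentSpace.map p'
  have hΔ : ∀ y, P'.toKaehler (Δ y) = 0 := fun y => by
    rw [LinearMap.sub_apply, map_sub, LinearMap.comp_apply, LinearEquiv.coe_coe, h₂,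
      toKaehler_map, toKaehler_map, sub_self]
  let ec := LinearEquiv.ofInjective P'.cotangentComplex hinj'
  let w : Q.CotangentSpace →ₗ[B] P'.Cotangent :=
    ec.symm.toLinearMap.comp (Δ.codRestrict _ fun y => LinearMap.mem_range.2 ((P'.exact_cotangentComplex_toKaehler _).1 (hΔ y)))
  have hw : ∀ y, P'.cotangentComplex (w y) = Δ y := fun y => by
    have := congrArg Subtype.val (ec.apply_symm_apply ⟨Δ y, LinearMap.mem_range.2 ((P'.exact_cotangentComplex_toKaehler _).1 (hΔ y))⟩)
    simpa [w, ec] using this
  have hwφ : ∀ c, w (Q.cotangentComplex c) =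
      e₁ (Algebra.Extension.Cotangent.map p c) - Algebra.Extension.Cotangent.map p' c := fun c => hinj' (by
    rw [hw, map_sub, ← h₁, LinearMap.sub_apply, LinearMap.comp_apply, LinearEquiv.coe_coe,
      Algebra.Extension.CotangentSpace.map_cotangentComplex, Algebra.Extension.CotangentSpace.map_cotangentComplex])
  -- the conormal module as a square-zero ideal
  let mk' : P'.ker ≃+ P'.Cotangent := AddEquiv.ofBijective Algebra.Extension.Cotangent.mk.toAddMonoidHom
    ⟨(injective_iff_map_eq_zero _).2 fun x hx => eq_zero_of_mk_eq_zero hsq' hx, Algebra.Extension.Cotangent.mk_surjective⟩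
  let ι : P'.Cotangent →+ P'.Ring := P'.ker.subtype.toAddMonoidHom.comp mk'.symm.toAddMonoidHom
  have hιmk : ∀ x : P'.ker, ι (Algebra.Extension.Cotangent.mk x) = x := fun x =>
    congrArg Subtype.val (mk'.symm_apply_apply x)
  have hιker : ∀ c, algebraMap P'.Ring B (ι c) = 0 := fun c => (mk'.symm c).2
  have hιsmul : ∀ (r : P'.Ring) c, ι (algebraMap P'.Ring B r • c) = r * ι c := fun r c => by
    obtain ⟨x, rfl⟩ := Algebra.Extension.Cotangent.mk_surjective c
    rw [algebraMap_smul, ← LinearMap.map_smul Algebra.Extension.Cotangent.mk r x, hιmk, hιmk]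
    rfl
  have hιmul : ∀ c d, ι c * ι d = 0 := fun c d => by
    rw [← Ideal.mem_bot, ← hsq', pow_two]
    exact Ideal.mul_mem_mul (hιker c) (hιker d)
  let d : Q.Ring → P'.Cotangent := fun q => w ((1 : B) ⊗ₜ KaehlerDifferential.D A Q.Ring q)
  have hdadd : ∀ q q', d (q + q') = d q + d q' := fun q q' => by simp [d, map_add, tmul_add]
  have hdmul : ∀ q q', d (q * q') = algebraMap Q.Ring B q • d q' + algebraMap Q.Ring B q' • d q :=
    fun q q' => by
      simp only [d, Derivation.leibniz, tmul_add, tmul_smul, map_add]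
      rw [← algebraMap_smul B q, ← algebraMap_smul B q', LinearMap.map_smul, LinearMap.map_smul]
  let F : Q.Ring →ₐ[A] P'.Ring :=
    { toFun := fun q => π' q + ι (d q)
      map_one' := by simp [d]
      map_mul' := fun a b => by
        rw [hdmul, map_add ι, ← hπ', ← hπ', hιsmul, hιsmul, map_mul π', add_mul, mul_add, mul_add, hιmul, add_zero,
          mul_comm (ι (d a)) (π' b)]
        abel
      map_zero' := by simp [d]
      map_add' := fun a b => by rw [hdadd, map_add, map_add]; abel
      commutes' := fun a => by simp [d] }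
  have hFalg : ∀ q, algebraMap P'.Ring B (F q) = algebraMap Q.Ring B q := fun q => by
    change algebraMap P'.Ring B (π' q + ι (d q)) = _
    rw [map_add, hιker, add_zero, hπ']
  have hFker : ∀ (c : Q.ker), F c = ι (e₁ (Algebra.Extension.Cotangent.mk
      ⟨π c, (hπ c).trans c.2⟩)) := fun c => by
    change π' c + ι (w ((1 : B) ⊗ₜ KaehlerDifferential.D A Q.Ring c)) = _
    rw [← Algebra.Extension.cotangentComplex_mk, hwφ, map_sub, Algebra.Extension.Cotangent.map_mk,
      Algebra.Extension.Cotangent.map_mk, hιmk]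
    exact add_sub_cancel _ _
  have hFwd : ∀ q, π q = 0 → F q = 0 := fun q hq => by
    have hm : q ∈ Q.ker := (hπ q).symm.trans (by rw [hq, map_zero])
    rw [hFker ⟨q, hm⟩, show (⟨π q, (hπ q).trans hm⟩ : P.ker) = 0 from Subtype.ext hq, map_zero, map_zero, map_zero]
  have hπs : Function.Surjective π.toRingHom := fun e => ⟨MvPolynomial.X e, MvPolynomial.aeval_X _ e⟩
  let f₀ : P.Ring →+* P'.Ring := RingHom.liftOfSurjective π.toRingHom hπs ⟨F.toRingHom, fun q hq => hFwd q hq⟩
  have hf₀ : ∀ q, f₀ (π q) = F q := fun q => RingHom.liftOfRightInverse_comp_apply _ _ _ _ q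
  let f : P.Hom P' := ⟨f₀, fun a => by rw [← π.commutes, hf₀, F.commutes]; rfl, fun x => by
    obtain ⟨q, rfl⟩ := hπs x
    change algebraMap P'.Ring B (f₀ (π q)) = algebraMap P.Ring B (π q)
    rw [hf₀, hFalg, hπ]⟩
  have hfker : ∀ x : P.ker, f₀ x = ι (e₁ (Algebra.Extension.Cotangent.mk x)) := fun x => by
    obtain ⟨q, hq⟩ := hπs (x : P.Ring)
    have hq' : π q = x := hq
    have hm : q ∈ Q.ker := (hπ q).symm.trans (by rw [hq']; exact x.2)
    rw [← hq', hf₀, hFker ⟨q, hm⟩]
    exact congrArg (fun y => ι (e₁ (Algebra.Extension.Cotangent.mk y))) (Subtype.ext hq')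
  have halg : ∀ x, algebraMap P'.Ring B (f₀ x) = algebraMap P.Ring B x := fun x => f.algebraMap_toRingHom x
  refine ⟨f, ⟨(injective_iff_map_eq_zero f₀).2 fun x hx => ?_, fun y => ?_⟩, LinearMap.ext fun c => ?_⟩
  · have hm : x ∈ P.ker := (halg x).symm.trans (by rw [hx, map_zero])
    have h0 := (hfker ⟨x, hm⟩).symm.trans hx
    have h1 : e₁ (Algebra.Extension.Cotangent.mk ⟨x, hm⟩) = 0 :=
      mk'.symm.injective (Subtype.ext (h0.trans (map_zero ι).symm))
    exact congrArg Subtype.val (eq_zero_of_mk_eq_zero hsq (e₁.map_eq_zero_iff.1 h1))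
  · obtain ⟨x, hx⟩ := P.algebraMap_surjective (algebraMap P'.Ring B y)
    have hm : y - f₀ x ∈ P'.ker := by
      change algebraMap P'.Ring B (y - f₀ x) = 0
      rw [map_sub, halg, hx, sub_self]
    obtain ⟨z, hz⟩ := Algebra.Extension.Cotangent.mk_surjective (e₁.symm (Algebra.Extension.Cotangent.mk ⟨_, hm⟩))
    refine ⟨x + z, ?_⟩
    change f₀ (x + z) = y
    rw [map_add, hfker z, hz, LinearEquiv.apply_symm_apply, hιmk, add_sub_cancel]
  · obtain ⟨x, rfl⟩ := Algebra.Extension.Cotangent.mk_surjective c
    rw [Algebra.Extension.Cotangent.map_mk]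
    obtain ⟨y, hy⟩ := Algebra.Extension.Cotangent.mk_surjective (e₁ (Algebra.Extension.Cotangent.mk x))
    rw [LinearEquiv.coe_coe, ← hy]
    refine congrArg _ (Subtype.ext ?_)
    change f₀ x = y
    rw [hfker, ← hy, hιmk]

end GrothLib.CotT
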